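import Mathlib

/-!
# Traces of finite order complex matrices and field endomorphisms

If `M ^ n = 1` then `trace (M ^ m)` is a natural combination of `m`-th powers of `n`-th roots
of unity; hence a field endomorphism raising `n`-th roots of unity to the `k`-th power sends
`trace M` to `trace (M ^ k)`.
-/

namespace CfsgLib.Chars17

open Matrix Finset

/-- An injective ring map into `ℂ` extends along an algebraic extension. -/
theorem exists_ringHom_extend {A S : Type*} [CommRing A] [CommRing S] [IsDomain S] [Algebra A S]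
    [Module.IsTorsionFree A S] [Algebra.IsAlgebraic A S] [IsDomain A] (ψ : A →+* ℂ)
    (hψ : Function.Injective ψ) : ∃ σ : S →+* ℂ, ∀ a : A, σ (algebraMap A S a) = ψ a := by
  letI : Algebra A ℂ := ψ.toAlgebra
  have : Module.IsTorsionFree A ℂ := Module.isTorsionFree_iff_algebraMap_injective.2 hψ
  let σ : S →ₐ[A] ℂ := IsAlgClosed.lift
  exact ⟨σ.toRingHom, fun a => σ.commutes a⟩

/-- A ring endomorphism of `ℂ` raising every `n`-th root of unity to its `k`-th power. -/
theorem exists_ringHom_pow_on_roots {n k : ℕ} (hn : 0 < n) (hk : Nat.Coprime k n) :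
    ∃ σ : ℂ →+* ℂ, ∀ z : ℂ, z ^ n = 1 → σ z = z ^ k := by
  classical
  obtain ⟨ω, hω⟩ : ∃ ω : ℂ, IsPrimitiveRoot ω n := ⟨_, Complex.isPrimitiveRoot_exp n hn.ne'⟩
  have hint : IsIntegral ℚ ω := (hω.isIntegral hn).tower_top
  set K : IntermediateField ℚ ℂ := IntermediateField.adjoin ℚ {ω} with hK
  have hωK : ω ∈ K := IntermediateField.mem_adjoin_simple_self ℚ ω
  have hωk : IsPrimitiveRoot (⟨ω ^ k, pow_mem hωK k⟩ : K) n := by
    exact IsPrimitiveRoot.of_map_of_injective (f := algebraMap K ℂ) (hω.pow_of_coprime k hk)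
      (algebraMap K ℂ).injective
  have hroot : Polynomial.aeval (⟨ω ^ k, pow_mem hωK k⟩ : K)
      (minpoly ℚ (IntermediateField.adjoin.powerBasis hint).gen) = 0 := by
    have : (IntermediateField.adjoin.powerBasis hint).gen = IntermediateField.AdjoinSimple.gen ℚ ω :=
      IntermediateField.adjoin.powerBasis_gen hint
    rw [this]
    erw [IntermediateField.minpoly_gen]
    rw [← Polynomial.cyclotomic_eq_minpoly_rat hω hn]
    have := hωk.isRoot_cyclotomic hn
    rwa [Polynomial.aeval_def, Polynomial.eval₂_eq_eval_map, Polynomial.map_cyclotomic]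
  let g : K →ₐ[ℚ] K := (IntermediateField.adjoin.powerBasis hint).lift _ hroot
  have hg : (g ⟨ω, hωK⟩ : ℂ) = ω ^ k := by
    have h1 := (IntermediateField.adjoin.powerBasis hint).lift_gen _ hroot
    rw [IntermediateField.adjoin.powerBasis_gen hint] at h1
    exact congrArg Subtype.val h1
  obtain ⟨s, hs⟩ := exists_isTranscendenceBasis K ℂ
  have : Algebra.IsAlgebraic (Algebra.adjoin K (Set.range ((↑) : s → ℂ))) ℂ := hs.isAlgebraic
  let A := Algebra.adjoin K (Set.range ((↑) : s → ℂ))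
  let ψ : A →+* ℂ :=
    ((MvPolynomial.aeval ((↑) : s → ℂ)).toRingHom.comp (MvPolynomial.map g.toRingHom)).comp
      hs.1.aevalEquiv.symm.toRingEquiv.toRingHom
  have hψinj : Function.Injective ψ := by
    intro a b h
    apply hs.1.aevalEquiv.symm.injective
    apply MvPolynomial.map_injective g.toRingHom g.toRingHom.injective
    exact algebraicIndependent_iff_injective_aeval.1 hs.1 h
  obtain ⟨σ, hσ⟩ := exists_ringHom_extend (A := A) (S := ℂ) ψ hψinj
  refine ⟨σ, fun z hz => ?_⟩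
  have hσω : σ ω = ω ^ k := by
    have h1 := hσ (algebraMap K A ⟨ω, hωK⟩)
    rw [show algebraMap A ℂ (algebraMap K A ⟨ω, hωK⟩) = ω from rfl] at h1
    rw [h1]
    simp only [ψ, RingHom.coe_comp, Function.comp_apply, RingEquiv.toRingHom_eq_coe,
      RingHom.coe_coe, AlgEquiv.coe_ringEquiv, AlgEquiv.commutes,
      MvPolynomial.algebraMap_eq, MvPolynomial.map_C, AlgHom.toRingHom_eq_coe, MvPolynomial.aeval_C]
    exact hg
  haveI : NeZero n := ⟨hn.ne'⟩
  obtain ⟨i, -, rfl⟩ := hω.eq_pow_of_pow_eq_one hz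
  rw [map_pow, hσω, ← pow_mul, ← pow_mul, mul_comm]

variable {ι : Type*} [Fintype ι] [DecidableEq ι]

/-- The trace of an idempotent matrix over a field of characteristic zero is a natural number,
and it is zero only for the zero matrix. -/
theorem exists_nat_trace_idempotent {E : Matrix ι ι ℂ} (h : IsIdempotentElem E) :
    ∃ d : ℕ, E.trace = (d : ℂ) ∧ (d = 0 → E = 0) := by
  have hl : IsIdempotentElem (Matrix.toLin' E) := h.map (Matrix.toLinAlgEquiv' : Matrix ι ι ℂ ≃ₐ[ℂ] _)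
  obtain ⟨p, hp⟩ : ∃ p : Submodule ℂ (ι → ℂ), LinearMap.IsProj p (Matrix.toLin' E) :=
    ⟨_, LinearMap.IsIdempotentElem.isProj_range _ hl⟩
  have ht : E.trace = (Module.finrank ℂ p : ℂ) := by
    rw [← Matrix.trace_toLin'_eq, hp.trace]
  refine ⟨_, ht, fun h0 => ?_⟩
  have hl0 : Matrix.toLin' E = 0 :=
    LinearMap.IsIdempotentElem.eq_zero_of_trace_eq_zero hl
      (by rw [Matrix.trace_toLin'_eq, ht, h0, Nat.cast_zero])
  exact Matrix.toLin'.map_eq_zero_iff.1 hl0

/-- The eigenvalue decomposition of the traces of the powers of a matrix of finite order. -/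
theorem exists_trace_pow_eq_sum {n : ℕ} (hn : 0 < n) {ω : ℂ} (hω : IsPrimitiveRoot ω n)
    (M : Matrix ι ι ℂ) (hM : M ^ n = 1) :
    ∃ d : Fin n → ℕ, (∀ m : ℕ, (M ^ m).trace = ∑ j : Fin n, (d j : ℂ) * (ω ^ (j : ℕ)) ^ m) ∧
      ((∀ j : Fin n, (j : ℕ) ≠ 0 → d j = 0) → M = 1) := by
  classical
  have hn0 : (n : ℂ) ≠ 0 := Nat.cast_ne_zero.2 hn.ne'
  have hω0 : ω ≠ 0 := hω.ne_zero hn.ne'
  -- `u j` is the `j`-th root, `S x` the twisted sum of powers
  set E : Fin n → Matrix ι ι ℂ := fun j =>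
    (n : ℂ)⁻¹ • ∑ i ∈ range n, ((ω ^ (j : ℕ)) ^ i)⁻¹ • M ^ i with hE
  have hEM : ∀ j : Fin n, E j * M = (ω ^ (j : ℕ)) • E j := by
    intro j
    set u := ω ^ (j : ℕ) with hu
    have hu0 : u ≠ 0 := pow_ne_zero _ hω0
    have hun : u ^ n = 1 := by rw [hu, ← pow_mul, mul_comm, pow_mul, hω.pow_eq_one, one_pow]
    simp only [hE, ← hu]
    rw [smul_mul_assoc, smul_comm]
    congr 1
    rw [sum_mul, smul_sum]
    have : ∀ i, (u ^ i)⁻¹ • M ^ i * M = u • ((u ^ (i + 1))⁻¹ • M ^ (i + 1)) := by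
      intro i
      rw [smul_mul_assoc, ← pow_succ, smul_smul]
      congr 1
      rw [pow_succ u i]; field_simp
    rw [sum_congr rfl fun i _ => this i, ← smul_sum, ← smul_sum]
    congr 1
    apply Finset.sum_bij (fun i _ => (i + 1) % n)
    · exact fun i _ => mem_range.2 (Nat.mod_lt _ hn)
    · intro a ha b hb hab
      have := (Nat.ModEq.add_right_cancel' 1 hab)
      rwa [Nat.ModEq, Nat.mod_eq_of_lt (mem_range.1 ha), Nat.mod_eq_of_lt (mem_range.1 hb)] at this
    · intro b hb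
      refine ⟨(b + (n - 1)) % n, mem_range.2 (Nat.mod_lt _ hn), ?_⟩
      rw [Nat.mod_add_mod, show b + (n - 1) + 1 = b + n by omega, Nat.add_mod_right,
        Nat.mod_eq_of_lt (mem_range.1 hb)]
    · intro i _
      rw [← pow_eq_pow_mod _ hun, ← pow_eq_pow_mod _ hM]
  have hEpow : ∀ (j : Fin n) (i : ℕ), E j * M ^ i = (ω ^ (j : ℕ)) ^ i • E j := by
    intro j i
    induction i with
    | zero => simp
    | succ i ih => rw [pow_succ, ← mul_assoc, ih, smul_mul_assoc, hEM, smul_smul, ← pow_succ]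
  have hidem : ∀ j, IsIdempotentElem (E j) := by
    intro j
    show E j * E j = E j
    conv_lhs => arg 2; simp only [hE]
    rw [mul_smul_comm, mul_sum]
    have : ∀ i ∈ range n, E j * (((ω ^ (j : ℕ)) ^ i)⁻¹ • M ^ i) = E j := by
      intro i _
      rw [mul_smul_comm, hEpow, smul_smul, inv_mul_cancel₀ (pow_ne_zero _ (pow_ne_zero _ hω0)),
        one_smul]
    rw [sum_congr rfl this, sum_const, card_range, ← Nat.cast_smul_eq_nsmul ℂ, smul_smul,
      inv_mul_cancel₀ hn0, one_smul]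
  have hdec : ∀ m : ℕ, M ^ m = ∑ j : Fin n, (ω ^ (j : ℕ)) ^ m • E j := by
    intro m
    simp only [hE, smul_sum, smul_smul]
    rw [sum_comm]
    have hgeom : ∀ i ∈ range n, ∑ j : Fin n, (ω ^ (j : ℕ)) ^ m * ((n : ℂ)⁻¹ * ((ω ^ (j : ℕ)) ^ i)⁻¹) =
        if i = m % n then 1 else 0 := by
      intro i hi
      have e : ∀ j : Fin n, (ω ^ (j : ℕ)) ^ m * ((n : ℂ)⁻¹ * ((ω ^ (j : ℕ)) ^ i)⁻¹) =
          (n : ℂ)⁻¹ * (ω ^ m * (ω ^ i)⁻¹) ^ (j : ℕ) := by
        intro j
        rw [mul_pow, inv_pow, ← pow_mul, ← pow_mul, ← pow_mul, ← pow_mul, mul_comm m, mul_comm i]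
        ring
      simp only [e, ← mul_sum]
      rw [Fin.sum_univ_eq_sum_range (fun j => (ω ^ m * (ω ^ i)⁻¹) ^ j)]
      split_ifs with h
      · have : ω ^ m * (ω ^ i)⁻¹ = 1 := by
          rw [h, ← pow_eq_pow_mod _ hω.pow_eq_one, mul_inv_cancel₀ (pow_ne_zero _ hω0)]
        simp [this, hn0]
      · have hne : ω ^ m * (ω ^ i)⁻¹ ≠ 1 := by
          intro hh
          apply h
          have h1 : ω ^ i = ω ^ (m % n) := by
            rw [← pow_eq_pow_mod _ hω.pow_eq_one]
            exact (mul_inv_eq_one₀ (pow_ne_zero _ hω0)).1 hh |>.symm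
          exact hω.pow_inj (mem_range.1 hi) (Nat.mod_lt _ hn) h1
        rw [geom_sum_eq hne, mul_pow, inv_pow, ← pow_mul, ← pow_mul, mul_comm m, mul_comm i,
          pow_mul, pow_mul, hω.pow_eq_one]
        simp
    rw [sum_congr rfl fun i hi => (sum_smul).symm.trans (by rw [hgeom i hi])]
    simp [ite_smul, Nat.mod_lt _ hn, ← pow_eq_pow_mod _ hM]
  choose d hd hd0 using fun j => exists_nat_trace_idempotent (hidem j)
  refine ⟨d, fun m => ?_, fun h => ?_⟩
  · rw [hdec m, trace_sum]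
    simp [trace_smul, hd, mul_comm]
  · rw [← pow_one M, hdec 1]
    conv_rhs => rw [← pow_zero M, hdec 0]
    refine sum_congr rfl fun j _ => ?_
    by_cases hj : (j : ℕ) = 0
    · simp [hj]
    · simp [hd0 j (h j hj)]

/-- A field endomorphism acting as `z ↦ z ^ k` on `n`-th roots of unity sends the trace of a
matrix of exponent `n` to the trace of its `k`-th power. -/
theorem ringHom_trace_eq_trace_pow {n k : ℕ} (hn : 0 < n) (σ : ℂ →+* ℂ)
    (hσ : ∀ z : ℂ, z ^ n = 1 → σ z = z ^ k) (M : Matrix ι ι ℂ) (hM : M ^ n = 1) :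
    σ M.trace = (M ^ k).trace := by
  obtain ⟨ω, hω⟩ : ∃ ω : ℂ, IsPrimitiveRoot ω n := ⟨_, Complex.isPrimitiveRoot_exp n hn.ne'⟩
  obtain ⟨d, hd, -⟩ := exists_trace_pow_eq_sum hn hω M hM
  have h1 := hd 1
  rw [pow_one] at h1
  rw [h1, hd k, map_sum]
  refine sum_congr rfl fun j _ => ?_
  rw [map_mul, map_natCast, pow_one, hσ]
  rw [← pow_mul, mul_comm, pow_mul, hω.pow_eq_one, one_pow]

end CfsgLib.Chars17
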