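import Cfsg.Prelude.Def_Characters
import Cfsg.Agent.Lib.Chars17.GaloisTrace

/-!
# Matrix forms of irreducible representations
-/

namespace CfsgLib.Chars17

open Matrix
open scoped Kronecker

variable {G : Type*} [Group G]

/-- The matrix homomorphism of a representation on a coordinate space. -/
noncomputable def matOf {n : ℕ} (ρ : Representation ℂ G (Fin n → ℂ)) :
    G →* Matrix (Fin n) (Fin n) ℂ :=
  (LinearMap.toMatrixAlgEquiv' : _ ≃ₐ[ℂ] Matrix (Fin n) (Fin n) ℂ).toAlgHom.toMonoidHom.comp ρ

theorem trace_matOf {n : ℕ} (ρ : Representation ℂ G (Fin n → ℂ)) (g : G) :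
    (matOf ρ g).trace = ρ.character g :=
  (LinearMap.trace_eq_matrix_trace ℂ (Pi.basisFun ℂ (Fin n)) (ρ g)).symm

theorem matOf_pow_card [Finite G] {n : ℕ} (ρ : Representation ℂ G (Fin n → ℂ)) (g : G) :
    matOf ρ g ^ Nat.card G = 1 := by
  rw [← map_pow, pow_card_eq_one', map_one]

/-- An irreducible character has positive degree. -/
theorem IsIrrCharacter.exists_mat {χ : G → ℂ} (h : Cfsg.IsIrrCharacter G χ) :
    ∃ (n : ℕ) (M : G →* Matrix (Fin n) (Fin n) ℂ), 0 < n ∧ ∀ g, (M g).trace = χ g := by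
  obtain ⟨n, ρ, hρ, rfl⟩ := h
  refine ⟨n, matOf ρ, ?_, trace_matOf ρ⟩
  rcases Nat.eq_zero_or_pos n with rfl | hn
  · have : Subsingleton (Subrepresentation ρ) := by
      constructor
      intro a b
      apply Subrepresentation.toSubmodule_injective
      exact Subsingleton.elim _ _
    exact absurd this (not_subsingleton _)
  · exact hn

/-- A matrix representation whose trace function is an irreducible character has only scalar
commutants. -/
theorem scalar_of_commute [Finite G] {ι : Type*} [Fintype ι] [DecidableEq ι]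
    (R : G →* Matrix ι ι ℂ) (hR : Cfsg.IsIrrCharacter G fun g => (R g).trace)
    {Q : Matrix ι ι ℂ} (hQ : ∀ g, R g * Q = Q * R g) : ∃ c : ℂ, Q = c • 1 := by
  classical
  let := Fintype.ofFinite G
  haveI : Invertible (Nat.card G : ℂ) :=
    invertibleOfNonzero (Nat.cast_ne_zero.2 Nat.card_pos.ne')
  let σ : Representation ℂ G (ι → ℂ) :=
    (Matrix.toLinAlgEquiv' : Matrix ι ι ℂ ≃ₐ[ℂ] _).toAlgHom.toMonoidHom.comp R
  have hσ : ∀ g, σ.character g = (R g).trace := fun g => Matrix.trace_toLin'_eq (R g)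
  obtain ⟨n, ρ, hρ, hχ⟩ := hR
  have h1 : Module.finrank ℂ (Representation.IntertwiningMap σ σ) = 1 := by
    have e1 := Representation.card_inv_mul_sum_char_mul_char_eq_finrank σ σ
    have e2 := Representation.card_inv_mul_sum_char_mul_char_eq_finrank ρ ρ
    rw [Representation.IsIrreducible.finrank_intertwiningMap_self] at e2
    simp only [hσ] at e1
    simp only [hχ] at e2
    rw [e1] at e2
    exact_mod_cast e2
  let f : Representation.IntertwiningMap σ σ :=
    ⟨Matrix.toLinAlgEquiv' Q, fun g => by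
      show Matrix.toLinAlgEquiv' Q * Matrix.toLinAlgEquiv' (R g) =
        Matrix.toLinAlgEquiv' (R g) * Matrix.toLinAlgEquiv' Q
      rw [← map_mul, ← map_mul, hQ g]⟩
  by_cases hne : IsEmpty ι
  · exact ⟨0, Matrix.ext fun i => isEmptyElim i⟩
  rw [not_isEmpty_iff] at hne
  have hid : Representation.IntertwiningMap.id σ ≠ 0 := by
    intro h
    have := congrArg (fun x : Representation.IntertwiningMap σ σ =>
      x.toLinearMap (fun _ => (1 : ℂ)) (Classical.arbitrary ι)) h
    simp at this
  obtain ⟨c, hc⟩ := exists_smul_eq_of_finrank_eq_one h1 hid f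
  refine ⟨c, (Matrix.toLinAlgEquiv' : Matrix ι ι ℂ ≃ₐ[ℂ] _).injective ?_⟩
  rw [map_smul, map_one]
  exact (congrArg Representation.IntertwiningMap.toLinearMap hc).symm

/-- A left factor of a Kronecker product equal to the identity is scalar. -/
theorem scalar_of_kronecker_eq_one {n m : Type*} [DecidableEq n] [DecidableEq m] [Fintype n]
    [Nonempty n] [Nonempty m] {X : Matrix n n ℂ} {Y : Matrix m m ℂ} (h : X ⊗ₖ Y = 1) :
    ∃ c : ℂ, X = c • 1 := by
  obtain ⟨k⟩ := ‹Nonempty m›
  obtain ⟨i0⟩ := ‹Nonempty n›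
  have e : ∀ i j, X i j * Y k k = if i = j then 1 else 0 := by
    intro i j
    have := congrFun (congrFun h (i, k)) (j, k)
    simpa [Matrix.kroneckerMap_apply, Matrix.one_apply] using this
  have hY : Y k k ≠ 0 := fun hy => by simpa [hy] using e i0 i0
  refine ⟨(Y k k)⁻¹, Matrix.ext fun i j => ?_⟩
  have := e i j
  rw [Matrix.smul_apply, Matrix.one_apply, smul_eq_mul]
  field_simp
  linear_combination this

end CfsgLib.Chars17
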