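import Cfsg.Prelude.Def_Blocks
import Cfsg.Agent.Lib.Characters.Decomp
import Cfsg.Agent.Lib.Characters.Scalar
import Cfsg.Agent.Lib.Chars17.MatRep

/-!
# Degrees, kernels and inflation for irreducible characters
-/

namespace CfsgLib.Chars17

open Cfsg CfsgLib.Characters
open scoped ComplexConjugate

variable {G : Type*} [Group G]

theorem cast_charDegree {χ : G → ℂ} (h : IsCharacter G χ) : (charDegree χ : ℂ) = χ 1 := by
  obtain ⟨n, hn⟩ := exists_degree h
  simp [charDegree, hn]

theorem cast_irrDegree (χ : IrrCharacter G) : (charDegree (χ : G → ℂ) : ℂ) = (χ : G → ℂ) 1 :=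
  cast_charDegree (irr_isCharacter χ)

theorem irrDegree_pos (χ : IrrCharacter G) : 0 < charDegree (χ : G → ℂ) := by
  rw [pos_iff_ne_zero]
  intro h
  exact irr_one_ne_zero χ (by rw [← cast_irrDegree, h, Nat.cast_zero])

theorem character_eq_one_iff [Finite G] {n : ℕ} (ρ : Representation ℂ G (Fin n → ℂ)) (g : G) :
    ρ.character g = ρ.character 1 ↔ ρ g = 1 := by
  constructor
  · intro h
    have hN : 0 < Nat.card G := Nat.card_pos
    have hω : IsPrimitiveRoot (Complex.exp (2 * Real.pi * Complex.I / Nat.card G)) (Nat.card G) :=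
      Complex.isPrimitiveRoot_exp _ hN.ne'
    obtain ⟨d, hd, h1⟩ := exists_trace_pow_eq_sum hN hω (matOf ρ g) (matOf_pow_card ρ g)
    set ω := Complex.exp (2 * Real.pi * Complex.I / Nat.card G)
    have e : (matOf ρ g ^ 1).trace = (matOf ρ g ^ 0).trace := by
      rw [pow_one, pow_zero, ← map_one (matOf ρ), trace_matOf, trace_matOf, h]
    rw [hd 1, hd 0] at e
    have e' := congrArg Complex.re e
    simp only [pow_one, pow_zero, mul_one, Complex.re_sum,
      ← Complex.ofReal_natCast, Complex.re_ofReal_mul, Complex.ofReal_re] at e'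
    have hnorm : ∀ j : Fin (Nat.card G), ‖ω ^ (j : ℕ)‖ = 1 := fun j =>
      Complex.norm_eq_one_of_pow_eq_one
        (by rw [← pow_mul, mul_comm, pow_mul, hω.pow_eq_one, one_pow]) hN.ne'
    have hle : ∀ j ∈ (Finset.univ : Finset (Fin (Nat.card G))),
        (d j : ℝ) * (ω ^ (j : ℕ)).re ≤ (d j : ℝ) := fun j _ => by
      have := (Complex.re_le_norm (ω ^ (j : ℕ))).trans_eq (hnorm j)
      nlinarith [(Nat.cast_nonneg (d j) : (0 : ℝ) ≤ d j)]
    have heq := (Finset.sum_eq_sum_iff_of_le hle).1 e'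
    have hM : matOf ρ g = 1 := h1 fun j hj => by
      by_contra hd0
      have h2 := heq j (Finset.mem_univ _)
      have h3 : (ω ^ (j : ℕ)).re = 1 :=
        mul_left_cancel₀ (Nat.cast_ne_zero.2 hd0) (h2.trans (mul_one (d j : ℝ)).symm)
      have h4 : ω ^ (j : ℕ) = 1 := by
        have := hnorm j
        rw [Complex.norm_def, Real.sqrt_eq_one, Complex.normSq_apply, h3] at this
        exact Complex.ext h3 (by rw [Complex.one_im]; nlinarith)
      exact hω.pow_ne_one_of_pos_of_lt hj j.isLt h4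
    have := congrArg (Matrix.toLinAlgEquiv' : Matrix (Fin n) (Fin n) ℂ ≃ₐ[ℂ] _) hM
    rw [map_one] at this
    rw [← this]
    exact (Matrix.toLinAlgEquiv'_toMatrixAlgEquiv' (ρ g)).symm
  · intro h
    simp [Representation.character, h]

/-- The kernel of an irreducible character. -/
def irrKer [Finite G] (χ : IrrCharacter G) : Subgroup G where
  carrier := {g | (χ : G → ℂ) g = (χ : G → ℂ) 1}
  one_mem' := rfl
  mul_mem' := by
    obtain ⟨n, ρ, -, hρ⟩ := χ.2
    intro a b ha hb
    simp only [Set.mem_ofPred_eq, ← hρ, character_eq_one_iff] at ha hb ⊢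
    rw [map_mul, ha, hb, one_mul]
  inv_mem' := by
    intro a ha
    simp only [Set.mem_ofPred_eq] at ha ⊢
    obtain ⟨n, hn, h⟩ := irr_exists_degree χ.2
    rw [irr_apply_inv, ha, h, map_natCast]

theorem mem_irrKer [Finite G] {χ : IrrCharacter G} {g : G} :
    g ∈ irrKer χ ↔ (χ : G → ℂ) g = (χ : G → ℂ) 1 := Iff.rfl

instance irrKer_normal [Finite G] (χ : IrrCharacter G) : (irrKer χ).Normal :=
  ⟨fun g hg x => by rw [mem_irrKer, irr_isClassFunction χ g x]; exact hg⟩

theorem natCard_irrKer [Finite G] (χ : IrrCharacter G) :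
    Nat.card (irrKer χ) = Nat.card {g : G // (χ : G → ℂ) g = (χ : G → ℂ) 1} := rfl

theorem irrKer_eq_top_iff [Finite G] (χ : IrrCharacter G) :
    irrKer χ = ⊤ ↔ (χ : G → ℂ) = fun _ => 1 := by
  constructor
  · intro h
    have hc : ∀ g, (χ : G → ℂ) g = (χ : G → ℂ) 1 := fun g => mem_irrKer.1 (h ▸ Subgroup.mem_top g)
    let _ := Fintype.ofFinite G
    obtain ⟨n, hn, h1⟩ := irr_exists_degree χ.2
    have hs := classInner_irr_self χ.2
    rw [classInner, Finset.sum_congr rfl fun g _ => by rw [hc g, h1, map_natCast],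
      Finset.sum_const, Finset.card_univ, ← Nat.card_eq_fintype_card, nsmul_eq_mul,
      inv_mul_cancel_left₀ (Nat.cast_ne_zero.2 Nat.card_pos.ne')] at hs
    have : n = 1 := Nat.eq_one_of_mul_eq_one_left (m := n) (by exact_mod_cast hs)
    funext g
    rw [hc g, h1, this, Nat.cast_one]
  · intro h
    rw [eq_top_iff]
    intro g _
    rw [mem_irrKer, h]

theorem irrDegree_dvd_index_irrKer [Finite G] (χ : IrrCharacter G) :
    charDegree (χ : G → ℂ) ∣ (irrKer χ).index := by
  obtain ⟨n, ρ, hρ, hχ⟩ := χ.2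
  haveI := hρ
  have hd : charDegree (χ : G → ℂ) = n := by
    rw [← hχ]; simp [charDegree]
  have := CfsgLib.CharScalar.finrank_dvd_index ρ (irrKer χ) fun z hz => ⟨1, by
    rw [one_smul, ← character_eq_one_iff, hχ]; exact hz⟩
  rwa [Module.finrank_fin_fun, ← hd] at this

theorem irrDegree_dvd_card [Finite G] (χ : IrrCharacter G) :
    charDegree (χ : G → ℂ) ∣ Nat.card G :=
  (irrDegree_dvd_index_irrKer χ).trans (Subgroup.index_dvd_card _)

/-- Summing a character over a coset of a normal subgroup outside its kernel gives zero. -/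
theorem sum_coset_eq_zero [Finite G] {χ : IrrCharacter G} {N : Subgroup G} [N.Normal] [Fintype N]
    (h : ¬ N ≤ irrKer χ) (g : G) : ∑ x : N, (χ : G → ℂ) (g * x) = 0 := by
  obtain ⟨n, ρ, hρ, hχ⟩ := χ.2
  haveI := hρ
  obtain ⟨c, hc⟩ := schur_scalar ρ (∑ x : N, ρ (x : G)) fun a => by
    rw [Finset.mul_sum, Finset.sum_mul]
    refine Fintype.sum_equiv (MulAut.conjNormal a⁻¹).toEquiv _ _ fun x => ?_
    simp only [MulEquiv.toEquiv_eq_coe, EquivLike.coe_coe, MulAut.conjNormal_apply, ← map_mul,
      inv_inv]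
    congr 1
    group
  obtain ⟨m, hm, hmk⟩ := SetLike.not_le_iff_exists.1 h
  have h1 : (∑ x : N, ρ (x : G)) * ρ m = ∑ x : N, ρ (x : G) := by
    rw [Finset.sum_mul]
    refine Fintype.sum_equiv (Equiv.mulRight (⟨m, hm⟩ : N)) _ _ fun x => ?_
    simp [map_mul]
  rw [hc, smul_one_mul] at h1
  have hc0 : c = 0 := by
    by_contra hne
    exact hmk (by
      rw [mem_irrKer, ← hχ, character_eq_one_iff]
      exact smul_right_injective _ hne h1)
  have : ∑ x : N, (χ : G → ℂ) (g * x) = LinearMap.trace ℂ _ (ρ g * ∑ x : N, ρ (x : G)) := by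
    simp [Finset.mul_sum, ← hχ, Representation.character]
  rw [this, hc, hc0, zero_smul, mul_zero, map_zero]

section Inflation

variable (N : Subgroup G) [N.Normal]

theorem isIrrCharacter_infl {η : G ⧸ N → ℂ} (h : IsIrrCharacter (G ⧸ N) η) :
    IsIrrCharacter G (fun g => η (g : G ⧸ N)) := by
  obtain ⟨n, σ, hσ, rfl⟩ := h
  refine ⟨n, σ.comp (QuotientGroup.mk' N), ?_, rfl⟩
  rw [isIrreducible_iff] at hσ ⊢
  exact ⟨hσ.1, fun U hU => hσ.2 U fun q => by
    induction q using QuotientGroup.induction_on with | H g => exact hU g⟩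

/-- Inflation of an irreducible character from a quotient. -/
def infl (η : IrrCharacter (G ⧸ N)) : IrrCharacter G :=
  ⟨fun g => (η : G ⧸ N → ℂ) (g : G ⧸ N), isIrrCharacter_infl N η.2⟩

theorem infl_apply (η : IrrCharacter (G ⧸ N)) (g : G) :
    (infl N η : G → ℂ) g = (η : G ⧸ N → ℂ) (g : G ⧸ N) := rfl

theorem infl_injective : Function.Injective (infl N) := by
  intro a b h
  apply Subtype.ext
  funext q
  induction q using QuotientGroup.induction_on with
  | H g => exact congrFun (congrArg Subtype.val h) g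

variable [Finite G]

theorem le_irrKer_infl (η : IrrCharacter (G ⧸ N)) : N ≤ irrKer (infl N η) := fun x hx => by
  rw [mem_irrKer, infl_apply, infl_apply, (QuotientGroup.eq_one_iff x).2 hx, QuotientGroup.mk_one]

theorem exists_infl_eq {χ : IrrCharacter G} (h : N ≤ irrKer χ) :
    ∃ η : IrrCharacter (G ⧸ N), infl N η = χ := by
  obtain ⟨n, ρ, hρ, hχ⟩ := χ.2
  have hk : ∀ x ∈ N, ρ x = 1 := fun x hx => by
    rw [← character_eq_one_iff, hχ]; exact h hx
  let σ : Representation ℂ (G ⧸ N) (Fin n → ℂ) :=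
    { toFun := fun q => Quotient.liftOn' q ρ (fun a b hab => by
        rw [show b = a * (a⁻¹ * b) by group, map_mul,
          hk _ (QuotientGroup.leftRel_apply.1 hab), mul_one])
      map_one' := map_one ρ
      map_mul' := fun x y => by
        induction x using QuotientGroup.induction_on with
        | H a => induction y using QuotientGroup.induction_on with
          | H b => exact map_mul ρ a b }
  have hσ : σ.IsIrreducible := by
    rw [isIrreducible_iff] at hρ ⊢
    exact ⟨hρ.1, fun U hU => hρ.2 U fun g => hU (g : G ⧸ N)⟩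
  exact ⟨⟨σ.character, n, σ, hσ, rfl⟩, Subtype.ext hχ⟩

/-- Inflation identifies the irreducible characters of the quotient with the irreducible
characters trivial on the subgroup. -/
noncomputable def inflEquiv : IrrCharacter (G ⧸ N) ≃ {χ : IrrCharacter G // N ≤ irrKer χ} :=
  Equiv.ofBijective (fun η => ⟨infl N η, le_irrKer_infl N η⟩)
    ⟨fun _ _ h => infl_injective N (congrArg Subtype.val h), fun χ =>
      (exists_infl_eq N χ.2).imp fun _ => Subtype.ext⟩

theorem sum_filter_le_irrKer {M : Type*} [AddCommMonoid M] [Fintype (IrrCharacter G)]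
    [DecidablePred fun χ : IrrCharacter G => N ≤ irrKer χ] (F : IrrCharacter G → M) :
    ∑ χ ∈ Finset.univ.filter (fun χ : IrrCharacter G => N ≤ irrKer χ), F χ =
      ∑ η : IrrCharacter (G ⧸ N), F (infl N η) := by
  rw [Finset.sum_subtype _ (fun χ => Finset.mem_filter_univ χ)]
  exact (Fintype.sum_equiv (inflEquiv N) _ _ fun η => rfl).symm

end Inflation

theorem eq_one_of_forall_irr [Finite G] {g : G}
    (h : ∀ χ : IrrCharacter G, (χ : G → ℂ) g = (χ : G → ℂ) 1) : g = 1 :=
  isConj_one_left.1 ((isConj_iff_irr g 1).2 h)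

theorem conj_irr_one (χ : IrrCharacter G) : conj ((χ : G → ℂ) 1) = (χ : G → ℂ) 1 := by
  obtain ⟨n, -, h⟩ := irr_exists_degree χ.2
  rw [h, map_natCast]

theorem natSum_sq_degrees [Fintype G] :
    ∑ χ : IrrCharacter G, charDegree (χ : G → ℂ) ^ 2 = Nat.card G := by
  have := sum_sq_degrees (G := G)
  simp only [← cast_irrDegree] at this
  exact_mod_cast this

end CfsgLib.Chars17
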