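import Cfsg.Agent.Lib.Chars17.IrrBasic
import Cfsg.Agent.Lib.Characters.Induction

/-!
# Constituents of characters, degree bounds, convolutions
-/

namespace CfsgLib.Chars17

open Cfsg CfsgLib.Characters
open scoped ComplexConjugate

variable {G : Type*} [Group G]

/-- Decomposition of a character into irreducibles, with the meaning of the multiplicities. -/
theorem exists_decomp [Fintype G] {φ : G → ℂ} (hφ : IsCharacter G φ) :
    ∃ m : IrrCharacter G → ℕ, φ = ∑ ψ, (m ψ : ℂ) • (ψ : G → ℂ) ∧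
      (∀ ψ : IrrCharacter G, classInner φ (ψ : G → ℂ) = (m ψ : ℂ)) ∧
      charDegree φ = ∑ ψ, m ψ * charDegree (ψ : G → ℂ) := by
  classical
  obtain ⟨n, ρ, hρ⟩ := id hφ
  obtain ⟨m, hm⟩ := exists_irr_decomp ρ
  rw [hρ] at hm
  refine ⟨m, hm, fun ψ => ?_, ?_⟩
  · rw [hm, classInner_irr_sum, if_pos (Finset.mem_univ _)]
  · have : (charDegree φ : ℂ) = ((∑ ψ, m ψ * charDegree (ψ : G → ℂ) : ℕ) : ℂ) := by
      rw [cast_charDegree hφ, congrFun hm 1]
      simp [Finset.sum_apply, cast_irrDegree]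
    exact_mod_cast this

theorem irrDegree_le_of_classInner_ne [Fintype G] {φ : G → ℂ} (hφ : IsCharacter G φ)
    (χ : IrrCharacter G) (h : classInner φ (χ : G → ℂ) ≠ 0) :
    charDegree (χ : G → ℂ) ≤ charDegree φ := by
  obtain ⟨m, -, hm, hd⟩ := exists_decomp hφ
  rw [hm, Nat.cast_ne_zero] at h
  rw [hd]
  exact (Nat.le_mul_of_pos_left _ (Nat.pos_of_ne_zero h)).trans
    (Finset.single_le_sum (f := fun ψ => m ψ * charDegree (ψ : G → ℂ)) (fun _ _ => Nat.zero_le _)
      (Finset.mem_univ χ))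

/-- A character having an irreducible constituent of the same degree is that constituent. -/
theorem eq_of_classInner_ne_of_degree_le [Fintype G] {φ : G → ℂ} (hφ : IsCharacter G φ)
    (χ : IrrCharacter G) (h : classInner φ (χ : G → ℂ) ≠ 0)
    (hd : charDegree φ ≤ charDegree (χ : G → ℂ)) : φ = χ := by
  classical
  obtain ⟨m, hsum, hm, hd'⟩ := exists_decomp hφ
  rw [hm, Nat.cast_ne_zero] at h
  rw [hd', ← Finset.add_sum_erase _ _ (Finset.mem_univ χ)] at hd
  have hpos := irrDegree_pos χ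
  have h0 : ∑ ψ ∈ Finset.univ.erase χ, m ψ * charDegree (ψ : G → ℂ) = 0 := by
    have := Nat.le_mul_of_pos_left (charDegree (χ : G → ℂ)) (Nat.pos_of_ne_zero h)
    omega
  have h1 : m χ = 1 := by
    rw [h0, add_zero] at hd
    have := Nat.le_of_mul_le_mul_right (hd.trans_eq (one_mul _).symm) hpos
    omega
  rw [hsum, ← Finset.add_sum_erase _ _ (Finset.mem_univ χ), h1, Nat.cast_one, one_smul,
    Finset.sum_eq_zero, add_zero]
  intro ψ hψ
  have := (Finset.sum_eq_zero_iff.1 h0) ψ hψ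
  rw [mul_eq_zero] at this
  rw [this.resolve_right (irrDegree_pos ψ).ne', Nat.cast_zero, zero_smul]

theorem charDegree_res (H : Subgroup G) (χ : G → ℂ) :
    charDegree (fun x : H => χ x) = charDegree χ := by
  simp [charDegree]

theorem isCharacter_res (H : Subgroup G) {χ : G → ℂ} (hχ : IsCharacter G χ) :
    IsCharacter H (fun x : H => χ x) := by
  obtain ⟨n, ρ, rfl⟩ := hχ
  exact ⟨n, ρ.comp H.subtype, rfl⟩

theorem charDegree_indFun [Fintype G] (H : Subgroup G) {θ : H → ℂ} (hθ : IsCharacter H θ) :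
    charDegree (indFun H θ) = H.index * charDegree θ := by
  have h : indFun H θ 1 = ((H.index * charDegree θ : ℕ) : ℂ) := by
    rw [CfsgLib.Induction.indFun_one_apply, Nat.cast_mul, cast_charDegree hθ]
  simp only [charDegree] at h ⊢
  rw [h, Complex.natCast_re, Nat.floor_natCast]

/-- An irreducible constituent of the restriction induces to a character containing `χ`. -/
theorem exists_constituent_res [Fintype G] (H : Subgroup G) [Fintype H] (χ : IrrCharacter G) :
    ∃ ψ : IrrCharacter H, classInner (indFun H (ψ : H → ℂ)) (χ : G → ℂ) ≠ 0 := by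
  obtain ⟨m, -, hm, hd⟩ := exists_decomp (isCharacter_res H (irr_isCharacter χ))
  obtain ⟨ψ, hψ⟩ : ∃ ψ, m ψ ≠ 0 := by
    by_contra! h
    rw [charDegree_res, Finset.sum_eq_zero fun ψ _ => by rw [h ψ, zero_mul]] at hd
    exact (irrDegree_pos χ).ne' hd
  refine ⟨ψ, ?_⟩
  rw [CfsgLib.Induction.classInner_indFun H _ (irr_isClassFunction χ), classInner_conj_symm, hm,
    map_natCast, Nat.cast_ne_zero]
  exact hψ

/-- The degree of an irreducible character is at most the index of an abelian subgroup. -/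
theorem irrDegree_le_index_of_commutative [Finite G] (A : Subgroup G) [IsMulCommutative A]
    (χ : IrrCharacter G) : charDegree (χ : G → ℂ) ≤ A.index := by
  classical
  let _ := Fintype.ofFinite G
  obtain ⟨ψ, hψ⟩ := exists_constituent_res A χ
  have hle := irrDegree_le_of_classInner_ne
    (CfsgLib.Induction.isCharacter_indFun A (irr_isCharacter ψ)) χ hψ
  rw [charDegree_indFun A (irr_isCharacter ψ)] at hle
  obtain ⟨d, ρ, hρ, hρψ⟩ := ψ.2
  haveI := hρ
  have hd : (charDegree (ψ : A → ℂ) : ℂ) = (1 : ℕ) := by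
    rw [cast_irrDegree, ← hρψ, Representation.char_one,
      Representation.IsIrreducible.finrank_eq_one_of_isMulCommutative ρ]
  rwa [Nat.cast_inj.1 hd, mul_one] at hle

/-- Convolution of two irreducible characters. -/
theorem sum_inv_mul_irr [Fintype G] [DecidableEq (IrrCharacter G)] (χ ψ : IrrCharacter G) (g : G) :
    ∑ x : G, (χ : G → ℂ) x⁻¹ * (ψ : G → ℂ) (g * x) =
      if χ = ψ then (Nat.card G : ℂ) * (ψ : G → ℂ) g / (ψ : G → ℂ) 1 else 0 := by
  obtain ⟨n, ρ, hρ, hψ⟩ := ψ.2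
  haveI := hρ
  have hclass : IsClassFunction G (fun x => (χ : G → ℂ) x⁻¹) := fun a b => by
    show (χ : G → ℂ) (b * a * b⁻¹)⁻¹ = (χ : G → ℂ) a⁻¹
    rw [← irr_isClassFunction χ a⁻¹ b]
    congr 1
    group
  have hsum : ∑ x : G, (χ : G → ℂ) x⁻¹ * (ψ : G → ℂ) x =
      (Nat.card G : ℂ) * classInner (ψ : G → ℂ) (χ : G → ℂ) := by
    rw [classInner, mul_inv_cancel_left₀ (Nat.cast_ne_zero.2 Nat.card_pos.ne')]
    exact Finset.sum_congr rfl fun x _ => by rw [irr_apply_inv, mul_comm]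
  have hL : ∑ x : G, (χ : G → ℂ) x⁻¹ * (ψ : G → ℂ) (g * x) =
      LinearMap.trace ℂ _ (ρ g * funEnd ρ (fun x => (χ : G → ℂ) x⁻¹)) := by
    simp [funEnd, Finset.mul_sum, mul_smul_comm, map_sum, ← hψ, Representation.character]
  have hd : (Module.finrank ℂ (Fin n → ℂ) : ℂ) = (ψ : G → ℂ) 1 := by
    rw [← hψ, Representation.char_one]
  rw [hL, funEnd_eq_smul ρ hclass, mul_smul_comm, mul_one, map_smul, smul_eq_mul, hd,
    show ρ.character = (ψ : G → ℂ) from hψ, hsum, classInner_irr]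
  rw [show LinearMap.trace ℂ (Fin n → ℂ) (ρ g) = (ψ : G → ℂ) g from congrFun hψ g]
  by_cases h : χ = ψ
  · subst h; simp [mul_div_right_comm]
  · simp [h, Ne.symm h]

theorem norm_irr_le [Finite G] (χ : IrrCharacter G) (g : G) :
    ‖(χ : G → ℂ) g‖ ≤ ‖(χ : G → ℂ) 1‖ := by
  obtain ⟨n, ρ, -, hρ⟩ := χ.2
  have hN : 0 < Nat.card G := Nat.card_pos
  obtain ⟨ω, hω⟩ : ∃ ω : ℂ, IsPrimitiveRoot ω (Nat.card G) :=
    ⟨_, Complex.isPrimitiveRoot_exp _ hN.ne'⟩
  obtain ⟨d, hd, -⟩ := exists_trace_pow_eq_sum hN hω (matOf ρ g) (matOf_pow_card ρ g)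
  have h1 := hd 1
  have h0 := hd 0
  rw [pow_one, trace_matOf, hρ] at h1
  rw [pow_zero, ← map_one (matOf ρ), trace_matOf, hρ] at h0
  rw [h1, h0]
  refine (norm_sum_le _ _).trans ?_
  simp only [pow_zero, pow_one, mul_one]
  rw [← Nat.cast_sum, Complex.norm_natCast, Nat.cast_sum]
  refine Finset.sum_le_sum fun j _ => ?_
  rw [norm_mul, Complex.norm_natCast, Complex.norm_eq_one_of_pow_eq_one
    (by rw [← pow_mul, mul_comm, pow_mul, hω.pow_eq_one, one_pow]) hN.ne', mul_one]

/-- The codegree `[G : ker χ] / χ(1)` is an exact quotient dividing the group order. -/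
theorem codegree_mul [Finite G] (χ : IrrCharacter G) :
    (Nat.card G / (Nat.card {g : G // (χ : G → ℂ) g = (χ : G → ℂ) 1} * charDegree (χ : G → ℂ))) *
      charDegree (χ : G → ℂ) = (irrKer χ).index := by
  rw [← natCard_irrKer, ← Nat.div_div_eq_div_mul, ← Subgroup.card_mul_index (irrKer χ),
    Nat.mul_div_cancel_left _ Nat.card_pos, Nat.div_mul_cancel (irrDegree_dvd_index_irrKer χ)]

theorem codegree_dvd_card [Finite G] (χ : IrrCharacter G) :
    Nat.card G / (Nat.card {g : G // (χ : G → ℂ) g = (χ : G → ℂ) 1} * charDegree (χ : G → ℂ)) ∣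
      Nat.card G :=
  (Dvd.intro _ (codegree_mul χ)).trans (Subgroup.index_dvd_card _)

theorem irrKer_eq_bot_of_faithful [Finite G] {χ : IrrCharacter G}
    (h : ∀ g : G, (χ : G → ℂ) g = (χ : G → ℂ) 1 → g = 1) : irrKer χ = ⊥ :=
  (Subgroup.eq_bot_iff_forall _).2 fun g hg => h g hg

theorem irrKer_infl (N : Subgroup G) [N.Normal] [Finite G] (η : IrrCharacter (G ⧸ N)) :
    irrKer (infl N η) = (irrKer η).comap (QuotientGroup.mk' N) := Subgroup.ext fun _ => Iff.rfl

theorem exists_nontrivial_irr [Finite G] [Nontrivial G] :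
    ∃ χ : IrrCharacter G, χ ≠ principalIrr G := by
  obtain ⟨g, hg⟩ := exists_ne (1 : G)
  by_contra! h
  exact hg (eq_one_of_forall_irr fun χ => by rw [h χ, principalIrr_apply, principalIrr_apply])

end CfsgLib.Chars17
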