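import Cfsg.Agent.Lib.Chars17.Constituents
import Cfsg.Agent.Lib.Chars17.IrrBasic
import Cfsg.Agent.Lib.Chars17.MatRep
import Cfsg.Agent.Lib.Characters.LinearTwist
import Cfsg.Agent.Lib.Characters.Monomial
import Cfsg.Agent.Lib.Characters.ItoMichlerPSolvable
import Cfsg.Agent.Lib.PGroup.Class2
import Mathlib.RingTheory.IntegralDomain

/-!
# `p`-groups in which characters of equal degree are Galois conjugate
-/

namespace CfsgLib.Chars17.PGalois

open Cfsg CfsgLib.Characters
open scoped ComplexConjugate commutatorElement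

variable {G : Type*} [Group G]

/-- The central character of an irreducible character, as a homomorphism on the centre. -/
theorem exists_central_hom [Finite G] (χ : IrrCharacter G) :
    ∃ l : Subgroup.center G →* ℂˣ, ∀ (z : Subgroup.center G) (g : G),
      (χ : G → ℂ) ((z : G) * g) = (l z : ℂ) * (χ : G → ℂ) g := by
  obtain ⟨n, M, -, hM⟩ := IsIrrCharacter.exists_mat χ.2
  have hs : ∀ z : Subgroup.center G, ∃ c : ℂ, M (z : G) = c • 1 := fun z =>
    scalar_of_commute M (by simp only [hM]; exact χ.2) fun g => by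
      rw [← map_mul, ← map_mul, Subgroup.mem_center_iff.1 z.2 g]
  choose c hc using hs
  have hmul : ∀ (z : Subgroup.center G) (g : G),
      (χ : G → ℂ) ((z : G) * g) = c z * (χ : G → ℂ) g := by
    intro z g
    rw [← hM, ← hM, map_mul, hc z, Matrix.smul_mul, one_mul, Matrix.trace_smul, smul_eq_mul]
  have h1 : c 1 = 1 := by
    have h := hmul 1 1
    rw [OneMemClass.coe_one, one_mul] at h
    exact (mul_eq_right₀ (irr_one_ne_zero χ)).1 h.symm
  let l : Subgroup.center G →* ℂ :=
    { toFun := c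
      map_one' := h1
      map_mul' := fun z w => by
        apply mul_right_cancel₀ (irr_one_ne_zero χ)
        rw [← hmul, mul_assoc (c z), ← hmul, ← hmul, Subgroup.coe_mul, mul_assoc] }
  exact ⟨l.toHomUnits, fun z g => by rw [hmul]; rfl⟩

theorem apply_mul_of_mem_irrKer [Finite G] (χ : IrrCharacter G) {x : G} (hx : x ∈ irrKer χ)
    (g : G) : (χ : G → ℂ) (g * x) = (χ : G → ℂ) g := by
  obtain ⟨n, ρ, -, hρ⟩ := χ.2
  have h1 : ρ x = 1 := by rw [← character_eq_one_iff, hρ]; exact mem_irrKer.1 hx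
  rw [← hρ]
  simp only [Representation.character, map_mul, h1, mul_one]

theorem charDegree_eq_one_iff [Finite G] (χ : IrrCharacter G) :
    charDegree (χ : G → ℂ) = 1 ↔ commutator G ≤ irrKer χ := by
  constructor
  · intro h
    obtain ⟨f, hf⟩ := CfsgLib.LinearTwist.exists_hom_of_charDegree_one (irr_isCharacter χ) h
    intro x hx
    have h1 : f x = 1 := Abelianization.commutator_subset_ker f hx
    rw [mem_irrKer, hf]
    simp [h1]
  · intro h
    have h1 := CfsgLib.CharMonomial.degree_one_of_commutator χ.2 fun a b => mem_irrKer.1 (h (by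
      rw [show a * b * (b * a)⁻¹ = ⁅a, b⁆ by simp [commutatorElement_def, mul_assoc]]
      exact Subgroup.commutator_mem_commutator (Subgroup.mem_top a) (Subgroup.mem_top b)))
    rw [← Nat.cast_inj (R := ℂ), cast_irrDegree, h1, Nat.cast_one]

theorem exists_nonlinear [Finite G] (hna : ¬ IsMulCommutative G) :
    ∃ χ : IrrCharacter G, charDegree (χ : G → ℂ) ≠ 1 := by
  by_contra h
  simp only [not_exists, not_not] at h
  exact hna ⟨⟨CfsgLib.ItoMichler.comm_of_degree_one h⟩⟩

theorem eq_one_of_mem_all_nonlinear [Finite G] {x : G} (χ₀ : IrrCharacter G)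
    (h₀ : charDegree (χ₀ : G → ℂ) ≠ 1)
    (h : ∀ χ : IrrCharacter G, charDegree (χ : G → ℂ) ≠ 1 → x ∈ irrKer χ) : x = 1 := by
  refine eq_one_of_forall_irr fun χ => ?_
  by_cases hχ : charDegree (χ : G → ℂ) = 1
  · obtain ⟨f, hf⟩ := CfsgLib.LinearTwist.exists_hom_of_charDegree_one (irr_isCharacter χ) hχ
    let ψ : IrrCharacter G := ⟨_, CfsgLib.LinearTwist.isIrr_mul_hom χ₀.2 f⟩
    have hψ : charDegree (ψ : G → ℂ) ≠ 1 := by
      simpa [charDegree, ψ] using h₀
    have h1 := mem_irrKer.1 (h ψ hψ)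
    simp only [ψ, mem_irrKer.1 (h χ₀ h₀), map_one, Units.val_one, mul_one] at h1
    rw [hf]
    simpa using (mul_eq_left₀ (irr_one_ne_zero χ₀)).1 h1
  · exact mem_irrKer.1 (h χ hχ)

/-- Characters of equal degree greater than one are Galois conjugate. -/
def GalEq (G : Type*) [Group G] : Prop :=
  ∀ χ ψ : IrrCharacter G, charDegree (χ : G → ℂ) ≠ 1 →
    charDegree (χ : G → ℂ) = charDegree (ψ : G → ℂ) →
      ∃ k : ℕ, Nat.Coprime k (Nat.card G) ∧ ∀ g : G, (ψ : G → ℂ) g = (χ : G → ℂ) (g ^ k)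

theorem charDegree_infl [Finite G] (N : Subgroup G) [N.Normal] (η : IrrCharacter (G ⧸ N)) :
    charDegree (infl N η : G → ℂ) = charDegree (η : G ⧸ N → ℂ) := by
  simp only [charDegree, infl_apply, QuotientGroup.mk_one]

theorem GalEq.quotient [Finite G] (h : GalEq G) (N : Subgroup G) [N.Normal] : GalEq (G ⧸ N) := by
  intro χ ψ h1 h2
  obtain ⟨k, hk, hk'⟩ := h (infl N χ) (infl N ψ) (by rwa [charDegree_infl])
    (by rwa [charDegree_infl, charDegree_infl])
  refine ⟨k, Nat.Coprime.coprime_dvd_right (Subgroup.card_quotient_dvd_card N) hk, fun q => ?_⟩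
  induction q using QuotientGroup.induction_on with
  | H g => rw [← infl_apply N ψ g, hk' g, infl_apply, QuotientGroup.mk_pow]

theorem mem_of_pow_mem_of_coprime [Finite G] (N : Subgroup G) [N.Normal] {g : G} {k : ℕ}
    (hk : Nat.Coprime k (Nat.card G)) (h : g ^ k ∈ N) : g ∈ N := by
  rw [← QuotientGroup.eq_one_iff] at h ⊢
  rw [QuotientGroup.mk_pow] at h
  have h2 : (g : G ⧸ N) ^ Nat.card G = 1 := by
    rw [← QuotientGroup.mk_pow, pow_card_eq_one', QuotientGroup.mk_one]
  simpa [hk.gcd_eq_one] using (pow_gcd_eq_one).2 ⟨h, h2⟩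

theorem irrKer_eq_of_gal [Finite G] {χ ψ : IrrCharacter G} {k : ℕ}
    (hk : Nat.Coprime k (Nat.card G)) (h : ∀ g : G, (ψ : G → ℂ) g = (χ : G → ℂ) (g ^ k)) :
    irrKer ψ = irrKer χ := by
  ext g
  rw [mem_irrKer, h g, h 1, one_pow, ← mem_irrKer]
  exact ⟨mem_of_pow_mem_of_coprime _ hk, fun hg => pow_mem hg k⟩

theorem GalEq.irrKer_eq [Finite G] (h : GalEq G) {χ ψ : IrrCharacter G}
    (h1 : charDegree (χ : G → ℂ) ≠ 1) (h2 : charDegree (χ : G → ℂ) = charDegree (ψ : G → ℂ)) :
    irrKer ψ = irrKer χ := by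
  obtain ⟨k, hk, hk'⟩ := h χ ψ h1 h2
  exact irrKer_eq_of_gal hk hk'

theorem isCyclic_center_of_faithful [Finite G] {χ : IrrCharacter G} (h : irrKer χ = ⊥) :
    IsCyclic (Subgroup.center G) := by
  obtain ⟨l, hl⟩ := exists_central_hom χ
  refine isCyclic_of_subgroup_isDomain ((Units.coeHom ℂ).comp l) fun z w hzw => ?_
  rw [← mul_inv_eq_one]
  apply Subtype.ext
  have h2 : l (z * w⁻¹) = 1 := by
    rw [map_mul, map_inv, show l z = l w from Units.ext hzw, mul_inv_cancel]
  have h3 := hl (z * w⁻¹) 1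
  rw [h2, Units.val_one, one_mul, mul_one] at h3
  have h4 : ((z * w⁻¹ : Subgroup.center G) : G) ∈ irrKer χ := mem_irrKer.2 h3
  rw [h, Subgroup.mem_bot] at h4
  simpa using h4

section PGroup

variable [Finite G] {p : ℕ} [hp : Fact p.Prime] (hP : IsPGroup p G)
include hP

theorem le_center_of_card_eq (N : Subgroup G) [N.Normal] (hN : Nat.card N = p) :
    N ≤ Subgroup.center G := by
  intro x hx
  refine Subgroup.mem_center_iff.2 fun y => ?_
  classical
  let _ : MulAction G N :=
    { smul := fun g n => ⟨g * n * g⁻¹, Subgroup.Normal.conj_mem ‹N.Normal› n n.2 g⟩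
      one_smul := fun n => Subtype.ext (by simp [HSMul.hSMul])
      mul_smul := fun a b n => Subtype.ext (by simp [HSMul.hSMul, mul_assoc]) }
  have hsm : ∀ (g : G) (n : N), ((g • n : N) : G) = g * n * g⁻¹ := fun g n => rfl
  have hmod := hP.card_modEq_card_fixedPoints N
  rw [hN] at hmod
  have hdvd : p ∣ Nat.card (MulAction.fixedPoints G N) :=
    (Nat.modEq_zero_iff_dvd.1 (hmod.symm.trans (Nat.modEq_zero_iff_dvd.2 dvd_rfl)))
  have hne : 0 < Nat.card (MulAction.fixedPoints G N) := by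
    have : Nonempty (MulAction.fixedPoints G N) :=
      ⟨⟨1, fun g => Subtype.ext (by rw [hsm]; simp)⟩⟩
    exact Nat.card_pos
  have heq : MulAction.fixedPoints G N = Set.univ := by
    refine Set.eq_of_subset_of_ncard_le (Set.subset_univ _) ?_ (Set.toFinite _)
    rw [Set.ncard_univ, hN, ← Nat.card_coe_set_eq]
    exact Nat.le_of_dvd hne hdvd
  have h1 : (⟨x, hx⟩ : N) ∈ MulAction.fixedPoints G N := heq ▸ Set.mem_univ _
  have h2 := congrArg Subtype.val (h1 y)
  rw [hsm] at h2
  exact mul_inv_eq_iff_eq_mul.1 h2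

theorem inf_center_ne_bot' (N : Subgroup G) [N.Normal] (hN : N ≠ ⊥) :
    N ⊓ Subgroup.center G ≠ ⊥ := by
  classical
  let _ : MulAction G N :=
    { smul := fun g n => ⟨g * n * g⁻¹, Subgroup.Normal.conj_mem ‹N.Normal› n n.2 g⟩
      one_smul := fun n => Subtype.ext (by simp [HSMul.hSMul])
      mul_smul := fun a b n => Subtype.ext (by simp [HSMul.hSMul, mul_assoc]) }
  have hsm : ∀ (g : G) (n : N), ((g • n : N) : G) = g * n * g⁻¹ := fun g n => rfl
  have hdvd : p ∣ Nat.card N := by
    obtain ⟨a, ha⟩ := IsPGroup.iff_card.1 (hP.to_subgroup N)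
    rcases Nat.eq_zero_or_pos a with rfl | hpos
    · exact absurd (Subgroup.eq_bot_of_card_eq _ (by simpa using ha)) hN
    · exact ha ▸ dvd_pow_self p hpos.ne'
  obtain ⟨b, hb, hb1⟩ := hP.exists_fixed_point_of_prime_dvd_card_of_fixed_point N hdvd
    (a := (1 : N)) (fun g => Subtype.ext (by rw [hsm]; simp))
  intro h0
  have h1 : (b : G) ∈ N ⊓ Subgroup.center G := ⟨b.2, Subgroup.mem_center_iff.2 fun g => by
    have h2 := congrArg Subtype.val (hb g)
    rw [hsm] at h2
    exact mul_inv_eq_iff_eq_mul.1 h2⟩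
  rw [h0, Subgroup.mem_bot] at h1
  exact hb1 (Subtype.ext h1.symm)

variable (hcard : Nat.card (commutator G) = p)
include hcard

theorem commutator_inf_irrKer {χ : IrrCharacter G} (hχ : charDegree (χ : G → ℂ) ≠ 1) :
    commutator G ⊓ irrKer χ = ⊥ := by
  have hd : Nat.card ↥(commutator G ⊓ irrKer χ) ∣ p := hcard ▸ Subgroup.card_dvd_of_le inf_le_left
  rcases (Nat.dvd_prime hp.out).1 hd with h | h
  · exact Subgroup.eq_bot_of_card_eq _ h
  · refine absurd ((charDegree_eq_one_iff χ).2 ?_) hχ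
    have h2 := Subgroup.eq_of_le_of_card_ge (inf_le_left : commutator G ⊓ irrKer χ ≤ commutator G)
      (by rw [h, hcard])
    exact h2.ge.trans inf_le_right

theorem commutator_le_center' : commutator G ≤ Subgroup.center G :=
  le_center_of_card_eq hP _ hcard

theorem pow_mem_center (x : G) : x ^ p ∈ Subgroup.center G := by
  refine Subgroup.mem_center_iff.2 fun y => ?_
  have hc : ⁅x, y⁆ ∈ commutator G :=
    Subgroup.commutator_mem_commutator (Subgroup.mem_top x) (Subgroup.mem_top y)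
  have h1 := CfsgLib.PGroup.commutatorElement_pow_left_of_central
    (commutator_le_center' hP hcard hc) p
  have h2 : ⁅x, y⁆ ^ p = 1 := by
    have := pow_card_eq_one' (x := (⟨_, hc⟩ : commutator G))
    rw [hcard] at this
    simpa using congrArg Subtype.val this
  rw [h2, commutatorElement_eq_one_iff_mul_comm] at h1
  exact h1.symm

theorem eq_zero_of_notMem_center {χ : IrrCharacter G} (hχ : charDegree (χ : G → ℂ) ≠ 1) {g : G}
    (hg : g ∉ Subgroup.center G) : (χ : G → ℂ) g = 0 := by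
  obtain ⟨y, hy⟩ : ∃ y, ¬ y * g = g * y := by
    simpa [Subgroup.mem_center_iff] using hg
  obtain ⟨l, hl⟩ := exists_central_hom χ
  have hc : ⁅y, g⁆ ∈ commutator G :=
    Subgroup.commutator_mem_commutator (Subgroup.mem_top y) (Subgroup.mem_top g)
  set c : Subgroup.center G := ⟨_, commutator_le_center' hP hcard hc⟩
  have h1 := hl c g
  have h2 : (c : G) * g = y * g * y⁻¹ := by simp [c, commutatorElement_def, mul_assoc]
  rw [h2, irr_isClassFunction χ g y] at h1
  by_contra h0
  have h3 : (l c : ℂ) = 1 := (mul_eq_right₀ h0).1 h1.symm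
  have h4 : ⁅y, g⁆ ∈ irrKer χ := by
    have := hl c 1
    rw [mul_one, h3, one_mul] at this
    exact mem_irrKer.2 this
  have h5 : ⁅y, g⁆ ∈ commutator G ⊓ irrKer χ := ⟨hc, h4⟩
  rw [commutator_inf_irrKer hP hcard hχ, Subgroup.mem_bot,
    commutatorElement_eq_one_iff_mul_comm] at h5
  exact hy h5

theorem degree_sq {χ : IrrCharacter G} (hχ : charDegree (χ : G → ℂ) ≠ 1) :
    charDegree (χ : G → ℂ) ^ 2 = (Subgroup.center G).index := by
  classical
  let _ := Fintype.ofFinite G
  let _ : Fintype (Subgroup.center G) := Fintype.ofFinite _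
  obtain ⟨l, hl⟩ := exists_central_hom χ
  have hs := classInner_irr_self χ.2
  rw [classInner, inv_mul_eq_one₀ (Nat.cast_ne_zero.2 Nat.card_pos.ne')] at hs
  have h1 : ∀ g ∈ (Finset.univ : Finset G), g ∉ Subgroup.center G →
      (χ : G → ℂ) g * conj ((χ : G → ℂ) g) = 0 := fun g _ hg => by
    rw [eq_zero_of_notMem_center hP hcard hχ hg, zero_mul]
  rw [← Finset.sum_subset (Finset.subset_univ (Finset.univ.filter (· ∈ Subgroup.center G)))
    (fun g hg hg' => h1 g hg (by simpa using hg')),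
    Finset.sum_subtype
      (Finset.univ.filter (· ∈ Subgroup.center G)) (p := (· ∈ Subgroup.center G)) (by simp)] at hs
  have h2 : ∀ z : Subgroup.center G, (χ : G → ℂ) z * conj ((χ : G → ℂ) z) =
      (charDegree (χ : G → ℂ) ^ 2 : ℕ) := by
    intro z
    have h := hl z 1
    rw [mul_one] at h
    rw [h, map_mul, conj_irr_one, ← cast_irrDegree]
    have hn : (l z : ℂ) * conj (l z : ℂ) = 1 := by
      rw [← irr_apply_inv ⟨_, isIrrCharacter_of_hom l⟩ z]
      simp
    push_cast
    linear_combination (charDegree (χ : G → ℂ) : ℂ) ^ 2 * hn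
  rw [Finset.sum_congr rfl (fun z _ => h2 z), Finset.sum_const, Finset.card_univ, nsmul_eq_mul,
    ← Nat.card_eq_fintype_card, ← Nat.cast_mul, Nat.cast_inj,
    ← Subgroup.card_mul_index (Subgroup.center G)] at hs
  exact Nat.eq_of_mul_eq_mul_left Nat.card_pos hs.symm

theorem exists_faithful (hgal : GalEq G) :
    ∃ χ : IrrCharacter G, charDegree (χ : G → ℂ) ≠ 1 ∧ irrKer χ = ⊥ := by
  have hna : ¬ IsMulCommutative G := fun h => by
    have h1 : commutator G = ⊥ :=
      eq_bot_iff.2 (Subgroup.commutator_le.2 fun a _ b _ => by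
        rw [Subgroup.mem_bot, commutatorElement_eq_one_iff_mul_comm]
        exact h.1.1 a b)
    rw [h1, Subgroup.card_bot] at hcard
    exact hp.out.ne_one hcard.symm
  obtain ⟨χ, hχ⟩ := exists_nonlinear hna
  refine ⟨χ, hχ, eq_bot_iff.2 fun x hx => ?_⟩
  refine Subgroup.mem_bot.2 (eq_one_of_mem_all_nonlinear χ hχ fun ψ hψ => ?_)
  rwa [hgal.irrKer_eq hχ (Nat.pow_left_injective two_ne_zero
    ((degree_sq hP hcard hχ).trans (degree_sq hP hcard hψ).symm))]

theorem galEq_of_cyclic (hZ : IsCyclic (Subgroup.center G)) : GalEq G := by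
  classical
  have hfaith : ∀ χ : IrrCharacter G, charDegree (χ : G → ℂ) ≠ 1 → irrKer χ = ⊥ := by
    intro χ hχ
    by_contra hne
    have hinf : (irrKer χ ⊓ Subgroup.center G) ≠ ⊥ := by
      exact inf_center_ne_bot' hP (irrKer χ) hne
    have hdvd : p ∣ Nat.card ↥(irrKer χ ⊓ Subgroup.center G) := by
      obtain ⟨n, hn⟩ := IsPGroup.iff_card.1 (hP.to_subgroup (irrKer χ ⊓ Subgroup.center G))
      rcases Nat.eq_zero_or_pos n with rfl | hpos
      · exact absurd (Subgroup.eq_bot_of_card_eq _ (by simpa using hn)) hinf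
      · exact hn ▸ dvd_pow_self p hpos.ne'
    obtain ⟨w, hw⟩ := exists_prime_orderOf_dvd_card' p hdvd
    have hwc : (w : G) ∈ commutator G := by
      obtain ⟨u, hu⟩ := exists_prime_orderOf_dvd_card' (G := commutator G) p (by rw [hcard])
      let w' : Subgroup.center G := ⟨w, w.2.2⟩
      let u' : Subgroup.center G := ⟨u, commutator_le_center' hP hcard u.2⟩
      have hw' : orderOf w' = p := by rw [← hw, ← Subgroup.orderOf_coe, ← Subgroup.orderOf_coe w]
      have hu' : orderOf u' = p := by rw [← hu, ← Subgroup.orderOf_coe, ← Subgroup.orderOf_coe u]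
      let _ := Fintype.ofFinite (Subgroup.center G)
      let A := Finset.univ.filter fun a : Subgroup.center G => a ^ p = 1
      let B := Finset.univ.filter fun a : Subgroup.center G => a ∈ Subgroup.zpowers u'
      have hB : B.card = p := by
        rw [← hu', ← Nat.card_zpowers, Nat.card_eq_fintype_card, Fintype.card_subtype]
      have hBA : B = A := Finset.eq_of_subset_of_card_le (fun a ha => by
        obtain ⟨i, rfl⟩ := Subgroup.mem_zpowers_iff.1 (Finset.mem_filter.1 ha).2
        refine Finset.mem_filter.2 ⟨Finset.mem_univ _, ?_⟩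
        rw [← zpow_natCast, ← zpow_mul, mul_comm, zpow_mul, zpow_natCast, ← hu',
          pow_orderOf_eq_one, one_zpow]) (hB.ge.trans' (IsCyclic.card_pow_eq_one_le hp.out.pos))
      have hwA : w' ∈ B := hBA ▸ Finset.mem_filter.2
        ⟨Finset.mem_univ _, by rw [← hw', pow_orderOf_eq_one]⟩
      obtain ⟨i, hi⟩ := Subgroup.mem_zpowers_iff.1 (Finset.mem_filter.1 hwA).2
      have h2 := congrArg Subtype.val hi
      simp only [Subgroup.coe_zpow] at h2
      rw [← show ((u' : Subgroup.center G) : G) ^ i = (w : G) from h2]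
      exact zpow_mem u.2 i
    have h5 : (w : G) ∈ commutator G ⊓ irrKer χ := ⟨hwc, w.2.1⟩
    rw [commutator_inf_irrKer hP hcard hχ, Subgroup.mem_bot] at h5
    rw [← Subgroup.orderOf_coe, h5, orderOf_one] at hw
    exact hp.out.ne_one hw.symm
  intro χ ψ hχ hdeg
  obtain ⟨l, hl⟩ := exists_central_hom χ
  obtain ⟨m, hm⟩ := exists_central_hom ψ
  obtain ⟨z0, hz0⟩ := IsCyclic.exists_generator (α := Subgroup.center G)
  have hinj : ∀ (φ : IrrCharacter G) (f : Subgroup.center G →* ℂˣ),
      irrKer φ = ⊥ → (∀ (z : Subgroup.center G) (g : G),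
        (φ : G → ℂ) ((z : G) * g) = (f z : ℂ) * (φ : G → ℂ) g) →
      IsPrimitiveRoot (f z0 : ℂ) (orderOf z0) := by
    intro φ f hf hfz
    have hfi : Function.Injective f := by
      rw [← MonoidHom.ker_eq_bot_iff, eq_bot_iff]
      intro z hz
      have h3 := hfz z 1
      rw [MonoidHom.mem_ker.1 hz, Units.val_one, one_mul, mul_one] at h3
      have h4 : (z : G) ∈ irrKer φ := mem_irrKer.2 h3
      rw [hf, Subgroup.mem_bot] at h4
      exact Subgroup.mem_bot.2 (Subtype.ext h4)
    rw [show orderOf z0 = orderOf (f z0 : ℂ) by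
      rw [orderOf_units, orderOf_injective f hfi]]
    exact IsPrimitiveRoot.orderOf _
  have hψ : charDegree (ψ : G → ℂ) ≠ 1 := hdeg ▸ hχ
  have hlp := hinj χ l (hfaith χ hχ) hl
  have hmp := hinj ψ m (hfaith ψ hψ) hm
  have : NeZero (orderOf z0) := ⟨(orderOf_pos z0).ne'⟩
  obtain ⟨k, -, hk⟩ := hlp.eq_pow_of_pow_eq_one hmp.pow_eq_one
  have hkco : Nat.Coprime k (orderOf z0) := (hlp.pow_iff_coprime (orderOf_pos z0) k).1 (hk ▸ hmp)
  have hcz : Nat.card (Subgroup.center G) = orderOf z0 :=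
    (orderOf_eq_card_of_forall_mem_zpowers hz0).symm
  have hpz : p ∣ orderOf z0 := by
    rw [← hcz, ← hcard]; exact Subgroup.card_dvd_of_le (commutator_le_center' hP hcard)
  obtain ⟨n, hn⟩ := IsPGroup.iff_card.1 hP
  have hkG : Nat.Coprime k (Nat.card G) := by
    rw [hn]; exact Nat.Coprime.pow_right _ (hkco.coprime_dvd_right hpz)
  refine ⟨k, hkG, fun g => ?_⟩
  by_cases hg : g ∈ Subgroup.center G
  · obtain ⟨i, hi⟩ : ∃ i : ℕ, z0 ^ i = (⟨g, hg⟩ : Subgroup.center G) :=
      mem_powers_iff_mem_zpowers.2 (hz0 _) |>.imp fun _ h => h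
    have e1 := hm ⟨g, hg⟩ 1
    have e2 := hl ((⟨g, hg⟩ : Subgroup.center G) ^ k) 1
    rw [mul_one] at e1 e2
    rw [Subgroup.coe_pow] at e2
    rw [e1, e2, ← cast_irrDegree, ← cast_irrDegree, ← hdeg, ← hi, map_pow, map_pow, map_pow,
      Units.val_pow_eq_pow_val, Units.val_pow_eq_pow_val, Units.val_pow_eq_pow_val, ← hk,
      ← pow_mul, ← pow_mul, mul_comm k i]
  · rw [eq_zero_of_notMem_center hP hcard hψ hg, eq_zero_of_notMem_center hP hcard hχ]
    exact fun h => hg (mem_of_pow_mem_of_coprime _ hkG h)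

end PGroup

theorem map_commutator_mk (L : Subgroup G) [L.Normal] :
    (commutator G).map (QuotientGroup.mk' L) = commutator (G ⧸ L) := by
  rw [commutator_def, Subgroup.map_commutator, ← MonoidHom.range_eq_map,
    MonoidHom.range_eq_top.2 (QuotientGroup.mk'_surjective L), commutator_def]

theorem card_commutator_quotient [Finite G] (L : Subgroup G) [L.Normal] (_hL : L ≤ commutator G) :
    Nat.card (commutator (G ⧸ L)) = L.relIndex (commutator G) := by
  rw [← map_commutator_mk, ← Subgroup.relIndex_ker (f := QuotientGroup.mk' L),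
    QuotientGroup.ker_mk']

section Main

variable [Finite G] {p : ℕ} [hp : Fact p.Prime]

theorem quotient_data (hP : IsPGroup p G) (hgal : GalEq G) (K : Subgroup G) [K.Normal]
    (hK : K ≤ commutator G) (hidx : K.relIndex (commutator G) = p) :
    ∃ χ : IrrCharacter G, charDegree (χ : G → ℂ) ≠ 1 ∧ irrKer χ = K ∧
      charDegree (χ : G → ℂ) ^ 2 =
        ((Subgroup.center (G ⧸ K)).comap (QuotientGroup.mk' K)).index ∧
      IsCyclic (Subgroup.center (G ⧸ K)) := by
  have hQ : IsPGroup p (G ⧸ K) := hP.to_quotient K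
  have hc : Nat.card (commutator (G ⧸ K)) = p := by rw [card_commutator_quotient K hK, hidx]
  obtain ⟨η, hη, hker⟩ := exists_faithful hQ hc (hgal.quotient K)
  refine ⟨infl K η, by rwa [charDegree_infl], ?_, ?_, isCyclic_center_of_faithful hker⟩
  · ext x
    rw [mem_irrKer, infl_apply, infl_apply, QuotientGroup.mk_one, ← mem_irrKer, hker,
      Subgroup.mem_bot, QuotientGroup.eq_one_iff]
  · rw [charDegree_infl, degree_sq hQ hc hη,
      Subgroup.index_comap_of_surjective _ (QuotientGroup.mk'_surjective K)]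

theorem geom_lt {p : ℕ} (hp : 2 ≤ p) (m : ℕ) :
    ∑ i ∈ Finset.range m, p ^ 2 * p ^ (2 * i) < p ^ (2 * m + 1) := by
  induction m with
  | zero => simp; omega
  | succ m ih =>
    rw [Finset.sum_range_succ]
    have h1 : p ^ (2 * (m + 1) + 1) = p ^ 2 * p ^ (2 * m + 1) := by
      rw [← pow_add]; ring_nf
    have h2 : p ^ 2 * p ^ (2 * m) = p * p ^ (2 * m + 1) := by rw [pow_succ]; ring
    rw [h1, h2]
    calc _ < p ^ (2 * m + 1) + p * p ^ (2 * m + 1) := by omega
      _ ≤ p ^ 2 * p ^ (2 * m + 1) := by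
        rw [← one_add_mul]
        exact Nat.mul_le_mul_right _ (by nlinarith)

/-- The counting argument: a pair `K ≤ G'` of index `p` with large centre modulo `K` is
impossible. -/
theorem center_comap_le (hP : IsPGroup p G) (hgal : GalEq G) (K : Subgroup G) [K.Normal]
    (hKcard : Nat.card K = p) (hK : K ≤ commutator G) (hidx : K.relIndex (commutator G) = p) :
    (Subgroup.center (G ⧸ K)).comap (QuotientGroup.mk' K) ≤ Subgroup.center G := by
  classical
  let _ := Fintype.ofFinite G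
  let _ : Fintype (Subgroup.center G) := Fintype.ofFinite _
  by_contra hnot
  set R := (Subgroup.center (G ⧸ K)).comap (QuotientGroup.mk' K) with hR
  set Z := Subgroup.center G with hZ
  have hKZ : K ≤ Z := le_center_of_card_eq hP K hKcard
  have hc : Nat.card (commutator (G ⧸ K)) = p := by rw [card_commutator_quotient K hK, hidx]
  obtain ⟨χ₀, hχ₀, hker₀, hd₀, hcyc⟩ := quotient_data hP hgal K hK hidx
  have hZR : Z ≤ R := fun z hz => Subgroup.mem_comap.2 (Subgroup.mem_center_iff.2 fun q => by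
    induction q using QuotientGroup.induction_on with
    | H g => rw [QuotientGroup.mk'_apply, ← QuotientGroup.mk_mul, ← QuotientGroup.mk_mul,
        Subgroup.mem_center_iff.1 hz g])
  have hcommK : ∀ r ∈ R, ∀ y : G, ⁅r, y⁆ ∈ K := by
    intro r hr y
    rw [← QuotientGroup.eq_one_iff, ← QuotientGroup.mk'_apply, map_commutatorElement,
      commutatorElement_eq_one_iff_mul_comm]
    exact (Subgroup.mem_center_iff.1 (Subgroup.mem_comap.1 hr) _).symm
  have hexpR : ∀ r ∈ R, r ^ p ∈ Z := by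
    intro r hr
    refine Subgroup.mem_center_iff.2 fun y => ?_
    have h1 := CfsgLib.PGroup.commutatorElement_pow_left_of_central
      (hKZ (hcommK r hr y)) p
    have h2 : ⁅r, y⁆ ^ p = 1 := by
      have := pow_card_eq_one' (x := (⟨_, hcommK r hr y⟩ : K))
      rw [hKcard] at this
      simpa using congrArg Subtype.val this
    rw [h2, commutatorElement_eq_one_iff_mul_comm] at h1
    exact h1.symm
  have hrel : Z.relIndex R = p := by
    obtain ⟨c, hc0⟩ := hcyc.exists_generator
    obtain ⟨r0, hr0⟩ := QuotientGroup.mk'_surjective K (c : G ⧸ K)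
    have hr0R : r0 ∈ R := Subgroup.mem_comap.2 (by rw [hr0]; exact c.2)
    have : (Z.subgroupOf R).Normal := inferInstance
    set r : R ⧸ Z.subgroupOf R := QuotientGroup.mk (⟨r0, hr0R⟩ : R)
    have hgen : ∀ q, q ∈ Subgroup.zpowers r := by
      intro q
      induction q using QuotientGroup.induction_on with
      | H x =>
        obtain ⟨i, hi⟩ := Subgroup.mem_zpowers_iff.1 (hc0 ⟨_, Subgroup.mem_comap.1 x.2⟩)
        refine Subgroup.mem_zpowers_iff.2 ⟨i, ?_⟩
        rw [← QuotientGroup.mk_zpow, QuotientGroup.eq, Subgroup.mem_subgroupOf]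
        apply hKZ
        rw [← QuotientGroup.eq_one_iff]
        have hi' := congrArg Subtype.val hi
        simp only [Subgroup.coe_zpow, QuotientGroup.mk'_apply] at hi'
        simp only [Subgroup.coe_mul, Subgroup.coe_inv, Subgroup.coe_zpow, QuotientGroup.mk_mul,
          QuotientGroup.mk_inv, QuotientGroup.mk_zpow]
        rw [← QuotientGroup.mk'_apply K r0, hr0, hi', inv_mul_cancel]
    have hord : orderOf r = Z.relIndex R := by
      rw [orderOf_eq_card_of_forall_mem_zpowers hgen, Subgroup.relIndex, Subgroup.index_eq_card]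
    have hrp : r ^ p = 1 := by
      rw [← QuotientGroup.mk_pow, QuotientGroup.eq_one_iff, Subgroup.mem_subgroupOf,
        Subgroup.coe_pow]
      exact hexpR r0 hr0R
    rcases (Nat.dvd_prime hp.out).1 (orderOf_dvd_of_pow_eq_one hrp) with h | h
    · exact absurd (Subgroup.relIndex_eq_one.1 (hord.symm.trans h)) hnot
    · exact hord.symm.trans h
  obtain ⟨N, hN⟩ := IsPGroup.iff_card.1 hP
  obtain ⟨m, -, hm⟩ := (Nat.dvd_prime_pow hp.out).1 (hN ▸ irrDegree_dvd_card χ₀)
  have hZidx : Z.index = p ^ (2 * m + 1) := by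
    rw [← Subgroup.relIndex_mul_index hZR, hrel, ← hd₀, hm, ← pow_mul, mul_comm m 2, pow_succ']
  have hexp : ∀ g : G, g ^ p ^ 2 ∈ Z := by
    intro g
    rw [sq, pow_mul]
    exact hexpR _ (Subgroup.mem_comap.2 (by
      rw [map_pow]; exact pow_mem_center (hP.to_quotient K) hc _))
  -- a linear character of the centre, nontrivial on `K`
  obtain ⟨ψ₁, hψ₁⟩ : ∃ ψ : IrrCharacter G, ¬ K ≤ irrKer ψ := by
    by_contra! hall
    have : K ≤ ⊥ := fun x hx => Subgroup.mem_bot.2
      (eq_one_of_forall_irr fun χ => mem_irrKer.1 (hall χ hx))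
    rw [le_bot_iff] at this
    rw [this, Subgroup.card_bot] at hKcard
    exact hp.out.ne_one hKcard.symm
  obtain ⟨l, hl⟩ := exists_central_hom ψ₁
  set S := Finset.univ.filter fun ψ : IrrCharacter G =>
    ∀ z : Z, (ψ : G → ℂ) z = (l z : ℂ) * (ψ : G → ℂ) 1 with hS
  have hconjl : ∀ z : Z, conj (l z : ℂ) = ((l z)⁻¹ : ℂˣ) := fun z => by
    have := irr_apply_inv ⟨_, isIrrCharacter_of_hom l⟩ z
    simp only [map_inv] at this
    exact this.symm
  have hsum : ∑ ψ ∈ S, charDegree (ψ : G → ℂ) ^ 2 = Z.index := by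
    have h : ∀ ψ : IrrCharacter G,
        ∑ z : Z, (ψ : G → ℂ) 1 * (ψ : G → ℂ) z * conj (l z : ℂ) =
        if ψ ∈ S then (Nat.card Z : ℂ) * (charDegree (ψ : G → ℂ) ^ 2 : ℕ) else 0 := by
      intro ψ
      obtain ⟨f, hf⟩ := exists_central_hom ψ
      have hfz : ∀ z : Z, (ψ : G → ℂ) z = (f z : ℂ) * (ψ : G → ℂ) 1 := fun z => by
        simpa using hf z 1
      have hmem : ψ ∈ S ↔ (Units.coeHom ℂ).comp (f / l) = 1 := by
        rw [hS, Finset.mem_filter, and_iff_right (Finset.mem_univ _)]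
        refine ⟨fun hz => MonoidHom.ext fun z => ?_, fun he z => ?_⟩
        · have := (hfz z).symm.trans (hz z)
          have h2 : f z = l z := Units.ext (mul_right_cancel₀ (irr_one_ne_zero ψ) this)
          simp [h2]
        · have h2 : f z / l z = 1 := Units.ext (DFunLike.congr_fun he z)
          rw [hfz, div_eq_one.1 h2]
      have hterm : ∀ z : Z, (ψ : G → ℂ) 1 * (ψ : G → ℂ) z * conj (l z : ℂ) =
          (ψ : G → ℂ) 1 ^ 2 * (Units.coeHom ℂ).comp (f / l) z := by
        intro z
        rw [hfz, hconjl]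
        simp [div_eq_mul_inv]
        ring
      rw [Finset.sum_congr rfl (fun z _ => hterm z), ← Finset.mul_sum, sum_hom_units]
      by_cases hψS : ψ ∈ S
      · rw [if_pos hψS, if_pos (hmem.1 hψS), Nat.cast_pow, cast_irrDegree,
          Nat.card_eq_fintype_card]
        ring
      · rw [if_neg hψS, if_neg (fun he => hψS (hmem.2 he)), Nat.cast_zero, mul_zero]
    have h2 := congrArg (fun f : IrrCharacter G → ℂ => ∑ ψ, f ψ) (funext h)
    beta_reduce at h2
    rw [Finset.sum_comm, ← Finset.sum_filter, Finset.filter_mem_eq_inter, Finset.univ_inter,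
      ← Finset.mul_sum, ← Nat.cast_sum] at h2
    rw [Finset.sum_eq_single (1 : Z)] at h2
    · simp only [OneMemClass.coe_one, map_one, Units.val_one, mul_one, ← sq,
        sum_sq_degrees] at h2
      rw [← Nat.cast_mul, Nat.cast_inj, ← Subgroup.card_mul_index Z] at h2
      exact (Nat.eq_of_mul_eq_mul_left Nat.card_pos h2).symm
    · intro z _ hz
      rw [← Finset.sum_mul, sum_degree_mul_irr, if_neg (fun hh : (z : G) = 1 => hz (Subtype.ext hh)), zero_mul]
    · exact fun hh => absurd (Finset.mem_univ _) hh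
  have hnotker : ∀ ψ ∈ S, ¬ K ≤ irrKer ψ := by
    intro ψ hψ hle
    apply hψ₁
    intro x hx
    have h1 := (Finset.mem_filter.1 hψ).2 ⟨x, hKZ hx⟩
    rw [show (ψ : G → ℂ) (⟨x, hKZ hx⟩ : Z) = (ψ : G → ℂ) 1 from mem_irrKer.1 (hle hx)] at h1
    have h2 := hl ⟨x, hKZ hx⟩ 1
    rw [mul_one, (mul_eq_right₀ (irr_one_ne_zero ψ)).1 h1.symm, one_mul] at h2
    exact mem_irrKer.2 h2
  have hdegS : ∀ ψ ∈ S, ∃ i < m, charDegree (ψ : G → ℂ) = p ^ i := by
    intro ψ hψ
    obtain ⟨i, -, hi⟩ := (Nat.dvd_prime_pow hp.out).1 (hN ▸ irrDegree_dvd_card ψ)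
    have hle : charDegree (ψ : G → ℂ) ^ 2 ≤ p ^ (2 * m + 1) := by
      rw [← hZidx, ← hsum]
      exact Finset.single_le_sum (f := fun φ : IrrCharacter G => charDegree (φ : G → ℂ) ^ 2)
        (fun φ _ => Nat.zero_le _) hψ
    rw [hi, ← pow_mul] at hle
    have hi2 := (Nat.pow_le_pow_iff_right hp.out.one_lt).1 hle
    refine ⟨i, lt_of_le_of_ne (by omega) fun him => hnotker ψ hψ ?_, hi⟩
    rw [hgal.irrKer_eq hχ₀ (by rw [hm, hi, him]), hker₀]
  have hfib : ∀ i, (S.filter fun ψ : IrrCharacter G => charDegree (ψ : G → ℂ) = p ^ i).card ≤ p ^ 2 := by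
    intro i
    rcases (S.filter fun ψ : IrrCharacter G =>
      charDegree (ψ : G → ℂ) = p ^ i).eq_empty_or_nonempty with h | ⟨ψ₀, hψ₀⟩
    · rw [h]; simp
    obtain ⟨hψ₀S, hψ₀d⟩ := Finset.mem_filter.1 hψ₀
    have hψ₀ne : charDegree (ψ₀ : G → ℂ) ≠ 1 := fun h1 =>
      hnotker ψ₀ hψ₀S (hK.trans ((charDegree_eq_one_iff ψ₀).1 h1))
    set o := orderOf l
    have hker : ∀ g : G, (g ^ p ^ 2) ^ o ∈ irrKer ψ₀ := fun g => by
      have h1 := (Finset.mem_filter.1 hψ₀S).2 ((⟨_, hexp g⟩ : Z) ^ o)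
      rw [map_pow, ← MonoidHom.pow_apply, pow_orderOf_eq_one, MonoidHom.one_apply, Units.val_one,
        one_mul, Subgroup.coe_pow] at h1
      exact mem_irrKer.2 h1
    refine (Finset.card_le_card_of_injOn (fun ψ : IrrCharacter G => (ψ : G → ℂ))
      (t := (Finset.range (p ^ 2)).image fun j => fun g : G => (ψ₀ : G → ℂ) (g ^ (1 + o * j)))
      (fun ψ hψ => ?_) (fun a _ b _ h => Subtype.ext h)).trans
      (Finset.card_image_le.trans (Finset.card_range _).le)
    obtain ⟨hψS, hψd⟩ := Finset.mem_filter.1 hψ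
    obtain ⟨k, hk, hk'⟩ := hgal ψ₀ ψ hψ₀ne (hψ₀d.trans hψd.symm)
    have hk1 : 1 ≤ k := by
      refine Nat.one_le_iff_ne_zero.2 fun h0 => ?_
      rw [h0, Nat.coprime_zero_left, ← Subgroup.card_mul_index Z, mul_eq_one, hZidx] at hk
      exact Nat.one_lt_pow (by omega) hp.out.one_lt |>.ne' hk.2
    have hpow : l ^ k = l := by
      refine MonoidHom.ext fun z => Units.ext ?_
      have h1 := (Finset.mem_filter.1 hψS).2 z
      have h2 := (Finset.mem_filter.1 hψ₀S).2 (z ^ k)
      rw [Subgroup.coe_pow, map_pow] at h2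
      rw [hk' z, h2, hk' 1, one_pow] at h1
      exact mul_right_cancel₀ (irr_one_ne_zero ψ₀) h1
    have hdvd : o ∣ k - 1 := orderOf_dvd_of_pow_eq_one (mul_right_cancel (b := l) (by
      rw [← pow_succ, Nat.sub_add_cancel hk1, one_mul, hpow]))
    obtain ⟨t, ht⟩ := hdvd
    refine Finset.mem_image.2 ⟨t % p ^ 2, Finset.mem_range.2 (Nat.mod_lt _ (pow_pos hp.out.pos _)),
      funext fun g => ?_⟩
    show _ = (ψ : G → ℂ) g
    rw [hk' g]
    have hke : k = (1 + o * (t % p ^ 2)) + p ^ 2 * o * (t / p ^ 2) := by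
      have h1 : k = 1 + o * t := by omega
      have h2 := Nat.mod_add_div t (p ^ 2)
      calc k = 1 + o * t := h1
        _ = 1 + o * (t % p ^ 2 + p ^ 2 * (t / p ^ 2)) := by rw [h2]
        _ = _ := by ring
    conv_rhs => rw [hke, pow_add, pow_mul g (p ^ 2 * o), pow_mul g (p ^ 2)]
    rw [apply_mul_of_mem_irrKer ψ₀ (pow_mem (hker g) _)]
  have hmaps : ∀ ψ ∈ S, charDegree (ψ : G → ℂ) ∈ (Finset.range m).image (p ^ ·) := by
    intro ψ hψ
    obtain ⟨i, hi, he⟩ := hdegS ψ hψ
    exact Finset.mem_image.2 ⟨i, Finset.mem_range.2 hi, he.symm⟩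
  have hlt := geom_lt hp.out.two_le m
  rw [← hZidx, ← hsum, ← Finset.sum_fiberwise_of_maps_to hmaps,
    Finset.sum_image fun a _ b _ h => Nat.pow_right_injective hp.out.two_le h] at hlt
  refine hlt.not_ge (Finset.sum_le_sum fun i _ => ?_)
  rw [Finset.sum_congr rfl (fun ψ hψ => by rw [(Finset.mem_filter.1 hψ).2]), Finset.sum_const,
    smul_eq_mul, ← pow_mul, mul_comm i 2]
  exact Nat.mul_le_mul_right _ (hfib i)

theorem exists_normal_index (hP : IsPGroup p G) {n : ℕ} (N : Subgroup G) [N.Normal]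
    (h : p ^ n ∣ Nat.card N) :
    ∃ L : Subgroup G, L.Normal ∧ L ≤ N ∧ L.relIndex N = p ^ n := by
  classical
  let _ := Fintype.ofFinite G
  obtain ⟨a, ha⟩ := IsPGroup.iff_card.1 (hP.to_subgroup N)
  obtain ⟨L, ⟨hLn, hLN, hLd⟩, hmax⟩ := (Set.toFinite
    {L : Subgroup G | L.Normal ∧ L ≤ N ∧ p ^ n ∣ L.relIndex N}).exists_maximalFor id _
    ⟨⊥, inferInstance, bot_le, by rwa [Subgroup.relIndex_bot_left]⟩
  refine ⟨L, hLn, hLN, ?_⟩
  obtain ⟨b, -, hb⟩ := (Nat.dvd_prime_pow hp.out).1
    (ha ▸ Subgroup.relIndex_dvd_card L N : L.relIndex N ∣ p ^ a)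
  rw [hb] at hLd ⊢
  have hnb := (Nat.pow_dvd_pow_iff_le_right hp.out.one_lt).1 hLd
  by_contra hne
  have hlt : n < b := lt_of_le_of_ne hnb fun h => hne (by rw [h])
  set Nb := N.map (QuotientGroup.mk' L)
  have hNbn : Nb.Normal := Subgroup.Normal.map inferInstance _ (QuotientGroup.mk'_surjective L)
  have hNbcard : Nat.card Nb = p ^ b := by
    rw [← hb, ← Subgroup.relIndex_ker (f := QuotientGroup.mk' L) N, QuotientGroup.ker_mk']
  have hNb : Nb ≠ ⊥ := fun h0 => by
    rw [h0, Subgroup.card_bot] at hNbcard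
    exact (Nat.one_lt_pow (by omega) hp.out.one_lt).ne hNbcard
  have hinf := inf_center_ne_bot' (hP.to_quotient L) Nb hNb
  have hdvd : p ∣ Nat.card ↥(Nb ⊓ Subgroup.center (G ⧸ L)) := by
    obtain ⟨c, hc⟩ := IsPGroup.iff_card.1
      ((hP.to_quotient L).to_subgroup (Nb ⊓ Subgroup.center (G ⧸ L)))
    rcases Nat.eq_zero_or_pos c with rfl | hpos
    · exact absurd (Subgroup.eq_bot_of_card_eq _ (by simpa using hc)) hinf
    · exact hc ▸ dvd_pow_self p hpos.ne'
  obtain ⟨x, hx⟩ := exists_prime_orderOf_dvd_card' p hdvd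
  have hxn : (Subgroup.zpowers (x : G ⧸ L)).Normal := ⟨fun y hy g => by
    have hyc : y ∈ Subgroup.center (G ⧸ L) :=
      (Subgroup.zpowers_le.2 x.2.2) hy
    rwa [Subgroup.mem_center_iff.1 hyc g, mul_inv_cancel_right]⟩
  set L2 := (Subgroup.zpowers (x : G ⧸ L)).comap (QuotientGroup.mk' L)
  have hLL2 : L ≤ L2 := by
    intro y hy
    rw [Subgroup.mem_comap, QuotientGroup.mk'_apply, (QuotientGroup.eq_one_iff y).2 hy]
    exact one_mem _
  have hL2N : L2 ≤ N := by
    refine (Subgroup.comap_mono (Subgroup.zpowers_le.2 x.2.1)).trans ?_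
    rw [Subgroup.comap_map_eq, QuotientGroup.ker_mk', sup_eq_left.2 hLN]
  have hrel : L.relIndex L2 = p := by
    conv_lhs => rw [← QuotientGroup.ker_mk' L]
    rw [Subgroup.relIndex_ker, Subgroup.map_comap_eq_self_of_surjective
      (QuotientGroup.mk'_surjective L), Nat.card_zpowers, Subgroup.orderOf_coe, hx]
  have hmul := Subgroup.relIndex_mul_relIndex L L2 N hLL2 hL2N
  rw [hrel, hb] at hmul
  have hL2d : p ^ n ∣ L2.relIndex N := by
    refine Nat.dvd_of_mul_dvd_mul_left hp.out.pos ?_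
    rw [hmul, ← pow_succ']
    exact pow_dvd_pow _ hlt
  have := hmax ⟨hxn.comap _, hL2N, hL2d⟩ hLL2
  have hL2L : L2 = L := le_antisymm this hLL2
  rw [hL2L, Subgroup.relIndex_self] at hrel
  exact hp.out.ne_one hrel.symm

theorem card_commutator_lt (hP : IsPGroup p G) (hgal : GalEq G)
    (h : Nat.card (commutator G) = p ^ 2) : False := by
  classical
  have hsingle : ∀ K : Subgroup G, K ≤ commutator G → Nat.card K = p →
      K.relIndex (commutator G) = p := by
    intro K hK hKc
    have := Subgroup.relIndex_mul_relIndex ⊥ K (commutator G) bot_le hK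
    rw [Subgroup.relIndex_bot_left, Subgroup.relIndex_bot_left, hKc, h, sq] at this
    exact Nat.eq_of_mul_eq_mul_left hp.out.pos this
  obtain ⟨K, hKn, hK, hKi⟩ := exists_normal_index hP (n := 1) (commutator G)
    (by rw [h]; exact pow_dvd_pow p one_le_two)
  rw [pow_one] at hKi
  have hKc : Nat.card K = p := by
    have := Subgroup.relIndex_mul_relIndex ⊥ K (commutator G) bot_le hK
    rw [Subgroup.relIndex_bot_left, Subgroup.relIndex_bot_left, hKi, h, sq] at this
    exact Nat.eq_of_mul_eq_mul_right hp.out.pos this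
  have hR := center_comap_le hP hgal K hKc hK hKi
  have hQ := hP.to_quotient K
  have hc : Nat.card (commutator (G ⧸ K)) = p := by rw [card_commutator_quotient K hK, hKi]
  have hcent : commutator G ≤ Subgroup.center G := by
    refine le_trans ?_ hR
    rw [← Subgroup.map_le_iff_le_comap, map_commutator_mk]
    exact commutator_le_center' hQ hc
  have helem : ∀ x ∈ commutator G, x ^ p = 1 := by
    intro x hx
    rw [commutator_def, Subgroup.commutator_def] at hx
    induction hx using Subgroup.closure_induction with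
    | mem w hw =>
      obtain ⟨a, -, b, -, rfl⟩ := hw
      have hab : ⁅a, b⁆ ∈ Subgroup.center G := hcent
        (Subgroup.commutator_mem_commutator (Subgroup.mem_top a) (Subgroup.mem_top b))
      rw [← CfsgLib.PGroup.commutatorElement_pow_left_of_central hab,
        commutatorElement_eq_one_iff_mul_comm]
      have hap : a ^ p ∈ Subgroup.center G :=
        hR (Subgroup.mem_comap.2 (by rw [map_pow]; exact pow_mem_center hQ hc _))
      exact (Subgroup.mem_center_iff.1 hap b).symm
    | one => exact one_pow p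
    | mul w v hw hv ihw ihv =>
      have hwc : w ∈ Subgroup.center G := hcent (by
        rw [commutator_def, Subgroup.commutator_def]; exact hw)
      rw [Commute.mul_pow (Subgroup.mem_center_iff.1 hwc v).symm, ihw, ihv, one_mul]
    | inv w _ ih => rw [inv_pow, ih, inv_one]
  obtain ⟨y, hy, hyK⟩ : ∃ y ∈ commutator G, y ∉ K := by
    by_contra! hcon
    have h' : p = p ^ 2 := hKc.symm.trans (by rw [le_antisymm hK hcon]; exact h)
    nlinarith [hp.out.two_le]
  set K' := Subgroup.zpowers y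
  have hK'n : K'.Normal := ⟨fun z hz g => by
    have hzc : z ∈ Subgroup.center G := (Subgroup.zpowers_le.2 (hcent hy)) hz
    rwa [Subgroup.mem_center_iff.1 hzc g, mul_inv_cancel_right]⟩
  have hK'le : K' ≤ commutator G := Subgroup.zpowers_le.2 hy
  have hK'c : Nat.card K' = p := by
    rw [Nat.card_zpowers]
    refine orderOf_eq_prime (helem y hy) fun h1 => hyK (h1 ▸ one_mem K)
  have hK'i := hsingle K' hK'le hK'c
  obtain ⟨χ, hχ, hkerχ, hdχ, -⟩ := quotient_data hP hgal K hK hKi
  obtain ⟨ψ, -, hkerψ, hdψ, -⟩ := quotient_data hP hgal K' hK'le hK'i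
  have hR' := center_comap_le hP hgal K' hK'c hK'le hK'i
  have hle : ∀ (N : Subgroup G) [N.Normal],
      Subgroup.center G ≤ (Subgroup.center (G ⧸ N)).comap (QuotientGroup.mk' N) := fun N _ z hz =>
    Subgroup.mem_comap.2 (Subgroup.mem_center_iff.2 fun q => by
      induction q using QuotientGroup.induction_on with
      | H g => rw [QuotientGroup.mk'_apply, ← QuotientGroup.mk_mul, ← QuotientGroup.mk_mul,
          Subgroup.mem_center_iff.1 hz g])
  rw [le_antisymm hR (hle K)] at hdχ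
  rw [le_antisymm hR' (hle K')] at hdψ
  have := hgal.irrKer_eq hχ (Nat.pow_left_injective two_ne_zero (hdχ.trans hdψ.symm))
  rw [hkerψ, hkerχ] at this
  exact hyK (this ▸ Subgroup.mem_zpowers y)

theorem galEq_iff (hP : IsPGroup p G) (hna : ¬ IsMulCommutative G) :
    GalEq G ↔ IsCyclic (Subgroup.center G) ∧ Nat.card (commutator G) = p := by
  refine ⟨fun hgal => ?_, fun h => galEq_of_cyclic hP h.2 h.1⟩
  obtain ⟨n, hn⟩ := IsPGroup.iff_card.1 (hP.to_subgroup (commutator G))
  have hcard : Nat.card (commutator G) = p := by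
    rcases Nat.lt_or_ge n 2 with hlt | hge
    · interval_cases n
      · exfalso
        rw [pow_zero, Subgroup.card_eq_one] at hn
        refine hna ⟨⟨fun a b => commutatorElement_eq_one_iff_mul_comm.1 ?_⟩⟩
        rw [← Subgroup.mem_bot, ← hn]
        exact Subgroup.commutator_mem_commutator (Subgroup.mem_top a) (Subgroup.mem_top b)
      · rw [hn, pow_one]
    · exfalso
      obtain ⟨L, hLn, hL, hLi⟩ := exists_normal_index hP (n := 2) (commutator G)
        (hn ▸ pow_dvd_pow p hge)
      exact card_commutator_lt (hP.to_quotient L) (hgal.quotient L)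
        (by rw [card_commutator_quotient L hL, hLi])
  obtain ⟨χ, -, hker⟩ := exists_faithful hP hcard hgal
  exact ⟨isCyclic_center_of_faithful hker, hcard⟩

end Main

end CfsgLib.Chars17.PGalois
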