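import Cfsg.Agent.Lib.Chars17.TwoClass
import Cfsg.Agent.Lib.Characters.Induction

/-!
# Sylow subgroups in the presence of a character nonzero on exactly two classes
-/

namespace CfsgLib.Chars17

open Cfsg CfsgLib.Characters
open scoped ComplexConjugate

variable {G : Type*} [Group G] [Finite G]

/-- A character vanishing away from `1` on a subgroup has degree divisible by its order. -/
theorem card_dvd_degree_of_vanishing {χ : G → ℂ} (hχ : IsCharacter G χ) (Q : Subgroup G)
    (hv : ∀ x ∈ Q, x ≠ 1 → χ x = 0) : Nat.card Q ∣ charDegree χ := by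
  classical
  let _ := Fintype.ofFinite G
  have hres : IsCharacter Q (fun x : Q => χ x) := by
    obtain ⟨n, ρ, rfl⟩ := hχ
    exact ⟨n, ρ.comp Q.subtype, rfl⟩
  obtain ⟨m, hm⟩ := classInner_char_nat hres (isCharacter_one (G := Q))
  rw [classInner, Finset.sum_eq_single (1 : Q) (fun x _ hx => by
    rw [hv x x.2 (fun h => hx (Subtype.ext h)), zero_mul]) (fun h => absurd (Finset.mem_univ _) h),
    Pi.one_apply, map_one, mul_one, OneMemClass.coe_one, ← cast_charDegree hχ,
    inv_mul_eq_iff_eq_mul₀ (Nat.cast_ne_zero.2 Nat.card_pos.ne')] at hm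
  exact ⟨m, by exact_mod_cast hm⟩

/-- Pulling an irreducible character back along an isomorphism. -/
theorem isIrrCharacter_comp_mulEquiv {H : Type*} [Group H] (f : H ≃* G) {χ : G → ℂ}
    (h : IsIrrCharacter G χ) : IsIrrCharacter H (fun x => χ (f x)) := by
  obtain ⟨n, ρ, hρ, rfl⟩ := h
  refine ⟨n, ρ.comp f.toMonoidHom, ?_, rfl⟩
  rw [isIrreducible_iff] at hρ ⊢
  exact ⟨hρ.1, fun U hU => hρ.2 U fun g v hv => by
    obtain ⟨x, rfl⟩ := f.surjective g
    exact hU x v hv⟩

namespace TwoClass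

variable {χ : IrrCharacter G} {c : G}

theorem card_centralizer_mul (H : TwoClass χ c) {x : G} (hx : x ∈ H.supp) (hx1 : x ≠ 1) :
    Nat.card (Subgroup.centralizer ({x} : Set G)) * Nat.card {g : G // IsConj c g} =
      Nat.card G := by
  have h := (H.mem_supp_iff_isConj.1 hx).resolve_left hx1
  rw [mul_comm, ← card_isConj_mul_card_centralizer x,
    Nat.card_congr (Equiv.subtypeEquivRight fun g => ⟨fun hg => h.symm.trans hg,
      fun hg => h.trans hg⟩)]

theorem sylow_params (H : TwoClass χ c) (p : ℕ) [hp : Fact p.Prime] (hNp : IsPGroup p H.supp) :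
    ∃ a n : ℕ, 0 < n ∧ Nat.card H.supp = p ^ n ∧
      Nat.card G = p ^ (2 * a + n) * Nat.card {g : G // IsConj c g} ∧
      ¬ p ∣ Nat.card {g : G // IsConj c g} ∧
      (Nat.card G).factorization p = 2 * a + n := by
  haveI : Nonempty {x : G // IsConj c x} := ⟨⟨c, IsConj.refl c⟩⟩
  set k := Nat.card {g : G // IsConj c g} with hk
  have hk0 : k ≠ 0 := Nat.card_pos.ne'
  obtain ⟨n, hn⟩ := IsPGroup.iff_card.1 hNp
  have hn0 : 0 < n := Nat.pos_of_ne_zero fun h => H.supp_ne_bot (Subgroup.card_eq_one.1 (by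
    rw [hn, h, pow_zero]))
  have hk1 : k + 1 = p ^ n := by rw [← hn, H.card_supp]
  have hpk : ¬ p ∣ k := fun h => hp.out.not_dvd_one ((Nat.dvd_add_right h).1
    (hk1 ▸ dvd_pow_self p hn0.ne'))
  obtain ⟨e, he, hdeg, hcard⟩ := H.exists_params
  rw [← hk, hk1] at hcard
  rw [← hk] at hdeg
  have hq : ∀ q : ℕ, q.Prime → q ≠ p → ¬ q ∣ e := by
    intro q hqp hqne hdvd
    haveI := Fact.mk hqp
    let Q : Sylow q G := default
    have h1 := card_dvd_degree_of_vanishing (irr_isCharacter χ) (Q : Subgroup G) fun x hx hx1 => by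
      by_contra h
      have hxs := H.mem_supp_iff.2 h
      obtain ⟨i, hi⟩ := Q.2 ⟨x, hx⟩
      obtain ⟨j, hj⟩ := hNp ⟨x, hxs⟩
      simp only [Subtype.ext_iff, SubmonoidClass.coe_pow, OneMemClass.coe_one] at hi hj
      exact hx1 (orderOf_eq_one_iff.1 (Nat.eq_one_of_dvd_coprimes
        ((Nat.coprime_primes hqp hp.out).2 hqne |>.pow i j)
        (orderOf_dvd_of_pow_eq_one hi) (orderOf_dvd_of_pow_eq_one hj)))
    rw [Sylow.card_eq_multiplicity, hdeg] at h1
    have h2 := (Nat.Prime.pow_dvd_iff_le_factorization hqp (mul_ne_zero he.ne' hk0)).1 h1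
    rw [hcard, Nat.factorization_mul (mul_ne_zero (pow_ne_zero _ he.ne') hk0)
        (pow_ne_zero _ hp.out.ne_zero),
      Nat.factorization_mul (pow_ne_zero _ he.ne') hk0, Nat.factorization_pow,
      Nat.factorization_mul he.ne' hk0] at h2
    simp only [Finsupp.coe_add, Finsupp.coe_smul, Pi.add_apply, Pi.smul_apply, smul_eq_mul] at h2
    have h3 : 0 < e.factorization q := hqp.factorization_pos_of_dvd he.ne' hdvd
    omega
  have hea : e = p ^ e.primeFactorsList.length :=
    Nat.eq_prime_pow_of_unique_prime_dvd he.ne' fun {d} hd hdv => by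
      by_contra h; exact hq d hd h hdv
  have hcard' : Nat.card G = p ^ (2 * e.primeFactorsList.length + n) * k := by
    rw [hcard, hea, ← pow_mul, ← hea, pow_add, mul_comm 2]; ring
  refine ⟨_, n, hn0, hn, hcard', hpk, ?_⟩
  rw [hcard', Nat.factorization_mul (pow_ne_zero _ hp.out.ne_zero) hk0, Finsupp.add_apply,
    Nat.factorization_eq_zero_of_not_dvd hpk, hp.out.factorization_pow, Finsupp.single_eq_same,
    add_zero]

theorem exists_sylow_centralizer (H : TwoClass χ c) (p : ℕ) [Fact p.Prime]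
    (hNp : IsPGroup p H.supp) {x : G} (hx : x ∈ H.supp) (hx1 : x ≠ 1) :
    ∃ P : Sylow p G, Subgroup.centralizer ({x} : Set G) = P := by
  obtain ⟨a, n, -, -, hcard, hpk, hfac⟩ := H.sylow_params p hNp
  haveI : Nonempty {g : G // IsConj c g} := ⟨⟨c, IsConj.refl c⟩⟩
  have h := H.card_centralizer_mul hx hx1
  rw [hcard] at h
  have hC := Nat.eq_of_mul_eq_mul_right Nat.card_pos h
  exact ⟨Sylow.ofCard (Subgroup.centralizer ({x} : Set G)) (by rw [hfac, hC]), by
    rw [Sylow.coe_ofCard]⟩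

end TwoClass

end CfsgLib.Chars17
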