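import Cfsg.Agent.Lib.Chars17.Constituents

/-!
# Counting solutions of commutator equations
-/

namespace CfsgLib.Chars17

open Cfsg CfsgLib.Characters
open scoped ComplexConjugate

variable {G : Type*} [Group G]

/-- The number of `y` conjugating `a` to `b`. -/
theorem card_conjugators [Fintype G] (a b : G) :
    (Nat.card {y : G // y * a * y⁻¹ = b} : ℂ) =
      ∑ χ : IrrCharacter G, (χ : G → ℂ) a * conj ((χ : G → ℂ) b) := by
  classical
  rw [column_orth a b]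
  split_ifs with h
  · obtain ⟨c, hc⟩ := isConj_iff.1 h
    congr 1
    refine Nat.card_congr ⟨fun y => ⟨c⁻¹ * y.1, ?_⟩, fun z => ⟨c * z.1, ?_⟩,
      fun y => by simp, fun z => by simp⟩
    · have hy := y.2
      rw [Subgroup.mem_centralizer_singleton_iff]
      calc c⁻¹ * y.1 * a = c⁻¹ * (y.1 * a * y.1⁻¹) * y.1 := by group
        _ = c⁻¹ * (c * a * c⁻¹) * y.1 := by rw [hy, hc]
        _ = a * (c⁻¹ * y.1) := by group
    · have hz := Subgroup.mem_centralizer_singleton_iff.1 z.2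
      calc c * z.1 * a * (c * z.1)⁻¹ = c * (z.1 * a) * z.1⁻¹ * c⁻¹ := by group
        _ = c * (a * z.1) * z.1⁻¹ * c⁻¹ := by rw [hz]
        _ = c * a * c⁻¹ := by group
        _ = b := hc
  · have : IsEmpty {y : G // y * a * y⁻¹ = b} := ⟨fun y => h (isConj_iff.2 ⟨y.1, y.2⟩)⟩
    simp

/-- The Frobenius formula for the number of solutions of `[x, y] = z`. -/
theorem card_commutator_eq [Fintype G] (z : G) :
    (Nat.card {xy : G × G // xy.1 * xy.2 * xy.1⁻¹ * xy.2⁻¹ = z} : ℂ) =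
      (Nat.card G : ℂ) * ∑ χ : IrrCharacter G, (χ : G → ℂ) z / (χ : G → ℂ) 1 := by
  classical
  have e1 : Nat.card {xy : G × G // xy.1 * xy.2 * xy.1⁻¹ * xy.2⁻¹ = z} =
      ∑ x : G, Nat.card {y : G // y * x⁻¹ * y⁻¹ = x⁻¹ * z} := by
    rw [← Nat.card_sigma]
    refine Nat.card_congr ⟨fun p => ⟨p.1.1, p.1.2, ?_⟩, fun q => ⟨(q.1, q.2.1), ?_⟩,
      fun p => rfl, fun q => rfl⟩
    · rw [eq_inv_mul_iff_mul_eq]
      simpa only [mul_assoc] using p.2
    · calc q.1 * q.2.1 * q.1⁻¹ * q.2.1⁻¹ = q.1 * (q.2.1 * q.1⁻¹ * q.2.1⁻¹) := by group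
        _ = z := by rw [q.2.2, mul_inv_cancel_left]
  have e3 : ∀ (χ : IrrCharacter G) (x : G),
      conj ((χ : G → ℂ) (x⁻¹ * z)) = (χ : G → ℂ) (z⁻¹ * x) := fun χ x => by
    rw [← irr_apply_inv, mul_inv_rev, inv_inv]
  have e2 : (Nat.card {xy : G × G // xy.1 * xy.2 * xy.1⁻¹ * xy.2⁻¹ = z} : ℂ) =
      (Nat.card G : ℂ) * ∑ χ : IrrCharacter G, (χ : G → ℂ) z⁻¹ / (χ : G → ℂ) 1 := by
    rw [e1, Nat.cast_sum]
    simp only [card_conjugators]
    rw [Finset.sum_comm, Finset.mul_sum]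
    refine Finset.sum_congr rfl fun χ _ => ?_
    simp only [e3]
    rw [sum_inv_mul_irr χ χ z⁻¹, if_pos rfl, mul_div_assoc]
  have h := congrArg conj e2
  rw [map_natCast, map_mul, map_natCast, map_sum] at h
  rw [h]
  congr 1
  refine Finset.sum_congr rfl fun χ _ => ?_
  rw [map_div₀, conj_irr_one, irr_apply_inv, Complex.conj_conj]

/-- The number of ways of writing `g` as a product of two commutators. -/
theorem card_two_commutators_eq [Fintype G] (g : G) :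
    (Nat.card {q : (G × G) × (G × G) // (q.1.1 * q.1.2 * q.1.1⁻¹ * q.1.2⁻¹) *
        (q.2.1 * q.2.2 * q.2.1⁻¹ * q.2.2⁻¹) = g} : ℂ) =
      (Nat.card G : ℂ) ^ 3 * ∑ χ : IrrCharacter G, (χ : G → ℂ) g / (χ : G → ℂ) 1 ^ 3 := by
  classical
  let cm : G × G → G := fun p => p.1 * p.2 * p.1⁻¹ * p.2⁻¹
  have e1 : Nat.card {q : (G × G) × (G × G) // cm q.1 * cm q.2 = g} =
      ∑ w : G, Nat.card {p : G × G // cm p = w⁻¹} * Nat.card {p : G × G // cm p = w * g} := by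
    simp only [← Nat.card_prod]
    rw [← Nat.card_sigma]
    refine Nat.card_congr
      ⟨fun q => ⟨(cm q.1.1)⁻¹, ⟨q.1.1, (inv_inv _).symm⟩, ⟨q.1.2, ?_⟩⟩,
        fun r => ⟨(r.2.1.1, r.2.2.1), ?_⟩, fun q => rfl, ?_⟩
    · rw [eq_inv_mul_iff_mul_eq]
      exact q.2
    · rw [r.2.1.2, r.2.2.2, inv_mul_cancel_left]
    · rintro ⟨w, ⟨a, ha⟩, ⟨b, hb⟩⟩
      dsimp only
      obtain rfl : w = (cm a)⁻¹ := by rw [ha, inv_inv]
      rfl
  show (Nat.card {q : (G × G) × (G × G) // cm q.1 * cm q.2 = g} : ℂ) = _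
  rw [e1, Nat.cast_sum]
  simp only [Nat.cast_mul, cm, card_commutator_eq]
  have hterm : ∀ w : G,
      (Nat.card G : ℂ) * (∑ χ : IrrCharacter G, (χ : G → ℂ) w⁻¹ / (χ : G → ℂ) 1) *
      ((Nat.card G : ℂ) * ∑ ψ : IrrCharacter G, (ψ : G → ℂ) (w * g) / (ψ : G → ℂ) 1) =
      ∑ χ : IrrCharacter G, ∑ ψ : IrrCharacter G, (Nat.card G : ℂ) ^ 2 /
        ((χ : G → ℂ) 1 * (ψ : G → ℂ) 1) * ((χ : G → ℂ) w⁻¹ * (ψ : G → ℂ) (g * w)) := fun w => by
    rw [mul_mul_mul_comm, Finset.sum_mul_sum, Finset.mul_sum]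
    refine Finset.sum_congr rfl fun χ _ => ?_
    rw [Finset.mul_sum]
    refine Finset.sum_congr rfl fun ψ _ => ?_
    rw [classFunction_mul_comm (irr_isClassFunction ψ) w g]
    field_simp
  simp only [hterm]
  rw [Finset.sum_comm, Finset.mul_sum]
  refine Finset.sum_congr rfl fun χ _ => ?_
  rw [Finset.sum_comm]
  simp only [← Finset.mul_sum, sum_inv_mul_irr, mul_ite, mul_zero]
  rw [Finset.sum_ite_eq, if_pos (Finset.mem_univ _)]
  have := irr_one_ne_zero χ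
  field_simp

end CfsgLib.Chars17
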