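import Cfsg.Prelude.Def_Transfer
import Cfsg.Agent.Lib.Frobenius.Action
import Cfsg.Agent.Lib.Solvable.MinNormal
import Cfsg.Agent.Lib.Solvable.FrobeniusCenter

/-!
# Solvable groups transitive on nonidentity elements with `p`-group point stabilisers

If a finite solvable group `K` with trivial `p`-core acts on an elementary abelian `p`-group `N`,
transitively on `N ∖ 1`, with point stabilisers `p`-groups, then `K` has a normal `p`-complement
and abelian Sylow `p`-subgroups.
-/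

set_option autoImplicit false

namespace CfsgLib.Chars17.FpfSolvable

open Subgroup

variable {p : ℕ} {K N : Type*} [Group K] [CommGroup N] [MulDistribMulAction K N]

/-- The hypotheses on the action. -/
structure FpfHyp (p : ℕ) (K N : Type*) [Group K] [CommGroup N] [MulDistribMulAction K N] :
    Prop where
  exp : ∀ v : N, v ^ p = 1
  nontriv : Nontrivial N
  trans : ∀ v w : N, v ≠ 1 → w ≠ 1 → ∃ k : K, k • v = w
  stab : ∀ (k : K) (v : N), v ≠ 1 → k • v = v → ∃ i, orderOf k = p ^ i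
  core : ∀ M : Subgroup K, M.Normal → IsPGroup p M → M = ⊥

theorem mul_pow_choose {G : Type*} [Group G] {x y c : G} (hy : y * x = c * (x * y))
    (hcx : Commute c x) (hcy : Commute c y) (n : ℕ) :
    (x * y) ^ n = c ^ (n.choose 2) * (x ^ n * y ^ n) := by
  have key : ∀ k : ℕ, y ^ k * x = c ^ k * (x * y ^ k) := by
    intro k
    induction k with
    | zero => simp
    | succ k ih =>
      calc y ^ (k + 1) * x = y ^ k * (y * x) := by rw [pow_succ, mul_assoc]
        _ = c * (y ^ k * x) * y := by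
          rw [hy, ← mul_assoc, ← mul_assoc, (hcy.symm.pow_left k).eq, mul_assoc c]
        _ = c ^ (k + 1) * (x * y ^ (k + 1)) := by
          rw [ih, pow_succ' c, pow_succ y]; group
  induction n with
  | zero => simp
  | succ n ih =>
    calc (x * y) ^ (n + 1) = c ^ n.choose 2 * (x ^ n * (y ^ n * x) * y) := by
          rw [pow_succ, ih]; group
      _ = c ^ n.choose 2 * (c ^ n * (x ^ (n + 1) * y ^ (n + 1))) := by
          rw [key, ← mul_assoc (x ^ n), (hcx.symm.pow_pow n n).eq, pow_succ x, pow_succ y]; group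
      _ = c ^ (n + 1).choose 2 * (x ^ (n + 1) * y ^ (n + 1)) := by
          rw [← mul_assoc (c ^ n.choose 2), ← pow_add, Nat.choose_succ_succ' n 1,
            Nat.choose_one_right, add_comm n (n.choose 2)]

/-- A normal subgroup of order prime to `p` with quotient a `p`-group gives a normal
`p`-complement. -/
theorem hasNormalPComplement_of_forall_pow_mem [Finite K] [hp : Fact p.Prime] (M : Subgroup K)
    [M.Normal] (hM : ¬ p ∣ Nat.card M) (h : ∀ k : K, ∃ i : ℕ, k ^ p ^ i ∈ M) :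
    Cfsg.HasNormalPComplement p K := by
  obtain ⟨P⟩ : Nonempty (Sylow p K) := inferInstance
  refine ⟨P, M, inferInstance, isComplement'_of_coprime ?_ ?_⟩
  · obtain ⟨j, hj⟩ := IsPGroup.iff_card.1 (show IsPGroup p (K ⧸ M) from fun q => by
      obtain ⟨k, rfl⟩ := QuotientGroup.mk_surjective q
      obtain ⟨i, hi⟩ := h k
      exact ⟨i, by rwa [← QuotientGroup.mk_pow, QuotientGroup.eq_one_iff]⟩)
    have hc := Subgroup.card_mul_index M
    rw [Subgroup.index_eq_card, hj] at hc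
    have hfac : (Nat.card K).factorization p = j := by
      rw [← hc, Nat.factorization_mul Nat.card_pos.ne' (pow_ne_zero _ hp.out.ne_zero),
        Finsupp.add_apply, Nat.factorization_eq_zero_of_not_dvd hM, hp.out.factorization_pow,
        Finsupp.single_eq_same, zero_add]
    rw [Sylow.card_eq_multiplicity, hfac, hc]
  · rw [Sylow.card_eq_multiplicity]
    exact ((hp.out.coprime_iff_not_dvd.2 hM).pow_left _).symm

namespace FpfHyp

variable (h : FpfHyp p K N)
include h

theorem eq_one_of_fixed {k : K} {v : N} (hv : v ≠ 1) (hk : k • v = v)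
    (hcop : (orderOf k).Coprime p) : k = 1 := by
  obtain ⟨i, hi⟩ := h.stab k v hv hk
  rw [← orderOf_eq_one_iff]
  rcases Nat.eq_zero_or_pos i with rfl | hi0
  · rw [hi, pow_zero]
  · rw [hi, Nat.coprime_pow_left_iff hi0, Nat.coprime_self] at hcop
    rw [hi, hcop, one_pow]

theorem smul_involution [hp : Fact p.Prime] (hp2 : p ≠ 2) {w : K} (hw : w * w = 1) (hw1 : w ≠ 1)
    (v : N) : w • v = v⁻¹ := by
  by_contra hne
  refine hw1 (h.eq_one_of_fixed (v := v * w • v) (fun h0 => hne (eq_inv_of_mul_eq_one_right h0))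
    (by rw [smul_mul', ← mul_smul, hw, one_smul, mul_comm]) ?_)
  refine Nat.Coprime.coprime_dvd_left (orderOf_dvd_of_pow_eq_one (n := 2) (by rw [sq, hw])) ?_
  exact (Nat.coprime_primes Nat.prime_two hp.out).2 (Ne.symm hp2)

theorem involution_unique [hp : Fact p.Prime] (hp2 : p ≠ 2) {u w : K} (hu : u * u = 1)
    (hu1 : u ≠ 1) (hw : w * w = 1) (hw1 : w ≠ 1) : u = w := by
  haveI := h.nontriv
  by_contra hne
  obtain ⟨v, hv⟩ := exists_ne (1 : N)
  have hfix : ∀ x : N, (u * w) • x = x := fun x => by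
    rw [mul_smul, h.smul_involution hp2 hw hw1, smul_inv', h.smul_involution hp2 hu hu1, inv_inv]
  let T : Subgroup K :=
    { carrier := {k | ∀ x : N, k • x = x}
      one_mem' := fun x => one_smul K x
      mul_mem' := fun {a b} ha hb x => by rw [mul_smul, hb x, ha x]
      inv_mem' := fun {a} ha x => inv_smul_eq_iff.2 (ha x).symm }
  haveI hT : T.Normal := ⟨fun t ht g x => by rw [mul_smul, mul_smul, ht, smul_inv_smul]⟩
  have hTbot := h.core T hT fun t => by
    obtain ⟨i, hi⟩ := h.stab t v hv (t.2 v)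
    exact ⟨i, Subtype.ext (by rw [SubmonoidClass.coe_pow, ← hi, pow_orderOf_eq_one]; rfl)⟩
  have h1 : u * w = 1 := mem_bot.1 (hTbot ▸ (show u * w ∈ T from hfix))
  exact hne ((eq_inv_of_mul_eq_one_left h1).trans (inv_eq_of_mul_eq_one_right hw))

end FpfHyp

/-- A maximal abelian normal subgroup. -/
structure MaxAb (A : Subgroup K) : Prop where
  normal : A.Normal
  comm : ∀ a ∈ A, ∀ b ∈ A, a * b = b * a
  max : ∀ M : Subgroup K, M.Normal → (∀ a ∈ M, ∀ b ∈ M, a * b = b * a) → A ≤ M → M = A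

theorem exists_maxAb [Finite K] : ∃ A : Subgroup K, MaxAb A := by
  obtain ⟨A, hA⟩ := ({A : Subgroup K | A.Normal ∧ ∀ a ∈ A, ∀ b ∈ A, a * b = b * a}).toFinite
    |>.exists_maximal ⟨⊥, inferInstance, by simp⟩
  exact ⟨A, hA.prop.1, hA.prop.2, fun M hM hc hle => (hA.eq_of_le ⟨hM, hc⟩ hle).symm⟩

/-- A normal subgroup `L` above `A` with elementary abelian `2`-quotient, centralizing `A`, and
nonabelian. -/
structure Layer (p : ℕ) (A L : Subgroup K) : Prop where
  normal : L.Normal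
  cent : ∀ l ∈ L, ∀ a ∈ A, l * a = a * l
  comm_mem : ∀ x ∈ L, ∀ y ∈ L, x * y * x⁻¹ * y⁻¹ ∈ A
  sq : ∀ x ∈ L, x * x ∈ A
  noncomm : ∃ x ∈ L, ∃ y ∈ L, x * y ≠ y * x
  le : A ≤ L
  two : p ≠ 2

section

variable [Finite K] [hp : Fact p.Prime] {A L : Subgroup K} (h : FpfHyp p K N) (hA : MaxAb A)
include h hA

theorem eq_one_of_pow {a : K} (ha : a ∈ A) {i : ℕ} (hi : a ^ p ^ i = 1) : a = 1 := by
  haveI := hA.normal
  let T : Subgroup K :=
    { carrier := {x | x ∈ A ∧ ∃ j : ℕ, x ^ p ^ j = 1}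
      one_mem' := ⟨one_mem A, 0, one_pow _⟩
      mul_mem' := fun {a b} ha hb => by
        obtain ⟨ha, j, hj⟩ := ha
        obtain ⟨hb, k, hk⟩ := hb
        exact ⟨mul_mem ha hb, j + k, by
          rw [(show Commute a b from hA.comm a ha b hb).mul_pow, pow_add, pow_mul, hj, one_pow,
            one_mul, mul_comm (p ^ j), pow_mul, hk, one_pow]⟩
      inv_mem' := fun {a} ha => ⟨inv_mem ha.1, by
        obtain ⟨j, hj⟩ := ha.2
        exact ⟨j, by rw [inv_pow, hj, inv_one]⟩⟩ }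
  haveI hT : T.Normal := ⟨fun t ht g => ⟨hA.normal.conj_mem t ht.1 g, by
    obtain ⟨j, hj⟩ := ht.2
    exact ⟨j, by rw [conj_pow, hj, mul_one, mul_inv_cancel]⟩⟩⟩
  exact mem_bot.1 ((h.core T hT fun t => ⟨t.2.2.choose,
    Subtype.ext (by simpa using t.2.2.choose_spec)⟩) ▸ (show a ∈ T from ⟨ha, i, hi⟩))

theorem not_dvd_card : ¬ p ∣ Nat.card A := by
  intro hd
  obtain ⟨⟨a, ha⟩, hao⟩ := exists_prime_orderOf_dvd_card' p hd
  rw [orderOf_mk] at hao
  have h1 : a = 1 := eq_one_of_pow h hA ha (i := 1) (by rw [pow_one, ← hao, pow_orderOf_eq_one])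
  rw [h1, orderOf_one] at hao
  exact hp.out.ne_one hao.symm

theorem exists_gen [Finite N] : ∃ g ∈ A, ∀ a ∈ A, ∃ m : ℤ, g ^ m = a := by
  haveI := h.nontriv
  haveI : IsMulCommutative A := ⟨⟨fun a b => Subtype.ext (hA.comm a a.2 b b.2)⟩⟩
  letI : MulDistribMulAction A N := MulDistribMulAction.compHom N A.subtype
  have hf : Frobenius.IsFPF A N := by
    intro a ha v hv
    by_contra hv1
    obtain ⟨i, hi⟩ := h.stab (a : K) v hv1 hv
    exact ha (Subtype.ext (eq_one_of_pow h hA a.2 (i := i) (by rw [← hi, pow_orderOf_eq_one])))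
  obtain ⟨⟨g, hg⟩, hgen⟩ := hf.isCyclic_of_commutative.exists_generator
  refine ⟨g, hg, fun a ha => ?_⟩
  obtain ⟨m, hm⟩ := mem_zpowers_iff.1 (hgen ⟨a, ha⟩)
  exact ⟨m, by simpa using congrArg Subtype.val hm⟩

/-- An element of prime order `r` centralizing `A` lies in `A`, if `A` has an element of order
`r`. -/
theorem mem_of_pow_eq_one [Finite N] {r : ℕ} (hr : r.Prime) (hrp : r ≠ p) {c : K} (hc : c ∈ A)
    (hco : orderOf c = r) {w : K} (hw : ∀ a ∈ A, w * a = a * w) (hwr : w ^ r = 1) : w ∈ A := by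
  haveI := h.nontriv
  haveI := hA.normal
  by_cases hw1 : w = 1
  · exact hw1 ▸ one_mem A
  set S := zpowers w ⊔ A with hS
  have hmem : ∀ s ∈ S, ∃ m : ℤ, ∃ a ∈ A, s = w ^ m * a := by
    intro s hs
    obtain ⟨y, hy, a, ha, rfl⟩ := mem_sup_of_normal_right.1 hs
    obtain ⟨m, rfl⟩ := mem_zpowers_iff.1 hy
    exact ⟨m, a, ha, rfl⟩
  have hwz : ∀ (m : ℤ), ∀ a ∈ A, Commute (w ^ m) a := fun m a ha =>
    (show Commute w a from hw a ha).zpow_left m
  haveI : IsMulCommutative S := ⟨⟨fun s t => Subtype.ext (by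
    obtain ⟨m, a, ha, hs⟩ := hmem s s.2
    obtain ⟨k, b, hb, ht⟩ := hmem t t.2
    show Commute (s : K) t
    rw [hs, ht]
    exact ((Commute.zpow_zpow_self w m k).mul_right (hwz m b hb)).mul_left
      ((hwz k a ha).symm.mul_right (hA.comm a ha b hb)))⟩⟩
  letI : MulDistribMulAction S N := MulDistribMulAction.compHom N S.subtype
  have hf : Frobenius.IsFPF S N := by
    intro s hs v hv
    by_contra hv1
    obtain ⟨i, hi⟩ := h.stab (s : K) v hv1 hv
    obtain ⟨m, a, ha, hsa⟩ := hmem s s.2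
    have hsr : (s : K) ^ r = a ^ r := by
      rw [hsa, (hwz m a ha).mul_pow, ← zpow_natCast (w ^ m), ← zpow_mul, mul_comm, zpow_mul,
        zpow_natCast, hwr, one_zpow, one_mul]
    have h1 : a ^ r = 1 := eq_one_of_pow h hA (pow_mem ha r) (i := i) (by
      rw [← hsr, ← pow_mul, mul_comm, pow_mul, ← hi, pow_orderOf_eq_one, one_pow])
    refine hs (Subtype.ext (orderOf_eq_one_iff.1 (Nat.eq_one_of_dvd_coprimes
      (((Nat.coprime_primes hr hp.out).2 hrp).pow_right i)
      (orderOf_dvd_of_pow_eq_one (hsr.trans h1)) (dvd_of_eq hi))))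
  haveI := hf.isCyclic_of_commutative
  have hwo : orderOf w = r := haveI := Fact.mk hr; orderOf_eq_prime hwr hw1
  have hwS : w ∈ S := le_sup_left (a := zpowers w) (b := A) (mem_zpowers w)
  have hcS : c ∈ S := le_sup_right (a := zpowers w) (b := A) hc
  have heq := FrobeniusCenter.eq_of_card_eq_of_isCyclic (A := zpowers (⟨w, hwS⟩ : S))
    (B := zpowers (⟨c, hcS⟩ : S)) (by
      rw [Nat.card_zpowers, Nat.card_zpowers, orderOf_mk, orderOf_mk, hwo, hco])
  obtain ⟨m, hm⟩ := mem_zpowers_iff.1 (heq ▸ mem_zpowers (⟨w, hwS⟩ : S))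
  have hm' : c ^ m = w := by simpa using congrArg Subtype.val hm
  exact hm' ▸ zpow_mem hc m

theorem exists_layer [Finite N] [Group.IsSolvable K] {D : Subgroup K} (hD : D.Normal)
    (hle : A ≤ D) (hne : ¬ D ≤ A) (hcent : ∀ d ∈ D, ∀ a ∈ A, d * a = a * d) :
    ∃ L, L ≤ D ∧ Layer p A L := by
  haveI := hA.normal
  have hQ : D.map (QuotientGroup.mk' A) ≠ ⊥ := by
    rw [Ne, Subgroup.map_eq_bot_iff, QuotientGroup.ker_mk']
    exact hne
  obtain ⟨Q, hQmin, hQle⟩ := MinNormal.exists_isMinNormal_le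
    (hD.map _ (QuotientGroup.mk'_surjective A)) hQ
  obtain ⟨r, hr, hel, -, -⟩ := hQmin.elementaryAbelian_of_solvable
  haveI := hQmin.1
  haveI := Fact.mk hr
  set L := Q.comap (QuotientGroup.mk' A) with hL
  have hLle : L ≤ D := fun x hx => by
    obtain ⟨d, hd, hde⟩ := hQle hx
    obtain ⟨a, ha, rfl⟩ : ∃ a ∈ A, d * a = x :=
      ⟨d⁻¹ * x, QuotientGroup.eq.1 hde, mul_inv_cancel_left d x⟩
    exact mul_mem hd (hle ha)
  have hAL : A ≤ L := fun a ha => by
    show (a : K ⧸ A) ∈ Q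
    rw [(QuotientGroup.eq_one_iff a).2 ha]
    exact one_mem Q
  have hcentL : ∀ l ∈ L, ∀ a ∈ A, l * a = a * l := fun l hl => hcent l (hLle hl)
  have hcm : ∀ x ∈ L, ∀ y ∈ L, x * y * x⁻¹ * y⁻¹ ∈ A := fun x hx y hy => by
    have h1 := congrArg Subtype.val (hel.1.is_comm.comm ⟨(x : K ⧸ A), hx⟩ ⟨(y : K ⧸ A), hy⟩)
    simp only [Subgroup.coe_mul] at h1
    rw [← QuotientGroup.eq_one_iff, QuotientGroup.mk_mul, QuotientGroup.mk_mul,
      QuotientGroup.mk_mul, QuotientGroup.mk_inv, QuotientGroup.mk_inv, h1]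
    group
  have hpow : ∀ x ∈ L, x ^ r ∈ A := fun x hx => by
    rw [← QuotientGroup.eq_one_iff, QuotientGroup.mk_pow]
    exact hel.2 _ hx
  have hnc : ∃ x ∈ L, ∃ y ∈ L, x * y ≠ y * x := by
    by_contra! hc
    have hLA := hA.max L inferInstance hc hAL
    apply hQmin.2.1
    rw [eq_bot_iff]
    intro q hq
    obtain ⟨x, rfl⟩ := QuotientGroup.mk_surjective q
    exact mem_bot.2 ((QuotientGroup.eq_one_iff x).2 (hLA ▸ hq))
  have hcr : ∀ x ∈ L, ∀ y ∈ L, (x * y * x⁻¹ * y⁻¹) ^ r = 1 := fun x hx y hy => by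
    have hA' := hcm x hx y hy
    set c := x * y * x⁻¹ * y⁻¹ with hc
    have h1 : (c * y) ^ r = y ^ r := by
      rw [show c * y = x * y * x⁻¹ by rw [hc]; group, conj_pow,
        hcentL x hx _ (hpow y hy), mul_inv_cancel_right]
    rwa [(show Commute c y from (hcentL y hy c hA').symm).mul_pow, mul_eq_right] at h1
  obtain ⟨x, hx, y, hy, hxy⟩ := hnc
  set c := x * y * x⁻¹ * y⁻¹ with hc
  have hc1 : c ≠ 1 := fun h0 => hxy (by rwa [hc, mul_inv_eq_one, mul_inv_eq_iff_eq_mul] at h0)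
  have hcA := hcm x hx y hy
  have hco : orderOf c = r := orderOf_eq_prime (hcr x hx y hy) hc1
  have hrp : r ≠ p := fun h0 => hc1 (eq_one_of_pow h hA hcA (i := 1)
    (by rw [pow_one, ← h0]; exact hcr x hx y hy))
  by_cases hr2 : r = 2
  · subst hr2
    exact ⟨L, hLle, inferInstance, hcentL, hcm, fun z hz => by simpa [sq] using hpow z hz,
      ⟨x, hx, y, hy, hxy⟩, hAL, hrp.symm⟩
  exfalso
  obtain ⟨g, hg, hgen⟩ := exists_gen h hA
  have key : ∀ z ∈ L, z ^ r = 1 → z ∈ A := fun z hz hzr =>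
    mem_of_pow_eq_one h hA hr hrp hcA hco (hcentL z hz) hzr
  have hxA : x ∉ A := fun h0 => hxy (hcentL y hy x h0).symm
  have hyA : y ∉ A := fun h0 => hxy (hcentL x hx y h0)
  obtain ⟨i, hi⟩ := hgen _ (hpow x hx)
  obtain ⟨j, hj⟩ := hgen _ (hpow y hy)
  have hjr : ¬ (r : ℤ) ∣ j := by
    rintro ⟨t, rfl⟩
    refine hyA ((mul_mem_cancel_right (inv_mem (zpow_mem hg t))).1
      (key _ (mul_mem hy (hAL (inv_mem (zpow_mem hg t)))) ?_))
    rw [(show Commute y (g ^ t)⁻¹ from hcentL y hy _ (inv_mem (zpow_mem hg t))).mul_pow, ← hj,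
      inv_pow, ← zpow_natCast (g ^ t), ← zpow_mul, mul_comm t, mul_inv_cancel]
  obtain ⟨u, v, huv⟩ := ((Nat.prime_iff_prime_int.1 hr).coprime_iff_not_dvd.2 hjr)
  -- `Y = y ^ (- i v)`
  set Y := y ^ (-(i * v)) with hY
  have hYL : Y ∈ L := zpow_mem hy _
  set c' := Y * x * Y⁻¹ * x⁻¹ with hc'
  have hc'A := hcm Y hYL x hx
  have hbA : g ^ (-(i * u)) ∈ A := zpow_mem hg _
  have hxYA : x * Y ∈ A := by
    refine (mul_mem_cancel_right hbA).1 (key _ (mul_mem (mul_mem hx hYL) (hAL hbA)) ?_)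
    rw [(show Commute (x * Y) (g ^ (-(i * u))) from hcentL _ (mul_mem hx hYL) _ hbA).mul_pow,
      mul_pow_choose (c := c') (by rw [hc']; group) (hcentL x hx c' hc'A).symm
        (hcentL Y hYL c' hc'A).symm]
    obtain ⟨t, ht⟩ := hr.dvd_choose_self (by omega : (2 : ℕ) ≠ 0)
      (lt_of_le_of_ne hr.two_le (Ne.symm hr2))
    rw [ht, pow_mul, hcr Y hYL x hx, one_pow, one_mul, hY, ← zpow_natCast (y ^ _), ← zpow_mul,
      mul_comm _ (r : ℤ), zpow_mul, zpow_natCast, ← hi, ← hj, ← zpow_natCast (g ^ (-(i * u))),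
      ← zpow_mul, ← zpow_mul, ← zpow_add, ← zpow_add]
    rw [show i + j * -(i * v) + -(i * u) * (r : ℤ) = i * (1 - (u * r + v * j)) by ring, huv,
      sub_self, mul_zero, zpow_zero]
  apply hxy
  have h1 : x = (x * Y) * y ^ (i * v) := by rw [hY, zpow_neg, inv_mul_cancel_right]
  rw [h1]
  exact ((show Commute (x * Y) y from (hcentL y hy _ hxYA).symm).mul_left
    ((Commute.refl y).zpow_left _)).eq

theorem mem_of_sq [Finite N] (hp2 : p ≠ 2) {c : K} (hc : c ∈ A) (hc2 : c * c = 1) (hc1 : c ≠ 1)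
    {w : K} (hw : w * w = 1) : w ∈ A := by
  by_cases hw1 : w = 1
  · exact hw1 ▸ one_mem A
  · exact h.involution_unique hp2 hw hw1 hc2 hc1 ▸ hc

variable (hL : Layer p A L)
include hL

/-- The commutator of two noncommuting elements is the involution. -/
theorem layer_comm {x y : K} (hx : x ∈ L) (hy : y ∈ L) (hxy : x * y ≠ y * x) :
    x * y * x⁻¹ * y⁻¹ ≠ 1 ∧ (x * y * x⁻¹ * y⁻¹) * (x * y * x⁻¹ * y⁻¹) = 1 := by
  have hA' := hL.comm_mem x hx y hy
  set c := x * y * x⁻¹ * y⁻¹ with hc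
  refine ⟨fun h0 => hxy (by rwa [hc, mul_inv_eq_one, mul_inv_eq_iff_eq_mul] at h0), ?_⟩
  have h1 : (c * y) * (c * y) = y * y := by
    rw [show c * y = x * y * x⁻¹ by rw [hc]; group,
      show x * y * x⁻¹ * (x * y * x⁻¹) = x * (y * y) * x⁻¹ by group,
      hL.cent x hx _ (hL.sq y hy), mul_inv_cancel_right]
  rw [mul_assoc, ← mul_assoc y, hL.cent y hy c hA', mul_assoc c, ← mul_assoc] at h1
  exact mul_eq_right.1 h1

theorem exists_involution : ∃ c ∈ A, c * c = 1 ∧ c ≠ 1 := by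
  obtain ⟨x, hx, y, hy, hxy⟩ := hL.noncomm
  exact ⟨_, hL.comm_mem x hx y hy, (layer_comm h hA hL hx hy hxy).2,
    (layer_comm h hA hL hx hy hxy).1⟩

theorem sq_eq_sq [Finite N] {x b : K} (hx : ∀ a ∈ A, x * a = a * x) (hb : b ∈ A)
    (he : x * x = b * b) : x ∈ A := by
  obtain ⟨c, hc, hc2, hc1⟩ := exists_involution h hA hL
  refine (mul_mem_cancel_right (inv_mem hb)).1 (mem_of_sq h hA hL.two hc hc2 hc1 ?_)
  rw [mul_assoc x, ← mul_assoc b⁻¹, ← hx _ (inv_mem hb), mul_assoc x, ← mul_assoc x, he]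
  group

/-- The product of two nonsquares of `A` is a square. -/
theorem mul_sq [Finite N] {a a' : K} (ha : a ∈ A) (ha' : a' ∈ A) (hns : ∀ b ∈ A, a ≠ b * b)
    (hns' : ∀ b ∈ A, a' ≠ b * b) : ∃ b ∈ A, a * a' = b * b := by
  obtain ⟨g, hg, hgen⟩ := exists_gen h hA
  obtain ⟨i, rfl⟩ := hgen a ha
  obtain ⟨j, rfl⟩ := hgen a' ha'
  rcases Int.even_or_odd' i with ⟨s, rfl | rfl⟩
  · exact absurd (by rw [← zpow_add, two_mul]) (hns _ (zpow_mem hg s))
  rcases Int.even_or_odd' j with ⟨t, rfl | rfl⟩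
  · exact absurd (by rw [← zpow_add, two_mul]) (hns' _ (zpow_mem hg t))
  exact ⟨g ^ (s + t + 1), zpow_mem hg _, by rw [← zpow_add, ← zpow_add]; congr 1; ring⟩

theorem prod_mem [Finite N] {x y : K} (hx : x ∈ L) (hy : ∀ a ∈ A, y * a = a * y)
    (hy2 : y * y ∈ A) (hxA : x ∉ A) (hyA : y ∉ A) (hxy : x * y = y * x) : x * y ∈ A := by
  obtain ⟨b, hb, he⟩ := mul_sq h hA hL (hL.sq x hx) hy2
    (fun b hb h0 => hxA (sq_eq_sq h hA hL (hL.cent x hx) hb h0))
    (fun b hb h0 => hyA (sq_eq_sq h hA hL hy hb h0))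
  refine sq_eq_sq h hA hL (fun a ha => ?_) hb ?_
  · rw [mul_assoc, hy a ha, ← mul_assoc, hL.cent x hx a ha, mul_assoc]
  · rw [← he, mul_assoc x, ← mul_assoc y, ← hxy, mul_assoc x, ← mul_assoc x x]

theorem cover [Finite N] {x y : K} (hx : x ∈ L) (hy : y ∈ L) (hxy : x * y ≠ y * x) {z : K}
    (hz : z ∈ L) : z ∈ A ∨ z * x ∈ A ∨ z * y ∈ A ∨ z * y * x ∈ A := by
  have hxA : x ∉ A := fun h0 => hxy (hL.cent y hy x h0).symm
  by_cases hzA : z ∈ A
  · exact .inl hzA
  by_cases hzx : z * x = x * z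
  · exact .inr (.inl (prod_mem h hA hL hz (hL.cent x hx) (hL.sq x hx) hzA hxA hzx))
  by_cases hzy : z * y ∈ A
  · exact .inr (.inr (.inl hzy))
  refine .inr (.inr (.inr ?_))
  have e : z * x * z⁻¹ * x⁻¹ = y * x * y⁻¹ * x⁻¹ := h.involution_unique hL.two
    (layer_comm h hA hL hz hx hzx).2 (layer_comm h hA hL hz hx hzx).1
    (layer_comm h hA hL hy hx (Ne.symm hxy)).2 (layer_comm h hA hL hy hx (Ne.symm hxy)).1
  refine prod_mem h hA hL (mul_mem hz hy) (hL.cent x hx) (hL.sq x hx) hzy hxA ?_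
  set c := z * x * z⁻¹ * x⁻¹ with hc
  have hcA : c ∈ A := hL.comm_mem z hz x hx
  have hcc : c * c = 1 := (layer_comm h hA hL hz hx hzx).2
  calc z * y * x = z * (c * x) * y := by rw [e]; group
    _ = c * (c * x) * (z * y) := by
      rw [← mul_assoc z c x, hL.cent z hz c hcA, mul_assoc c z x,
        show z * x = c * x * z by rw [hc]; group]
      group
    _ = x * (z * y) := by rw [← mul_assoc c, hcc, one_mul]

theorem card_image_le [Finite N] (hn : A.Normal) :
    Nat.card (L.map (QuotientGroup.mk' A)) ≤ 4 := by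
  haveI := hn
  obtain ⟨x, hx, y, hy, hxy⟩ := hL.noncomm
  have hsub : ((L.map (QuotientGroup.mk' A)) : Set (K ⧸ A)) ⊆
      insert 1 (insert (x : K ⧸ A)⁻¹ (insert (y : K ⧸ A)⁻¹
        {((y : K ⧸ A) * (x : K ⧸ A))⁻¹})) := by
    rintro q ⟨z, hz, rfl⟩
    simp only [Set.mem_insert_iff, Set.mem_singleton_iff, QuotientGroup.mk'_apply,
      eq_inv_iff_mul_eq_one, ← QuotientGroup.mk_mul, QuotientGroup.eq_one_iff, ← mul_assoc]
    exact cover h hA hL hx hy hxy hz
  have h1 := Set.ncard_le_ncard hsub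
  have h2 := Set.ncard_insert_le (1 : K ⧸ A) (insert (x : K ⧸ A)⁻¹ (insert (y : K ⧸ A)⁻¹
        {((y : K ⧸ A) * (x : K ⧸ A))⁻¹}))
  have h3 := Set.ncard_insert_le (x : K ⧸ A)⁻¹ (insert (y : K ⧸ A)⁻¹
        {((y : K ⧸ A) * (x : K ⧸ A))⁻¹})
  have h4 := Set.ncard_insert_le (y : K ⧸ A)⁻¹ {((y : K ⧸ A) * (x : K ⧸ A))⁻¹}
  rw [Set.ncard_singleton] at h4
  rw [← SetLike.coe_sort_coe, Nat.card_coe_set_eq]
  omega

/-- A `p`-element centralizing `A` and fixing every coset in `L ⧸ A` is trivial. -/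
theorem eq_one_of_fix_cosets [Finite N] [Group.IsSolvable K] {e : K} {i : ℕ}
    (he : e ^ p ^ i = 1) (hea : ∀ a ∈ A, e * a = a * e)
    (hel : ∀ l ∈ L, l⁻¹ * (e * l * e⁻¹) ∈ A) : e = 1 := by
  haveI := hA.normal
  haveI := hL.normal
  have hcomm : ∀ l ∈ L, Commute e l := by
    intro l hl
    have ha := hel l hl
    set a := l⁻¹ * (e * l * e⁻¹) with hadef
    have hla : e * l * e⁻¹ = l * a := (mul_inv_cancel_left l _).symm
    have haa : a * a = 1 := by
      have h1 : (l * a) * (l * a) = l * l := by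
        rw [← hla, show e * l * e⁻¹ * (e * l * e⁻¹) = e * (l * l) * e⁻¹ by group,
          hea _ (hL.sq l hl), mul_inv_cancel_right]
      rw [show l * a * (l * a) = l * (a * l) * a by group, ← hL.cent l hl a ha,
        show l * (l * a) * a = (l * l) * (a * a) by group] at h1
      exact mul_eq_left.1 h1
    have h2 : Commute (e * e) l := by
      have : e * e * l * (e * e)⁻¹ = l := by
        rw [show e * e * l * (e * e)⁻¹ = e * (e * l * e⁻¹) * e⁻¹ by group, hla,
          show e * (l * a) * e⁻¹ = (e * l * e⁻¹) * (e * a * e⁻¹) by group, hla, hea a ha,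
          mul_inv_cancel_right, mul_assoc, haa, mul_one]
      exact mul_inv_eq_iff_eq_mul.1 this
    obtain ⟨s, hs⟩ := (hp.out.odd_of_ne_two hL.two).pow (n := i)
    have : e = (e * e) ^ (s + 1) := by
      rw [← sq, ← pow_mul, show 2 * (s + 1) = p ^ i + 1 by omega, pow_succ, he, one_mul]
    rw [this]
    exact h2.pow_left _
  set D := centralizer (L : Set K) with hD
  have heD : e ∈ D := mem_centralizer_iff.2 fun l hl => (hcomm l hl).eq.symm
  have hDA : D ≤ A := by
    by_contra hne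
    have hAD : A ≤ D := fun a ha => mem_centralizer_iff.2 fun l hl => hL.cent l hl a ha
    obtain ⟨L', hL'D, hL'⟩ := exists_layer h hA (D := D) inferInstance hAD hne
      fun d hd a ha => (mem_centralizer_iff.1 hd a (hL.le ha)).symm
    obtain ⟨z, hz, z', hz', hzz⟩ := hL'.noncomm
    obtain ⟨x, hx, y, hy, hxy⟩ := hL.noncomm
    have hzA : z ∉ A := fun h0 => hzz (hL'.cent z' hz' z h0).symm
    have hxA : x ∉ A := fun h0 => hxy (hL.cent y hy x h0).symm
    have hzc : ∀ l ∈ L, l * z = z * l := mem_centralizer_iff.1 (hL'D hz)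
    have hm := prod_mem h hA hL hx (hL'.cent z hz) (hL'.sq z hz) hxA hzA (hzc x hx)
    apply hxy
    have h1 : x = x * z * z⁻¹ := (mul_inv_cancel_right x z).symm
    rw [h1]
    exact ((show Commute (x * z) y from (hL.cent y hy _ hm).symm).mul_left
      (show Commute z y from (hzc y hy).symm).inv_left).eq
  exact eq_one_of_pow h hA (hDA heD) he

end

theorem comm_centralizes [Finite K] [Fact p.Prime] [Finite N] (h : FpfHyp p K N) {A : Subgroup K}
    (hA : MaxAb A) (x y : K) {a : K} (ha : a ∈ A) :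
    x * y * x⁻¹ * y⁻¹ * a = a * (x * y * x⁻¹ * y⁻¹) := by
  obtain ⟨g, hg, hgen⟩ := exists_gen h hA
  have key : ∀ u v : K, ∀ b ∈ A, u * v * b * v⁻¹ * u⁻¹ = v * u * b * u⁻¹ * v⁻¹ := by
    intro u v b hb
    obtain ⟨s, hs⟩ := hgen _ (hA.normal.conj_mem g hg u)
    obtain ⟨t, ht⟩ := hgen _ (hA.normal.conj_mem g hg v)
    obtain ⟨m, rfl⟩ := hgen b hb
    have hu : ∀ n : ℤ, u * g ^ n * u⁻¹ = g ^ (s * n) := fun n => by rw [← conj_zpow, ← hs, zpow_mul]
    have hv : ∀ n : ℤ, v * g ^ n * v⁻¹ = g ^ (t * n) := fun n => by rw [← conj_zpow, ← ht, zpow_mul]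
    rw [show u * v * g ^ m * v⁻¹ * u⁻¹ = u * (v * g ^ m * v⁻¹) * u⁻¹ by group, hv, hu,
      show v * u * g ^ m * u⁻¹ * v⁻¹ = v * (u * g ^ m * u⁻¹) * v⁻¹ by group, hu, hv]
    congr 1; ring
  have := key x y (x⁻¹ * y⁻¹ * a * y * x) (by
    simpa [mul_assoc] using hA.normal.conj_mem a ha (x⁻¹ * y⁻¹))
  rw [show y * x * (x⁻¹ * y⁻¹ * a * y * x) * x⁻¹ * y⁻¹ = a by group] at this
  calc x * y * x⁻¹ * y⁻¹ * a
      = (x * y * (x⁻¹ * y⁻¹ * a * y * x) * y⁻¹ * x⁻¹) * (x * y * x⁻¹ * y⁻¹) := by group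
    _ = _ := by rw [this]

/-- Counting step: a quaternion pair acting on a group of exponent three. -/
theorem card_le_nine_aux [Finite N] (hexp : ∀ v : N, v ^ 3 = 1) (f g : N →* N)
    (hff : ∀ v, f (f v) = v⁻¹) (hgg : ∀ v, g (g v) = v⁻¹) (hfg : ∀ v, g (f v) = (f (g v))⁻¹)
    (hP : ∀ v : N, ∃ a b : Fin 3, g v = v ^ (a : ℕ) * f v ^ (b : ℕ)) : Nat.card N ≤ 9 := by
  classical
  let _ := Fintype.ofFinite N
  have hred : ∀ (v : N) (n : ℕ), v ^ n = v ^ (n % 3) := fun v n =>
    pow_eq_pow_mod n (hexp v)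
  have hind : ∀ (v : N) (n : ℕ), f v = v ^ n → v = 1 := by
    intro v n hn
    have h1 : v ^ (n * n + 1) = 1 := by
      have h0 := hff v
      rw [hn, map_pow, hn, ← pow_mul] at h0
      rw [pow_succ, h0, inv_mul_cancel]
    rw [hred] at h1
    have : (n * n + 1) % 3 = 1 ∨ (n * n + 1) % 3 = 2 := by
      rw [Nat.add_mod, Nat.mul_mod]
      have : n % 3 = 0 ∨ n % 3 = 1 ∨ n % 3 = 2 := by omega
      rcases this with h | h | h <;> simp [h]
    rcases this with h | h <;> rw [h] at h1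
    · simpa using h1
    · calc v = v ^ 3 * (v ^ 2)⁻¹ := by group
        _ = 1 := by rw [hexp, h1, inv_one, one_mul]
  let E : Fin 3 × Fin 3 → Finset N := fun ab =>
    Finset.univ.filter fun v => g v = v ^ (ab.1 : ℕ) * f v ^ (ab.2 : ℕ)
  let I : Finset (Fin 3 × Fin 3) := Finset.univ.filter fun ab => ab.1 ≠ 0 ∧ ab.2 ≠ 0
  have hcov : (Finset.univ : Finset N).erase 1 ⊆ I.biUnion fun ab => (E ab).erase 1 := by
    intro v hv
    obtain ⟨a, b, hab⟩ := hP v
    have hv1 := Finset.ne_of_mem_erase hv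
    refine Finset.mem_biUnion.2 ⟨(a, b), ?_, by simp [E, hv1, hab]⟩
    have h1 : v ^ ((a : ℕ) * a + (b : ℕ) * b + 1) = 1 := by
      have h0 := hgg v
      rw [hab, map_mul, map_pow, map_pow, hfg, hab, map_mul, map_pow, map_pow, hff] at h0
      simp only [mul_pow, mul_inv, inv_pow, inv_inv, ← pow_mul] at h0
      rw [mul_comm (a : ℕ) b] at h0
      rw [pow_succ, pow_add, show v ^ ((a : ℕ) * a) * v ^ ((b : ℕ) * b) = v⁻¹ from ?_,
        inv_mul_cancel]
      rw [← h0]
      simp [mul_assoc, mul_left_comm]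
    simp only [I, Finset.mem_filter, Finset.mem_univ, true_and]
    by_contra hI
    have hdec : ∀ a b : Fin 3, ¬(a ≠ 0 ∧ b ≠ 0) →
        Nat.Coprime ((a : ℕ) * a + (b : ℕ) * b + 1) 3 := by decide
    exact hv1 ((fun hc h1 => orderOf_eq_one_iff.1 (Nat.eq_one_of_dvd_coprimes hc
      (orderOf_dvd_of_pow_eq_one h1) (orderOf_dvd_of_pow_eq_one (hexp v)))) (hdec a b hI) h1)
  have hE : ∀ ab ∈ I, (E ab).card * (E ab).card ≤ Fintype.card N := by
    intro ab hab
    rw [← Finset.card_product]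
    refine Finset.card_le_card_of_injOn (fun q => q.1 * f q.2) (by simp) ?_
    rintro ⟨u, v⟩ huv ⟨u', v'⟩ huv' he
    simp only [Finset.coe_product, Set.mem_prod, Finset.coe_filter, E, Finset.mem_univ, true_and,
      Set.mem_setOf_eq] at huv huv'
    simp only at he
    suffices v = v' by subst this; exact Prod.ext (mul_right_cancel he) rfl
    set w := v' * v⁻¹ with hw
    have hwE : g w = w ^ (ab.1 : ℕ) * f w ^ (ab.2 : ℕ) := by
      rw [hw, map_mul, map_inv, huv'.2, huv.2, map_mul, map_inv, mul_pow, mul_pow, inv_pow,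
        inv_pow, mul_inv, mul_mul_mul_comm]
    have hfw : f w = u * u'⁻¹ := by
      rw [hw, map_mul, map_inv, eq_mul_inv_iff_mul_eq, mul_right_comm, mul_inv_eq_iff_eq_mul,
        mul_comm (f v'), ← he]
    have hfwE : g (f w) = f w ^ (ab.1 : ℕ) * f (f w) ^ (ab.2 : ℕ) := by
      rw [hfw, map_mul, map_inv, huv'.1, huv.1, map_mul, map_inv, mul_pow, mul_pow, inv_pow,
        inv_pow, mul_inv, mul_mul_mul_comm]
    rw [hfg, hwE, map_mul, map_pow, map_pow, hff, mul_inv, inv_pow, inv_inv] at hfwE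
    have h2 : f w ^ (2 * (ab.1 : ℕ)) = w ^ (2 * (ab.2 : ℕ)) := by
      rw [two_mul, two_mul, pow_add, pow_add]
      rw [inv_mul_eq_iff_eq_mul, ← mul_assoc, eq_mul_inv_iff_mul_eq] at hfwE
      exact hfwE.symm
    have ha : ∀ a : Fin 3, a ≠ 0 → 2 * (a : ℕ) * (2 * a) % 3 = 1 := by decide
    have h3 := congrArg (· ^ (2 * (ab.1 : ℕ))) h2
    simp only [← pow_mul] at h3
    rw [hred, ha _ (Finset.mem_filter.1 hab).2.1, pow_one] at h3
    rwa [hind w _ h3, eq_comm, mul_inv_eq_one, eq_comm] at hw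
  have hm : ∀ ab ∈ I, ((E ab).erase 1).card ≤ Nat.sqrt (Fintype.card N) - 1 := by
    intro ab hab
    rw [Finset.card_erase_of_mem (by simp [E])]
    exact Nat.sub_le_sub_right (Nat.le_sqrt.2 (hE ab hab)) 1
  have h1 := (Finset.card_le_card hcov).trans Finset.card_biUnion_le
  have h2 := h1.trans (Finset.sum_le_card_nsmul I _ _ hm)
  rw [Finset.card_erase_of_mem (Finset.mem_univ _), Finset.card_univ,
    show I.card = 4 by decide, smul_eq_mul] at h2
  have hs := Nat.sqrt_le (Fintype.card N)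
  have h0 : 0 < Fintype.card N := Fintype.card_pos
  have hs0 : 0 < Nat.sqrt (Fintype.card N) := Nat.sqrt_pos.2 h0
  rw [Nat.card_eq_fintype_card]
  have : Nat.sqrt (Fintype.card N) ≤ 3 := by
    set m := Nat.sqrt (Fintype.card N)
    by_contra hlt
    have h16 : 4 * m ≤ m * m := Nat.mul_le_mul_right m (by omega)
    omega
  omega

section

variable [Finite K] [Finite N] [hp : Fact p.Prime] {A L : Subgroup K} (h : FpfHyp p K N)
  (hA : MaxAb A) (hL : Layer p A L)
include h hA hL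

theorem card_le_nine (hp3 : p = 3) : Nat.card N ≤ 9 := by
  classical
  haveI := h.nontriv
  haveI := hA.normal
  haveI := hL.normal
  have hexp : ∀ v : N, v ^ 3 = 1 := hp3 ▸ h.exp
  obtain ⟨x, hx, y, hy, hxy⟩ := hL.noncomm
  obtain ⟨hc1, hc2⟩ := layer_comm h hA hL hy hx (Ne.symm hxy)
  have hcA := hL.comm_mem y hy x hx
  set c := y * x * y⁻¹ * x⁻¹ with hc
  have hcinv : c⁻¹ = c := inv_eq_of_mul_eq_one_right hc2
  have hns : ∀ z ∈ L, z ∉ A → ∀ b ∈ A, z * z ≠ b * b := fun z hz hzA b hb h0 =>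
    hzA (sq_eq_sq h hA hL (hL.cent z hz) hb h0)
  have hxA : x ∉ A := fun h0 => hxy (hL.cent y hy x h0).symm
  have hyA : y ∉ A := fun h0 => hxy (hL.cent x hx y h0)
  have hnc : ∀ d ∈ A, c ≠ d * d := by
    obtain ⟨b, hb, he⟩ := mul_sq h hA hL (hL.sq x hx) (hL.sq y hy) (hns x hx hxA) (hns y hy hyA)
    intro d hd h0
    have hm : x * y ∈ A := by
      refine sq_eq_sq h hA hL (hL.cent _ (mul_mem hx hy)) (b := d * b) (mul_mem hd hb) ?_
      calc x * y * (x * y) = x * c * x * y * y := by rw [hc]; group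
        _ = c * (x * x * (y * y)) := by rw [hL.cent x hx c hcA]; group
        _ = d * d * (b * b) := by rw [he, h0]
        _ = d * b * (d * b) :=
          (show Commute d b from hA.comm d hd b hb).mul_mul_mul_comm d b
    exact hxy (by
      have := hL.cent x hx _ hm
      rw [mul_assoc x y x, mul_left_cancel_iff] at this
      exact this)
  have hroot : ∀ z ∈ L, z ∉ A → ∃ b ∈ A, (z * b) * (z * b) = c := by
    intro z hz hzA
    obtain ⟨b, hb, he⟩ := mul_sq h hA hL (hL.sq z hz) hcA (hns z hz hzA) hnc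
    refine ⟨b⁻¹, inv_mem hb, ?_⟩
    rw [mul_assoc z, ← mul_assoc b⁻¹, ← hL.cent z hz _ (inv_mem hb), mul_assoc z, ← mul_assoc z,
      eq_mul_inv_iff_mul_eq.2 he, hcinv, mul_assoc (b * b), ← mul_inv_rev,
      (show Commute c (b * b)⁻¹ from hA.comm c hcA _ (inv_mem (mul_mem hb hb))).eq,
      mul_inv_cancel_left]
  obtain ⟨b₁, hb₁, hi⟩ := hroot x hx hxA
  obtain ⟨b₂, hb₂, hj⟩ := hroot y hy hyA
  set i := x * b₁ with hi_def
  set j := y * b₂ with hj_def
  have hiL : i ∈ L := mul_mem hx (hL.le hb₁)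
  have hjL : j ∈ L := mul_mem hy (hL.le hb₂)
  have hji : j * i = c * (i * j) := by
    calc j * i = y * (b₂ * x) * b₁ := by rw [hi_def, hj_def]; group
      _ = (y * x) * (b₂ * b₁) := by rw [← hL.cent x hx b₂ hb₂]; group
      _ = c * (x * (y * b₁) * b₂) := by rw [hA.comm b₂ hb₂ b₁ hb₁, hc]; group
      _ = c * (i * j) := by rw [hL.cent y hy b₁ hb₁, hi_def, hj_def]; group
  have hcv : ∀ v : N, c • v = v⁻¹ := h.smul_involution hL.two hc2 hc1
  let F : K → (N →* N) := fun k => MulDistribMulAction.toMonoidHom N k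
  have hff : ∀ v : N, F i (F i v) = v⁻¹ := fun v => by
    show i • i • v = _; rw [← mul_smul, hi, hcv]
  have hgg : ∀ v : N, F j (F j v) = v⁻¹ := fun v => by
    show j • j • v = _; rw [← mul_smul, hj, hcv]
  have hfg : ∀ v : N, F j (F i v) = (F i (F j v))⁻¹ := fun v => by
    show j • i • v = (i • j • v)⁻¹
    rw [← mul_smul, hji, mul_smul, hcv, mul_smul]
  refine card_le_nine_aux hexp (F i) (F j) hff hgg hfg ?_
  -- the span of two elements
  have hspan : ∀ a b : N, ∀ w ∈ closure ({a, b} : Set N), ∃ s t : Fin 3,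
      w = a ^ (s : ℕ) * b ^ (t : ℕ) := by
    intro a b w hw
    obtain ⟨m, n, rfl⟩ := mem_closure_pair.1 hw
    refine ⟨⟨(m % 3).toNat, by omega⟩, ⟨(n % 3).toNat, by omega⟩, ?_⟩
    simp only
    rw [← zpow_natCast a, ← zpow_natCast b, Int.toNat_of_nonneg (Int.emod_nonneg _ (by norm_num)),
      Int.toNat_of_nonneg (Int.emod_nonneg _ (by norm_num)),
      ← zpow_eq_zpow_emod m (by rw [zpow_ofNat, hexp]), ← zpow_eq_zpow_emod n (by rw [zpow_ofNat, hexp])]
  have hcard9 : ∀ a b : N, Nat.card (closure ({a, b} : Set N)) ≤ 9 := fun a b => by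
    refine le_trans (Nat.card_le_card_of_surjective (fun st : Fin 3 × Fin 3 =>
      (⟨a ^ (st.1 : ℕ) * b ^ (st.2 : ℕ), mul_mem (pow_mem (subset_closure (by simp)) _)
        (pow_mem (subset_closure (by simp)) _)⟩ : closure ({a, b} : Set N))) ?_) (by simp)
    rintro ⟨w, hw⟩
    obtain ⟨s, t, rfl⟩ := hspan a b w hw
    exact ⟨(s, t), rfl⟩
  let Pr : N → Prop := fun v => ∃ H : Subgroup N, Nat.card H ≤ 9 ∧ v ∈ H ∧
    ∀ s ∈ L, s * s = c → ∀ u ∈ H, s • u ∈ H
  have hstab : ∀ H : Subgroup N, (∀ u ∈ H, i • u ∈ H) → (∀ u ∈ H, j • u ∈ H) →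
      ∀ s ∈ L, s * s = c → ∀ u ∈ H, s • u ∈ H := by
    intro H hiH hjH
    have hinv : ∀ q : K, q * q = c → (∀ u ∈ H, q • u ∈ H) → ∀ u ∈ H, q⁻¹ • u ∈ H := by
      intro q hq hqH u hu
      rw [show q⁻¹ = q * c from inv_eq_of_mul_eq_one_right (by rw [← mul_assoc, hq, hc2]),
        mul_smul, hcv]
      exact hqH _ (inv_mem hu)
    have hgen : ∀ q ∈ L, q * q = c → (∀ u ∈ H, q • u ∈ H) → ∀ s ∈ L, s * s = c → s * q ∈ A →
        ∀ u ∈ H, s • u ∈ H := by
      intro q hq hqq hqH s hs hss hm u hu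
      have h1 : (s * q) * (s * q) = 1 ∨ (s * q) * (s * q) = c := by
        by_cases hsq : s * q = q * s
        · left
          rw [mul_assoc, ← mul_assoc q, ← hsq, mul_assoc s, ← mul_assoc, hss, hqq, hc2]
        · right
          rw [show s * q * (s * q) = s * (q * s * q⁻¹ * s⁻¹) * s * (q * q) by group,
            h.involution_unique hL.two (layer_comm h hA hL hq hs (Ne.symm hsq)).2
              (layer_comm h hA hL hq hs (Ne.symm hsq)).1 hc2 hc1, hL.cent s hs c hcA,
            mul_assoc c, hss, hc2, hqq, one_mul]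
      rcases h1 with h1 | h1
      · have hsu : s • u = (s * q) • (q⁻¹ • u) := by rw [mul_smul, smul_inv_smul]
        rw [hsu]
        by_cases h2 : s * q = 1
        · rw [h2, one_smul]; exact hinv q hqq hqH u hu
        · rw [h.smul_involution hL.two h1 h2]; exact inv_mem (hinv q hqq hqH u hu)
      · exact absurd h1.symm (hnc _ hm)
    have hij : (j * i) * (j * i) = c := by
      calc j * i * (j * i) = c * (i * j) * (j * i) := by rw [hji]
        _ = c * i * (j * j) * i := by group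
        _ = c * (i * c) * i := by rw [hj]; group
        _ = c * c * (i * i) := by rw [hL.cent i hiL c hcA]; group
        _ = c := by rw [hc2, hi, one_mul]
    have hne : i * j ≠ j * i := by
      rw [hji]; intro h0; exact hc1 (mul_eq_right.1 h0.symm)
    intro s hs hss u hu
    rcases cover h hA hL hiL hjL hne hs with h0 | h0 | h0 | h0
    · exact absurd hss.symm (hnc s h0)
    · exact hgen i hiL hi hiH s hs hss h0 u hu
    · exact hgen j hjL hj hjH s hs hss h0 u hu
    · refine hgen (j * i) (mul_mem hjL hiL) hij (fun u hu => ?_) s hs hss (by rwa [← mul_assoc]) u hu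
      rw [mul_smul]; exact hjH _ (hiH _ hu)
  -- one element
  obtain ⟨v₁, hv₁⟩ := exists_ne (1 : N)
  obtain ⟨w, hw1, hw⟩ : ∃ w : N, w ≠ 1 ∧ j • w ∈ closure ({w, i • w} : Set N) := by
    set T := i • v₁ * j • v₁ with hT
    by_cases hvT : v₁ * T = 1
    · refine ⟨v₁, hv₁, ?_⟩
      rw [hT, ← mul_assoc] at hvT
      rw [eq_inv_of_mul_eq_one_right hvT]
      exact inv_mem (mul_mem (subset_closure (by simp)) (subset_closure (by simp)))
    · refine ⟨v₁ * T, hvT, ?_⟩
      have hTT : i • T * j • T = v₁ := by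
        have e1 := hff v₁; have e2 := hgg v₁; have e3 := hfg v₁
        simp only [F, MulDistribMulAction.toMonoidHom_apply] at e1 e2 e3
        rw [hT, smul_mul', smul_mul', e1, e2, e3,
          show v₁⁻¹ * i • j • v₁ * ((i • j • v₁)⁻¹ * v₁⁻¹) = v₁⁻¹ * v₁⁻¹ by group, ← mul_inv_rev,
          inv_eq_iff_mul_eq_one, ← sq, ← pow_succ]
        exact hexp v₁
      have h1 : i • (v₁ * T) * j • (v₁ * T) = v₁ * T := by
        rw [smul_mul' i v₁ T, smul_mul' j v₁ T, mul_mul_mul_comm, hTT, ← hT, mul_comm]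
      rw [show j • (v₁ * T) = (i • (v₁ * T))⁻¹ * (v₁ * T) from eq_inv_mul_of_mul_eq h1]
      exact mul_mem (inv_mem (subset_closure (by simp))) (subset_closure (by simp))
  set H₀ := closure ({w, i • w} : Set N) with hH₀
  have hmap : ∀ q : K, q • w ∈ H₀ → q • i • w ∈ H₀ → ∀ u ∈ H₀, q • u ∈ H₀ := by
    intro q h1 h2 u hu
    have : H₀ ≤ H₀.comap (F q) := (closure_le _).2 (by
      rintro z (rfl | rfl)
      · exact h1
      · exact h2)
    exact this hu
  have hiH₀ := hmap i (subset_closure (by simp)) (by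
    rw [← mul_smul, hi, hcv]; exact inv_mem (subset_closure (by simp)))
  have hjH₀ := hmap j hw (by
    have e := hfg w
    simp only [F, MulDistribMulAction.toMonoidHom_apply] at e
    rw [e]; exact inv_mem (hiH₀ _ hw))
  have hPw : Pr w := ⟨H₀, hcard9 _ _, subset_closure (by simp), hstab H₀ hiH₀ hjH₀⟩
  -- every element
  intro v
  show ∃ a b : Fin 3, j • v = v ^ (a : ℕ) * (i • v) ^ (b : ℕ)
  by_cases hv : v = 1
  · exact ⟨0, 0, by simp [hv]⟩
  obtain ⟨H, hH9, hvH, hSH⟩ : Pr v := by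
    obtain ⟨k, rfl⟩ := h.trans w v hw1 hv
    obtain ⟨H, hH9, hwH, hSH⟩ := hPw
    refine ⟨H.map (F k), (Nat.le_of_dvd Nat.card_pos (card_map_dvd _ _)).trans hH9, ⟨w, hwH, rfl⟩,
      ?_⟩
    rintro s hs hss u ⟨u', hu', rfl⟩
    refine ⟨(k⁻¹ * s * k) • u', hSH _ (by simpa using hL.normal.conj_mem s hs k⁻¹) ?_ u' hu', ?_⟩
    · have hkc : k⁻¹ * c * k = c := h.involution_unique hL.two
        (by rw [show k⁻¹ * c * k * (k⁻¹ * c * k) = k⁻¹ * (c * c) * k by group, hc2, mul_one,
          inv_mul_cancel])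
        (fun h0 => hc1 (by
          have h1 := congrArg (fun t => k * t * k⁻¹) h0
          simpa [mul_assoc] using h1))
        hc2 hc1
      calc k⁻¹ * s * k * (k⁻¹ * s * k) = k⁻¹ * (s * s) * k := by group
        _ = c := by rw [hss, hkc]
    · show k • ((k⁻¹ * s * k) • u') = s • k • u'
      rw [mul_smul, mul_smul, smul_inv_smul]
  have hiv : i • v ∈ H := hSH i hiL hi v hvH
  have hjv : j • v ∈ H := hSH j hjL hj v hvH
  suffices H = closure ({v, i • v} : Set N) from hspan _ _ _ (this ▸ hjv)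
  refine (eq_of_le_of_card_ge ((closure_le H).2 (by rintro z (rfl | rfl) <;> assumption)) ?_).symm
  set C := closure ({v, i • v} : Set N) with hC
  haveI : Fact (Nat.Prime 3) := ⟨Nat.prime_three⟩
  obtain ⟨n, hn⟩ := IsPGroup.iff_card.1 (show IsPGroup 3 C from fun u =>
    ⟨1, Subtype.ext (by simpa using hexp u)⟩)
  rcases le_or_gt 2 n with h2 | h2
  · exact hH9.trans (hn ▸ (Nat.pow_le_pow_right (show 0 < 3 by norm_num) h2 : 3 ^ 2 ≤ 3 ^ n))
  exfalso
  have hle : Nat.card C ≤ Nat.card (zpowers v) := by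
    rw [Nat.card_zpowers, orderOf_eq_prime (hexp v) hv, hn]
    calc 3 ^ n ≤ 3 ^ 1 := Nat.pow_le_pow_right (by norm_num) (by omega)
      _ = 3 := pow_one 3
  have hz : i • v ∈ zpowers v := by
    rw [eq_of_le_of_card_ge (zpowers_le.2 (subset_closure (by simp))) hle]
    exact subset_closure (by simp)
  obtain ⟨m, hm⟩ := mem_zpowers_iff.1 hz
  apply hv
  have h1 : v ^ (m * m + 1) = 1 := by
    rw [zpow_add_one, zpow_mul, hm, ← smul_zpow', hm, ← mul_smul, hi, hcv, inv_mul_cancel]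
  rw [zpow_eq_zpow_emod _ (show v ^ (3 : ℤ) = 1 by rw [zpow_ofNat, hexp])] at h1
  have h3 : (m * m + 1) % 3 = 1 ∨ (m * m + 1) % 3 = 2 := by
    rw [Int.add_emod, Int.mul_emod]
    have : m % 3 = 0 ∨ m % 3 = 1 ∨ m % 3 = 2 := by omega
    rcases this with h | h | h <;> simp [h]
  rcases h3 with h3 | h3 <;> rw [h3] at h1
  · simpa using h1
  · calc v = v ^ 3 * (v ^ (2 : ℤ))⁻¹ := by group
      _ = 1 := by rw [hexp, h1, inv_one, one_mul]

end


theorem eq_three_of_dvd_twentyFour {p : ℕ} (hp : p.Prime) (hp2 : p ≠ 2) (h : p ∣ 24) : p = 3 := by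
  rcases (Nat.Prime.dvd_mul hp).1 (show p ∣ 2 ^ 3 * 3 from h) with h | h
  · exact absurd ((Nat.prime_dvd_prime_iff_eq hp Nat.prime_two).1 (hp.dvd_of_dvd_pow h)) hp2
  · exact (Nat.prime_dvd_prime_iff_eq hp Nat.prime_three).1 h

/-- A solvable group with trivial `p`-core, transitive on `N ∖ 1` with `p`-group stabilisers, has a
normal `p`-complement and abelian Sylow `p`-subgroups. -/
theorem structure_quotient [Finite K] [Finite N] [Group.IsSolvable K] [hp : Fact p.Prime]
    (h : FpfHyp p K N) :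
    Cfsg.HasNormalPComplement p K ∧ ∀ P : Sylow p K, IsMulCommutative (P : Subgroup K) := by
  classical
  haveI := h.nontriv
  obtain ⟨A, hA⟩ := exists_maxAb (K := K)
  haveI := hA.normal
  set C := centralizer (A : Set K) with hC
  have hAC : A ≤ C := fun a ha => mem_centralizer_iff.2 fun b hb => hA.comm b hb a ha
  have hCc : ∀ d ∈ C, ∀ a ∈ A, d * a = a * d := fun d hd a ha =>
    (mem_centralizer_iff.1 hd a ha).symm
  have hcommC : ∀ x y : K, x * y * x⁻¹ * y⁻¹ ∈ C := fun x y =>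
    mem_centralizer_iff.2 fun a ha => (comm_centralizes h hA x y ha).symm
  -- complement, from a `p'`-centraliser
  have main : ¬ p ∣ Nat.card C → Cfsg.HasNormalPComplement p K := by
    intro hdvd
    set m := Nat.card K / p ^ (Nat.card K).factorization p with hm
    have hpm : ¬ p ∣ m := Nat.not_dvd_ordCompl hp.out Nat.card_pos.ne'
    have hab : ∀ a b : K ⧸ C, Commute a b := by
      intro a b
      obtain ⟨x, rfl⟩ := QuotientGroup.mk_surjective a
      obtain ⟨y, rfl⟩ := QuotientGroup.mk_surjective b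
      have := (QuotientGroup.eq_one_iff (N := C) _).2 (hcommC x y)
      simp only [QuotientGroup.mk_mul, QuotientGroup.mk_inv] at this
      rwa [mul_inv_eq_one, mul_inv_eq_iff_eq_mul] at this
    let M : Subgroup K :=
      { carrier := {k | (k : K ⧸ C) ^ m = 1}
        one_mem' := by simp
        mul_mem' := fun {a b} ha hb => by
          show ((a * b : K) : K ⧸ C) ^ m = 1
          rw [QuotientGroup.mk_mul, (hab _ _).mul_pow, ha, hb, one_mul]
        inv_mem' := fun {a} ha => by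
          show ((a⁻¹ : K) : K ⧸ C) ^ m = 1
          rw [QuotientGroup.mk_inv, inv_pow, ha, inv_one] }
    haveI : M.Normal := ⟨fun k hk g => by
      show ((g * k * g⁻¹ : K) : K ⧸ C) ^ m = 1
      rw [QuotientGroup.mk_mul, QuotientGroup.mk_mul, QuotientGroup.mk_inv, conj_pow, hk, mul_one,
        mul_inv_cancel]⟩
    refine hasNormalPComplement_of_forall_pow_mem M ?_ fun k =>
      ⟨(Nat.card K).factorization p, ?_⟩
    · intro hd
      obtain ⟨⟨x, hx⟩, hxo⟩ := exists_prime_orderOf_dvd_card' p hd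
      rw [orderOf_mk] at hxo
      have h1 : (x : K ⧸ C) ^ p = 1 := by
        rw [← QuotientGroup.mk_pow, ← hxo, pow_orderOf_eq_one, QuotientGroup.mk_one]
      have h2 : orderOf (x : K ⧸ C) = 1 := Nat.eq_one_of_dvd_coprimes
        (hp.out.coprime_iff_not_dvd.2 hpm) (orderOf_dvd_of_pow_eq_one h1)
        (orderOf_dvd_of_pow_eq_one hx)
      exact hdvd (hxo ▸ Subgroup.orderOf_dvd_natCard C
        ((QuotientGroup.eq_one_iff x).1 (orderOf_eq_one_iff.1 h2)))
    · show ((k ^ p ^ _ : K) : K ⧸ C) ^ m = 1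
      rw [← QuotientGroup.mk_pow, ← pow_mul, hm, Nat.ordProj_mul_ordCompl_eq_self, pow_card_eq_one',
        QuotientGroup.mk_one]
  by_cases hne : C ≤ A
  · have hnd : ¬ p ∣ Nat.card C := fun hd =>
      not_dvd_card h hA (hd.trans (card_dvd_of_le hne))
    refine ⟨main hnd, fun P => ⟨⟨fun x y => ?_⟩⟩⟩
    obtain ⟨i, hi⟩ := P.2 (x * y * x⁻¹ * y⁻¹)
    have h1 := eq_one_of_pow h hA (hne (hcommC (x : K) y)) (i := i)
      (by simpa using congrArg Subtype.val hi)
    rw [mul_inv_eq_one, mul_inv_eq_iff_eq_mul] at h1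
    exact Subtype.ext h1
  obtain ⟨L, hLC, hL⟩ := exists_layer h hA (D := C) inferInstance hAC hne hCc
  haveI := hL.normal
  set Q := L.map (QuotientGroup.mk' A) with hQ
  haveI : Q.Normal := hL.normal.map _ (QuotientGroup.mk'_surjective A)
  let f : K →* Equiv.Perm Q :=
    (MulAut.toPerm Q).comp ((MulAut.conjNormal (H := Q)).comp (QuotientGroup.mk' A))
  have hfix : ∀ {e : K} {i : ℕ}, e ^ p ^ i = 1 → e ∈ C → f e = 1 → e = 1 := by
    intro e i he heC hfe
    refine eq_one_of_fix_cosets h hA hL he (hCc e heC) fun l hl => ?_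
    have h1 := congrArg (fun σ : Equiv.Perm Q => (σ ⟨(l : K ⧸ A), mem_map_of_mem _ hl⟩ : K ⧸ A)) hfe
    change ((MulAut.conjNormal (e : K ⧸ A) ⟨(l : K ⧸ A), _⟩ : Q) : K ⧸ A) = (l : K ⧸ A) at h1
    rw [MulAut.conjNormal_apply] at h1
    rw [← QuotientGroup.eq_one_iff]
    simp only [QuotientGroup.mk_mul, QuotientGroup.mk_inv, h1, inv_mul_cancel]
  have h24 : Nat.card (Equiv.Perm Q) ∣ 24 := by
    rw [Nat.card_perm]
    exact (Nat.factorial_dvd_factorial (card_image_le h hA hL hA.normal)).trans (dvd_of_eq rfl)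
  refine ⟨?_, fun P => ?_⟩
  · by_cases hp3 : p = 3
    · have h9 := card_le_nine h hA hL hp3
      have hcop : ∀ l ∈ L, ∀ i : ℕ, l ^ p ^ i = 1 → l = 1 := by
        intro l hl i hi
        have h2 : l * l = 1 := eq_one_of_pow h hA (hL.sq l hl) (i := i) (by
          rw [← sq, ← pow_mul, mul_comm, pow_mul, hi, one_pow])
        exact orderOf_eq_one_iff.1 (Nat.eq_one_of_dvd_coprimes
          (((Nat.coprime_primes Nat.prime_two hp.out).2 (Ne.symm hL.two)).pow_right i)
          (orderOf_dvd_of_pow_eq_one (n := 2) (by rw [sq, h2])) (orderOf_dvd_of_pow_eq_one hi))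
      letI : MulDistribMulAction L N := MulDistribMulAction.compHom N L.subtype
      have hfpf : Frobenius.IsFPF L N := by
        intro l hl v hv
        by_contra hv1
        obtain ⟨i, hi⟩ := h.stab (l : K) v hv1 hv
        exact hl (Subtype.ext (hcop l l.2 i (by rw [← hi, pow_orderOf_eq_one])))
      have hd := hfpf.card_dvd_sub_one
      -- five elements of `L`
      obtain ⟨x, hx, y, hy, hxy⟩ := hL.noncomm
      obtain ⟨c, hcA, -, hc1⟩ := exists_involution h hA hL
      have hcx := hL.cent x hx c hcA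
      have hcy := hL.cent y hy c hcA
      have h5 : 5 ≤ Nat.card L := by
        let g : Fin 5 → L := ![1, ⟨c, hL.le hcA⟩, ⟨x, hx⟩, ⟨y, hy⟩, ⟨x * y, mul_mem hx hy⟩]
        refine le_trans (by simp) (Nat.card_le_card_of_injective g ?_)
        intro a b hab
        have hab' := congrArg Subtype.val hab
        have n1 : x ≠ 1 := fun h0 => hxy (by simp [h0])
        have n2 : y ≠ 1 := fun h0 => hxy (by simp [h0])
        have n3 : x * y ≠ 1 := fun h0 => hxy (h0.trans (mul_eq_one_comm.1 h0).symm)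
        have n4 : c ≠ x := fun h0 => hxy (by rw [← h0]; exact hcy.symm)
        have n5 : c ≠ y := fun h0 => hxy (by rw [← h0]; exact hcx)
        have n6 : c ≠ x * y := fun h0 => hxy (by
          have := hcx
          rw [h0, mul_assoc x y x, mul_left_cancel_iff] at this
          exact this)
        have n7 : x ≠ y := fun h0 => hxy (by rw [h0])
        have n8 : x ≠ x * y := fun h0 => n2 (mul_eq_left.1 h0.symm)
        have n9 : y ≠ x * y := fun h0 => n1 (mul_eq_right.1 h0.symm)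
        fin_cases a <;> fin_cases b <;>
          simp [g, hc1, hc1.symm, n1, n1.symm, n2, n2.symm, n3, n3.symm, n4, n4.symm, n5, n5.symm,
            n6, n6.symm, n7, n7.symm, n8, n8.symm, n9, n9.symm] at hab' ⊢
      have hN2 : 1 < Nat.card N := Finite.one_lt_card
      have hLcard : Nat.card L = Nat.card N - 1 := by
        obtain ⟨t, ht⟩ := hd
        rcases t with _ | _ | t
        · omega
        · omega
        · have : 2 * Nat.card L ≤ Nat.card L * (t + 1 + 1) := by
            rw [mul_comm]; exact Nat.mul_le_mul_left _ (by omega)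
          omega
      refine hasNormalPComplement_of_forall_pow_mem L ?_ fun k => ?_
      · intro hd
        obtain ⟨⟨l, hl⟩, hlo⟩ := exists_prime_orderOf_dvd_card' p hd
        rw [orderOf_mk] at hlo
        have := hcop l hl 1 (by rw [pow_one, ← hlo, pow_orderOf_eq_one])
        rw [this, orderOf_one] at hlo
        exact hp.out.ne_one hlo.symm
      · obtain ⟨v, hv⟩ := exists_ne (1 : N)
        obtain ⟨j, hj⟩ := IsPGroup.iff_card.1 (show IsPGroup p (MulAction.stabilizer K v) from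
          fun s => by
            obtain ⟨i, hi⟩ := h.stab s v hv s.2
            exact ⟨i, Subtype.ext (by rw [SubmonoidClass.coe_pow, ← hi, pow_orderOf_eq_one]; rfl)⟩)
        have horb : MulAction.orbit K v = {w | w ≠ 1} := by
          ext w
          refine ⟨?_, fun hw => h.trans v w hv hw⟩
          rintro ⟨k, rfl⟩ h0
          exact hv (by simpa using congrArg (k⁻¹ • ·) h0)
        have hidx := MulAction.index_stabilizer (G := K) v
        rw [horb, show {w : N | w ≠ 1} = {1}ᶜ from rfl, Set.ncard_compl, Set.ncard_singleton]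
          at hidx
        have hK := (MulAction.stabilizer K v).card_mul_index
        rw [hj, hidx, ← L.card_mul_index, hLcard, mul_comm] at hK
        refine ⟨j, ?_⟩
        rw [Nat.eq_of_mul_eq_mul_left (by omega) hK]
        exact L.pow_index_mem k
    · refine main fun hd => ?_
      obtain ⟨⟨x, hx⟩, hxo⟩ := exists_prime_orderOf_dvd_card' p hd
      rw [orderOf_mk] at hxo
      have hf : f x = 1 := by
        rw [← orderOf_eq_one_iff]
        rcases (Nat.dvd_prime hp.out).1 (hxo ▸ orderOf_map_dvd f x) with h1 | h1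
        · exact h1
        · exfalso
          have h2 := ((orderOf_dvd_natCard (f x)).trans h24)
          rw [h1] at h2
          exact hp3 (eq_three_of_dvd_twentyFour hp.out hL.two h2)
      have h1 := hfix (i := 1) (by rw [pow_one, ← hxo, pow_orderOf_eq_one]) hx hf
      rw [h1, orderOf_one] at hxo
      exact hp.out.ne_one hxo.symm
  · -- the image in `Equiv.Perm Q` is abelian
    set R := (P : Subgroup K).map f with hR
    obtain ⟨k, hk⟩ := IsPGroup.iff_card.1 (P.2.map f)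
    have hk1 : p ^ k ∣ 24 := hk ▸ (card_subgroup_dvd_card R).trans h24
    have hk2 : k ≤ 1 := by
      by_contra hk0
      have h2 : p ^ 2 ∣ 24 := (pow_dvd_pow p (by omega)).trans hk1
      have h5 := eq_three_of_dvd_twentyFour hp.out hL.two ((dvd_pow_self p two_ne_zero).trans h2)
      rw [h5] at h2
      norm_num at h2
    haveI : IsCyclic R := isCyclic_of_card_dvd_prime (p := p) (hk ▸ (by
      simpa using pow_dvd_pow p hk2))
    haveI : IsMulCommutative R := IsCyclic.isMulCommutative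
    refine ⟨⟨fun x y => ?_⟩⟩
    obtain ⟨i, hi⟩ := P.2 (x * y * x⁻¹ * y⁻¹)
    have hf : f ((x : K) * y * (x : K)⁻¹ * (y : K)⁻¹) = 1 := by
      have h1 := congrArg Subtype.val (mul_comm' (⟨f x, mem_map_of_mem f x.2⟩ : R)
        ⟨f y, mem_map_of_mem f y.2⟩)
      simp only [Subgroup.coe_mul] at h1
      rw [map_mul, map_mul, map_mul, map_inv, map_inv, h1]
      group
    have h1 := hfix (by simpa using congrArg Subtype.val hi) (hcommC (x : K) y) hf
    rw [mul_inv_eq_one, mul_inv_eq_iff_eq_mul] at h1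
    exact Subtype.ext h1

end CfsgLib.Chars17.FpfSolvable
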