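import Cfsg.Agent.Lib.BrauerPairs.Normalizer
import Cfsg.Agent.Lib.Blocks.WeakOrth
import Cfsg.Agent.Lib.Chars17.IrrBasic
import Cfsg.Agent.Lib.Characters.Values

/-!
# Maximal Brauer pairs and defect zero characters of the centraliser
-/

namespace CfsgLib.Chars17.MaxPair

open Cfsg MonoidAlgebra
open CfsgLib.BrauerPairs
open CfsgLib.Blocks (lRing)
open scoped Pointwise

/-- An element of `p`-power order lies in a normal subgroup of index prime to `p`. -/
theorem mem_of_pow_eq_one {A : Type*} [Group A] {p : ℕ} (hp : p.Prime) (N : Subgroup A) [N.Normal]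
    (hN : ¬ p ∣ N.index) {x : A} {j : ℕ} (hx : x ^ p ^ j = 1) : x ∈ N := by
  have hco : Nat.Coprime (p ^ j) N.index := Nat.Coprime.pow_left _ ((hp.coprime_iff_not_dvd).2 hN)
  rw [← QuotientGroup.eq_one_iff]
  have h1 : (x : A ⧸ N) ^ p ^ j = 1 := by rw [← QuotientGroup.mk_pow, hx, QuotientGroup.mk_one]
  have h2 : (x : A ⧸ N) ^ N.index = 1 := by
    rw [← QuotientGroup.mk_pow, QuotientGroup.eq_one_iff]
    exact N.pow_index_mem x
  rw [← orderOf_eq_one_iff]
  exact Nat.eq_one_of_dvd_coprimes hco (orderOf_dvd_of_pow_eq_one h1) (orderOf_dvd_of_pow_eq_one h2)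

variable {p : ℕ} {M : Ideal AlgInt} {G : Type*} [Group G]

/-- A quotient of natural numbers whose `p`-part is at least `p` is in the local ideal. -/
theorem memLocalIdeal_div (hM : IsPModular p M) {n d : ℕ} (hn : n ≠ 0) (hd : d ≠ 0)
    (h : d.factorization p < n.factorization p) : MemLocalIdeal M ((n : ℂ) / d) := by
  have hp := hM.1
  have hdvd : p ^ (d.factorization p + 1) ∣ n := (hp.pow_dvd_iff_le_factorization hn).2 (by omega)
  obtain ⟨m, hm⟩ := hdvd
  obtain ⟨e, he⟩ := Nat.ordProj_dvd d p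
  have hpe : ¬ p ∣ e := by
    intro hdv
    apply Nat.not_dvd_ordCompl hp hd
    rwa [Nat.div_eq_of_eq_mul_right (pow_pos hp.pos _) he]
  have hp0 : (p : ℂ) ≠ 0 := Nat.cast_ne_zero.2 hp.ne_zero
  have he0 : (e : ℂ) ≠ 0 := Nat.cast_ne_zero.2 fun h0 => hpe (h0 ▸ dvd_zero p)
  have hcc : (n : ℂ) / d = (p : ℂ) * ((m : ℂ) * (e : ℂ)⁻¹) := by
    rw [he, hm]
    push_cast
    field_simp
    ring
  rw [hcc]
  exact Blocks.MemLocalIdeal.mul_right hM (Blocks.memLocalIdeal_p hM)
    (Subring.mul_mem (lRing hM) (natCast_mem _ m) (Blocks.inv_natCast_mem_lRing hM hpe))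

/-- A quotient of natural numbers with `p`-part at least `1` is a local integer. -/
theorem div_mem_lRing (hM : IsPModular p M) {n d : ℕ} (hn : n ≠ 0) (hd : d ≠ 0)
    (h : d.factorization p ≤ n.factorization p) : (n : ℂ) / d ∈ lRing hM := by
  have hp := hM.1
  obtain ⟨m, hm⟩ := (hp.pow_dvd_iff_le_factorization hn).2 h
  obtain ⟨e, he⟩ := Nat.ordProj_dvd d p
  have hpe : ¬ p ∣ e := by
    intro hdv
    apply Nat.not_dvd_ordCompl hp hd
    rwa [Nat.div_eq_of_eq_mul_right (pow_pos hp.pos _) he]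
  have hp0 : (p : ℂ) ^ d.factorization p ≠ 0 := pow_ne_zero _ (Nat.cast_ne_zero.2 hp.ne_zero)
  have he0 : (e : ℂ) ≠ 0 := Nat.cast_ne_zero.2 fun h0 => hpe (h0 ▸ dvd_zero p)
  have hcc : (n : ℂ) / d = (m : ℂ) * (e : ℂ)⁻¹ := by
    conv_lhs => rw [he, hm]
    push_cast
    field_simp
  rw [hcc]
  exact Subring.mul_mem (lRing hM) (natCast_mem _ m) (Blocks.inv_natCast_mem_lRing hM hpe)

/-- If the central character at `g` is outside the local ideal, the `p`-part of the class length is
at most that of the degree. -/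
theorem factorization_index_le [Finite G] (hM : IsPModular p M) (χ : IrrCharacter G) {g : G}
    (h : ¬ MemLocalIdeal M (centralChar (χ : G → ℂ) g)) :
    (Subgroup.centralizer ({g} : Set G)).index.factorization p ≤
      (charDegree (χ : G → ℂ)).factorization p := by
  set n := (Subgroup.centralizer ({g} : Set G)).index with hn
  by_contra hlt
  apply h
  have h1 := memLocalIdeal_div hM (n := n) Subgroup.index_ne_zero_of_finite (irrDegree_pos χ).ne'
    (by omega)
  have hcc : centralChar (χ : G → ℂ) g =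
      ((n : ℂ) / (charDegree (χ : G → ℂ) : ℕ)) * (χ : G → ℂ) g := by
    rw [centralChar, ← cast_irrDegree χ, ← hn]
    ring
  rw [hcc]
  exact Blocks.MemLocalIdeal.mul_right hM h1
    (Blocks.isIntegral_mem_lRing hM (Characters.isIntegral_of_isCharacter
      (Characters.irr_isCharacter χ) g))

/-- If a value at `g` is outside the local ideal, the `p`-part of the degree is at most that of the
class length. -/
theorem factorization_degree_le [Finite G] (hM : IsPModular p M) (χ : IrrCharacter G) {g : G}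
    (h : ¬ MemLocalIdeal M ((χ : G → ℂ) g)) :
    (charDegree (χ : G → ℂ)).factorization p ≤
      (Subgroup.centralizer ({g} : Set G)).index.factorization p := by
  set n := (Subgroup.centralizer ({g} : Set G)).index with hn
  by_contra hlt
  apply h
  have h1 := memLocalIdeal_div hM (n := charDegree (χ : G → ℂ)) (d := n) (irrDegree_pos χ).ne'
    Subgroup.index_ne_zero_of_finite (by omega)
  have hn0 : (n : ℂ) ≠ 0 := Nat.cast_ne_zero.2 Subgroup.index_ne_zero_of_finite
  have hd0 : (χ : G → ℂ) 1 ≠ 0 := by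
    rw [← cast_irrDegree χ]; exact Nat.cast_ne_zero.2 (irrDegree_pos χ).ne'
  have hcc : (χ : G → ℂ) g =
      ((charDegree (χ : G → ℂ) : ℕ) / (n : ℂ)) * centralChar (χ : G → ℂ) g := by
    rw [centralChar, cast_irrDegree χ, ← hn]
    field_simp
  rw [hcc]
  exact Blocks.MemLocalIdeal.mul_right hM h1 (Blocks.centralChar_mem_lRing hM χ g)

/-- A character of defect zero has a class on which its value and central character are units. -/
theorem exists_unit_class [Fintype G] (hM : IsPModular p M) (η : IrrCharacter G)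
    (h : (charDegree (η : G → ℂ)).factorization p = (Nat.card G).factorization p) :
    ∃ g : G, ¬ MemLocalIdeal M ((η : G → ℂ) g⁻¹) ∧
      ¬ MemLocalIdeal M (centralChar (η : G → ℂ) g) := by
  classical
  by_contra hne
  simp only [not_exists, not_and, not_not] at hne
  apply Blocks.not_memLocalIdeal_one hM
  rw [← Blocks.sum_blockCoeff_mul_centralChar (Set.mem_singleton η)]
  refine Blocks.MemLocalIdeal.sum hM _ fun c _ => ?_
  have hb : blockCoeff ({η} : Set (IrrCharacter G)) c.out =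
      ((charDegree (η : G → ℂ) : ℕ) / (Nat.card G : ℂ)) * (η : G → ℂ) c.out⁻¹ := by
    rw [blockCoeff, finsum_mem_singleton, Characters.irr_apply_inv, ← cast_irrDegree]
    ring
  have hR := div_mem_lRing hM (irrDegree_pos η).ne' (Nat.card_pos (α := G)).ne' h.ge
  have hi := Blocks.isIntegral_mem_lRing hM (Characters.isIntegral_of_isCharacter
    (Characters.irr_isCharacter η) c.out⁻¹)
  rw [hb, mul_assoc]
  refine Blocks.MemLocalIdeal.mul_left hM hR ?_
  by_cases h1 : MemLocalIdeal M ((η : G → ℂ) c.out⁻¹)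
  · exact Blocks.MemLocalIdeal.mul_right hM h1 (Blocks.centralChar_mem_lRing hM η _)
  · exact Blocks.MemLocalIdeal.mul_left hM hi (hne _ h1)

section

variable [M.IsMaximal] [Fintype G] [Fact p.Prime]

omit [M.IsMaximal] [Fintype G] [Fact p.Prime] in
theorem center_comm (Q : Subgroup G) {z : cz Q} (hz : z ∈ Q.subgroupOf (cz Q)) (h : cz Q) :
    z * h = h * z :=
  Subtype.ext (mem_cz.1 h.2 z hz)

instance subgroupOf_cz_normal (Q : Subgroup G) : (Q.subgroupOf (cz Q)).Normal :=
  ⟨fun z hz h => by rwa [← center_comm Q hz h, mul_inv_cancel_right]⟩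

omit [M.IsMaximal] [Fintype G] [Fact p.Prime] in
theorem card_subgroupOf_cz (Q : Subgroup G) :
    Nat.card (Q.subgroupOf (cz Q)) = Nat.card ↥(Q ⊓ cz Q) := by
  rw [← Subgroup.inf_subgroupOf_right]
  exact Nat.card_congr (Subgroup.subgroupOfEquivOfLe inf_le_right).toEquiv

omit [M.IsMaximal] [Fact p.Prime] in
theorem setup_sup (hM : IsPModular p M) [M.IsMaximal] {Q : Subgroup G}
    {e : Set (IrrCharacter (cz Q))} (hQ : IsPGroup p Q) (he : IsPBlock M e) :
    BrSetup p Q (eA hM (cz Q) e) (Q ⊔ cz Q) where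
  pgroup := hQ
  block := isBlockIdem_eA hM he
  le_norm := sup_le Subgroup.le_normalizer (cz_le_normalizer Q)
  cz_le := le_sup_right
  le := le_sup_left
  fixed := fun x hx => by
    have hle : Q ⊔ cz Q ≤ pairStab Q (eA hM (cz Q) e) := sup_le
      (fun q hq => ⟨Subgroup.le_normalizer hq, fixed_of_supp_cz (isBlockIdem_eA hM he).supp q hq⟩)
      (fun r hr => ⟨cz_le_normalizer Q hr, (isBlockIdem_eA hM he).fixed r hr⟩)
    exact (hle hx).2

/-- If the setting on `Q C(Q)` has defect group `Q`, the block has a character of defect zero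
modulo the centre of `Q`. -/
theorem exists_theta (hM : IsPModular p M) {Q : Subgroup G} {e : Set (IrrCharacter (cz Q))}
    (hQ : IsPGroup p Q) (he : IsPBlock M e)
    (h : InTr Q Q (Q ⊔ cz Q) (eA hM (cz Q) e)) :
    ∃ θ ∈ e, Q.subgroupOf (cz Q) ≤ irrKer θ ∧
      (charDegree (θ : cz Q → ℂ)).factorization p + (Nat.card ↥(Q ⊓ cz Q)).factorization p =
        (Nat.card (cz Q)).factorization p := by
  classical
  let _ : Fintype (cz Q) := Fintype.ofFinite _
  have hp : p.Prime := hM.1
  have := charP_res hM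
  set Z := Q.subgroupOf (cz Q) with hZ
  have hS := setup_sup hM hQ he
  have hZp : IsPGroup p Z := hQ.comap_subtype
  have hDef : IsDefect p Q (eA hM (cz Q) e) (Q ⊔ cz Q) Q :=
    ⟨hQ, le_rfl, le_sup_left, h, by rw [brMap_eq_self hS.block.supp]; exact hS.block.ne_zero⟩
  obtain ⟨D, g, hg, hS0⟩ := exists_defectGroup hM he
  have hDd := isDefect_of_isDefectGroup hM he ⟨g, hg, hS0⟩
  set C := Subgroup.centralizer ({g} : Set (cz Q)) with hC
  obtain ⟨S, hD⟩ := hS0
  have hZC : Z ≤ C := fun z hz => Subgroup.mem_centralizer_iff.2 fun y hy => by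
    rw [Set.mem_singleton_iff.1 hy]; exact (center_comm Q hz g).symm
  have hZS : Z.subgroupOf C ≤ (S : Subgroup C) := by
    have hsup : IsPGroup p ↥((S : Subgroup C) ⊔ Z.subgroupOf C) :=
      S.2.to_sup_of_normal_right hZp.comap_subtype
    exact le_sup_right.trans (S.3 hsup le_sup_left).le
  have hZD : Z ≤ D := fun z hz => hD ▸ ⟨⟨z, hZC hz⟩, hZS (show (⟨z, hZC hz⟩ : C) ∈ Z.subgroupOf C from hz), rfl⟩
  have hDZ : D ≤ Z := by
    set R := D.map (cz Q).subtype with hR
    have hRC : R ≤ cz Q := Subgroup.map_subtype_le _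
    have hne : brMap (ResK M) (Q ⊔ R) (eA hM (cz Q) e) ≠ 0 := by
      rw [brMap_sup_of_supp hS.block.supp, ← inclA_eG, hR, ← inclA_brMap]
      exact fun h0 => hDd.br_ne (inclA_injective _ (h0.trans (map_zero _).symm))
    have hcard := hS.card_le_defect hDef
      (hQ.to_sup_of_normal_left' (hDd.pgroup.map _) (hRC.trans (cz_le_normalizer Q)))
      (sup_le_sup_left hRC Q) hne
    have heq : Q = Q ⊔ R := Subgroup.eq_of_le_of_card_ge le_sup_left hcard
    intro d hd
    show (d : G) ∈ Q
    exact heq.ge (Subgroup.mem_sup_right ⟨d, hd, rfl⟩)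
  have hDeq : D = Z := le_antisymm hDZ hZD
  have hvC : (Nat.card C).factorization p = (Nat.card Z).factorization p := by
    rw [← hDeq, hD, Subgroup.card_map_of_injective C.subtype_injective, S.card_eq_multiplicity,
      hp.factorization_pow, Finsupp.single_eq_same]
  have hex : ∃ χ ∈ e, Z ≤ irrKer χ := by
    by_contra hcon
    simp only [not_exists, not_and] at hcon
    obtain ⟨χ0, hχ0⟩ := Blocks.IsPBlock.nonempty hM he
    have h1 : blockCoeff e (1 : cz Q) = 0 := by
      have hsum : ∑ z : Z, blockCoeff e (z : cz Q) = blockCoeff e 1 := by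
        refine (Finset.sum_eq_single (1 : Z) (fun z _ hz => ?_)
          (fun hh => absurd (Finset.mem_univ _) hh)).trans (by simp)
        refine Blocks.blockCoeff_eq_zero_of_singular hM he ?_
        obtain ⟨j, hj⟩ := (IsPGroup.iff_orderOf.1 hZp) z
        rw [Subgroup.orderOf_coe, hj]
        refine dvd_pow_self p fun hj0 => hz ?_
        rw [hj0, pow_zero, orderOf_eq_one_iff] at hj
        exact hj
      rw [← hsum]
      simp only [Blocks.blockCoeff_eq_sum, ← Finset.mul_sum]
      rw [Finset.sum_comm, Finset.sum_eq_zero, mul_zero]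
      intro χ hχ
      have h2 := sum_coset_eq_zero (hcon χ (Finset.mem_filter.1 hχ).2) 1
      simp only [one_mul] at h2
      rw [← Finset.mul_sum, ← map_sum, h2, map_zero, mul_zero]
    rw [Blocks.blockCoeff_eq_sum, mul_eq_zero] at h1
    have h3 := h1.resolve_left (inv_ne_zero (Nat.cast_ne_zero.2 Nat.card_pos.ne'))
    simp only [conj_irr_one] at h3
    simp only [← cast_irrDegree, ← Nat.cast_mul, ← Nat.cast_sum, Nat.cast_eq_zero] at h3
    have h4 := (Finset.sum_eq_zero_iff.1 h3) χ0 (Finset.mem_filter.2 ⟨Finset.mem_univ _, hχ0⟩)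
    exact (irrDegree_pos χ0).ne' (by simpa using h4)
  obtain ⟨θ, hθ, hker⟩ := hex
  refine ⟨θ, hθ, hker, ?_⟩
  rw [← card_subgroupOf_cz, ← hZ]
  have hH0 : (Nat.card (cz Q)) ≠ 0 := Nat.card_pos.ne'
  have hup : (charDegree (θ : cz Q → ℂ)).factorization p ≤ Z.index.factorization p := by
    have hdvd := (irrDegree_dvd_index_irrKer θ).trans (Subgroup.index_dvd_of_le hker)
    exact (Nat.factorization_le_iff_dvd (irrDegree_pos θ).ne'
      Subgroup.index_ne_zero_of_finite).2 hdvd p
  have hlow := factorization_index_le hM θ (hg.2.2 θ hθ)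
  have e1 : (Nat.card (cz Q)).factorization p =
      (Nat.card Z).factorization p + Z.index.factorization p := by
    rw [← Subgroup.card_mul_index Z, Nat.factorization_mul Nat.card_pos.ne'
      Subgroup.index_ne_zero_of_finite, Finsupp.add_apply]
  have e2 : (Nat.card (cz Q)).factorization p =
      (Nat.card C).factorization p + C.index.factorization p := by
    rw [← Subgroup.card_mul_index C, Nat.factorization_mul Nat.card_pos.ne'
      Subgroup.index_ne_zero_of_finite, Finsupp.add_apply]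
  rw [← hC] at hlow
  omega

/-- A character of defect zero modulo the centre of `Q` makes `Q` a defect group of the setting
on `Q C(Q)`. -/
theorem inTr_of_theta (hM : IsPModular p M) {Q : Subgroup G} {e : Set (IrrCharacter (cz Q))}
    (hQ : IsPGroup p Q) (he : IsPBlock M e) {θ : IrrCharacter (cz Q)} (hθ : θ ∈ e)
    (hker : Q.subgroupOf (cz Q) ≤ irrKer θ)
    (heq : (charDegree (θ : cz Q → ℂ)).factorization p + (Nat.card ↥(Q ⊓ cz Q)).factorization p =
        (Nat.card (cz Q)).factorization p) :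
    InTr Q Q (Q ⊔ cz Q) (eA hM (cz Q) e) := by
  classical
  let _ : Fintype (cz Q) := Fintype.ofFinite _
  have hp : p.Prime := hM.1
  have := charP_res hM
  set Z := Q.subgroupOf (cz Q) with hZ
  rw [← card_subgroupOf_cz, ← hZ] at heq
  let _ : Fintype (cz Q ⧸ Z) := Fintype.ofFinite _
  obtain ⟨η, hη⟩ := exists_infl_eq Z hker
  have hθval : ∀ x : cz Q, (θ : cz Q → ℂ) x = (η : cz Q ⧸ Z → ℂ) (x : cz Q ⧸ Z) := fun x => by
    rw [← hη, infl_apply]
  have hdeg : charDegree (θ : cz Q → ℂ) = charDegree (η : cz Q ⧸ Z → ℂ) := by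
    simp only [charDegree, hθval, QuotientGroup.mk_one]
  have hη0 : (charDegree (η : cz Q ⧸ Z → ℂ)).factorization p =
      (Nat.card (cz Q ⧸ Z)).factorization p := by
    have h1 : (Nat.card (cz Q)).factorization p =
        (Nat.card (cz Q ⧸ Z)).factorization p + (Nat.card Z).factorization p := by
      rw [Subgroup.card_eq_card_quotient_mul_card_subgroup Z,
        Nat.factorization_mul Nat.card_pos.ne' Nat.card_pos.ne', Finsupp.add_apply]
    rw [hdeg] at heq
    omega
  obtain ⟨gb, hgv, hcc⟩ := exists_unit_class hM η hη0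
  set Cb := Subgroup.centralizer ({gb} : Set (cz Q ⧸ Z)) with hCb
  obtain ⟨g, rfl⟩ := QuotientGroup.mk_surjective gb
  set C := Subgroup.centralizer ({g} : Set (cz Q)) with hC
  -- the centraliser in the quotient has order prime to `p`
  have hlow := factorization_degree_le hM η hgv
  have hinv : Subgroup.centralizer ({((g : cz Q ⧸ Z))⁻¹} : Set (cz Q ⧸ Z)) = Cb := by
    ext x
    simp only [hCb, Subgroup.mem_centralizer_iff, Set.mem_singleton_iff, forall_eq]
    exact Commute.inv_left_iff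
  rw [hinv] at hlow
  rw [← hdeg] at hlow
  have hcardq : Nat.card (cz Q) = Nat.card Cb * Cb.index * Nat.card Z := by
    rw [Subgroup.card_mul_index, ← Subgroup.card_eq_card_quotient_mul_card_subgroup]
  have hCb' : ¬ p ∣ Nat.card Cb := by
    intro hdvd
    have h1 : 0 < (Nat.card Cb).factorization p :=
      hp.factorization_pos_of_dvd Nat.card_pos.ne' hdvd
    have h2 : (Nat.card (cz Q)).factorization p = (Nat.card Cb).factorization p +
        Cb.index.factorization p + (Nat.card Z).factorization p := by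
      rw [hcardq, Nat.factorization_mul
        (mul_ne_zero Nat.card_pos.ne' Subgroup.index_ne_zero_of_finite) Nat.card_pos.ne',
        Finsupp.add_apply, Nat.factorization_mul Nat.card_pos.ne'
        Subgroup.index_ne_zero_of_finite, Finsupp.add_apply]
    omega
  -- lift to the centraliser
  set Cp := Cb.comap (QuotientGroup.mk' Z) with hCp
  have hCCp : C ≤ Cp := fun x hx => by
    rw [hCp, Subgroup.mem_comap, hCb, Subgroup.mem_centralizer_iff]
    intro y hy
    rw [Set.mem_singleton_iff.1 hy, QuotientGroup.mk'_apply, ← QuotientGroup.mk_mul,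
      Subgroup.mem_centralizer_iff.1 hx g rfl, QuotientGroup.mk_mul]
  have hZC : Z ≤ C := fun z hz => Subgroup.mem_centralizer_iff.2 fun y hy => by
    rw [Set.mem_singleton_iff.1 hy]; exact (center_comm Q hz g).symm
  set r := C.relIndex Cp with hr
  have hrC : C.index = r * Cb.index := by
    rw [← Subgroup.relIndex_mul_index hCCp, ← Subgroup.index_comap_of_surjective Cb
      (QuotientGroup.mk'_surjective Z)]
  obtain ⟨s, hs⟩ := Subgroup.card_dvd_of_le hZC
  have hsr : s * r = Nat.card Cb := by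
    have h1 := (Subgroup.card_mul_index C).trans hcardq
    rw [hrC, hs] at h1
    have h2 : Nat.card Z * Cb.index * (s * r) = Nat.card Z * Cb.index * Nat.card Cb := by
      calc _ = Nat.card Z * s * (r * Cb.index) := by ring
        _ = _ := h1
        _ = _ := by ring
    exact Nat.eq_of_mul_eq_mul_left
      (Nat.mul_pos Nat.card_pos (Nat.pos_of_ne_zero Subgroup.index_ne_zero_of_finite)) h2
  have hpr : ¬ p ∣ r := fun hh => hCb' (hsr ▸ dvd_mul_of_dvd_right hh s)
  have hps : ¬ p ∣ s := fun hh => hCb' (hsr ▸ dvd_mul_of_dvd_left hh r)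
  have hccθ : ¬ MemLocalIdeal M (centralChar (θ : cz Q → ℂ) g) := by
    have h1 : centralChar (θ : cz Q → ℂ) g = (r : ℂ) * centralChar (η : cz Q ⧸ Z → ℂ) g := by
      rw [centralChar, centralChar, ← hC, ← hCb, hrC, hθval, hθval, QuotientGroup.mk_one]
      push_cast
      ring
    rw [h1]
    intro hmem
    rcases Blocks.MemLocalIdeal.mul_cases hM (natCast_mem (lRing hM) r)
      (Blocks.centralChar_mem_lRing hM η g) hmem with h2 | h2
    · exact hpr ((Blocks.memLocalIdeal_natCast_iff hM r).1 h2)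
    · exact hcc h2
  -- the trace
  have hS := setup_sup hM hQ he
  set R := (Q ⊔ cz Q) ⊓ Subgroup.centralizer ({(g : G)} : Set G) with hR
  have hQR : Q ≤ R := le_inf le_sup_left fun q hq => Subgroup.mem_centralizer_iff.2 fun y hy => by
    rw [Set.mem_singleton_iff.1 hy]; exact (mem_cz.1 g.2 q hq).symm
  have hQH : ((Q ⊔ cz Q : Subgroup G) : Set G) = (Q : Set G) * (cz Q : Set G) :=
    Subgroup.coe_mul_of_right_le_normalizer_left Q (cz Q) (cz_le_normalizer Q)
  have hidx : ¬ p ∣ Q.relIndex R := by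
    obtain ⟨P, hP⟩ := (hQ.comap_subtype (K := R)).exists_le_sylow
    have hPQ : (P : Subgroup R) ≤ Q.subgroupOf R := by
      intro x hx
      obtain ⟨q, hq, y, hy, hxy⟩ := Set.mem_mul.1 (hQH ▸ x.2.1 : (x : G) ∈ (Q : Set G) * (cz Q : Set G))
      have hyR : y ∈ R := by
        have h1 : y = q⁻¹ * x := by rw [← hxy, inv_mul_cancel_left]
        rw [h1]; exact R.mul_mem (R.inv_mem (hQR hq)) x.2
      have hyP : (⟨y, hyR⟩ : R) ∈ (P : Subgroup R) := by
        have h1 : (⟨y, hyR⟩ : R) = ⟨q, hQR hq⟩⁻¹ * x := Subtype.ext (by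
          simp only [Subgroup.coe_mul, Subgroup.coe_inv]; rw [← hxy, inv_mul_cancel_left])
        rw [h1]
        exact Subgroup.mul_mem _ (Subgroup.inv_mem _ (hP (show (⟨q, hQR hq⟩ : R) ∈ Q.subgroupOf R from hq))) hx
      have hyC : (⟨y, hy⟩ : cz Q) ∈ C := Subgroup.mem_centralizer_iff.2 fun w hw => by
        rw [Set.mem_singleton_iff.1 hw]
        exact Subtype.ext (Subgroup.mem_centralizer_iff.1 hyR.2 (g : G) rfl)
      obtain ⟨j, hj⟩ := P.2 ⟨_, hyP⟩
      have hyj : y ^ p ^ j = 1 := by simpa using congrArg (fun w : (P : Subgroup R) => ((w : R) : G)) hj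
      have hnorm : (Z.subgroupOf C).Normal := inferInstance
      have hind : ¬ p ∣ (Z.subgroupOf C).index := by
        have h1 := Subgroup.card_mul_index (Z.subgroupOf C)
        rw [Nat.card_congr (Subgroup.subgroupOfEquivOfLe hZC).toEquiv, hs] at h1
        rwa [Nat.eq_of_mul_eq_mul_left Nat.card_pos h1]
      have hmem := mem_of_pow_eq_one hp (Z.subgroupOf C) hind (x := ⟨⟨y, hy⟩, hyC⟩) (j := j)
        (Subtype.ext (Subtype.ext hyj))
      show (x : G) ∈ Q
      rw [← hxy]
      exact Q.mul_mem hq hmem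
    rw [Subgroup.relIndex, ← le_antisymm hPQ hP]
    exact P.not_dvd_index
  have hidxk : ((Q.relIndex R : ℕ) : ResK M) ≠ 0 := by rwa [Ne, CharP.cast_eq_zero_iff (ResK M) p]
  have hsing : single (g : G) (1 : ResK M) ∈ fixAlg (ResK M) R := by
    intro u hu
    have hug : (g : G) * u = u * g := Subgroup.mem_centralizer_iff.1 hu.2 g rfl
    rw [conjA, single_mul_single, single_mul_single, one_mul, one_mul, ← hug,
      mul_inv_cancel_right]
  let c : cz Q → ℂ := fun y => if ∃ h : cz Q, h * g * h⁻¹ = y then 1 else 0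
  have hc : ∀ y, c y ∈ lRing hM := fun y => by
    simp only [c]; split_ifs
    · exact Subring.one_mem _
    · exact Subring.zero_mem _
  have hcl : ∀ x y, c (x * y * x⁻¹) = c y := by
    intro x y
    simp only [c]
    refine if_congr ⟨?_, ?_⟩ rfl rfl
    · rintro ⟨h, hh⟩
      exact ⟨x⁻¹ * h, by rw [mul_inv_rev, inv_inv, show x⁻¹ * h * g * (h⁻¹ * x) =
        x⁻¹ * (h * g * h⁻¹) * x by group, hh]; group⟩
    · rintro ⟨h, hh⟩
      exact ⟨x * h, by rw [mul_inv_rev, show x * h * g * (h⁻¹ * x⁻¹) =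
        x * (h * g * h⁻¹) * x⁻¹ by group, hh]⟩
  have horb : ∀ y : G, (∃ x ∈ Q ⊔ cz Q, x * g * x⁻¹ = y) ↔ ∃ h : cz Q, (h : G) * g * (h : G)⁻¹ = y := by
    intro y
    constructor
    · rintro ⟨x, hx, rfl⟩
      obtain ⟨q, hq, h, hh, rfl⟩ := Set.mem_mul.1 (hQH ▸ hx : x ∈ (Q : Set G) * (cz Q : Set G))
      refine ⟨⟨h, hh⟩, ?_⟩
      have h1 := mem_cz_iff_conj.1 ((cz Q).mul_mem ((cz Q).mul_mem hh g.2) ((cz Q).inv_mem hh)) q hq
      calc h * (g : G) * h⁻¹ = q * (h * g * h⁻¹) * q⁻¹ := h1.symm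
        _ = q * h * g * (q * h)⁻¹ := by group
    · rintro ⟨h, rfl⟩
      exact ⟨h, Subgroup.mem_sup_right h.2, rfl⟩
  have hzeq : inclA (ResK M) (cz Q) (redFun hM c) =
      relTr (ResK M) R (Q ⊔ cz Q) (single (g : G) (1 : ResK M)) := by
    rw [hR, relTr_single_self]
    ext y
    rw [Blocks.coeff_ofFun]
    by_cases hy : y ∈ cz Q
    · refine (coeff_inclA _ ⟨y, hy⟩).trans ?_
      rw [coeff_redFun hM (hc _)]
      by_cases hconj : ∃ h : cz Q, (h : G) * g * (h : G)⁻¹ = y
      · have h1 : (⟨c ⟨y, hy⟩, hc _⟩ : lRing hM) = 1 := Subtype.ext (by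
          simp only [c]
          rw [if_pos (hconj.imp fun h hh => Subtype.ext (by simpa using hh))]
          rfl)
        rw [h1, map_one, if_pos ((horb y).2 hconj)]
      · have h1 : (⟨c ⟨y, hy⟩, hc _⟩ : lRing hM) = 0 := Subtype.ext (by
          simp only [c]
          rw [if_neg fun hh => hconj (hh.imp fun h h2 => by simpa using congrArg Subtype.val h2)]
          rfl)
        rw [h1, map_zero, if_neg fun hh => hconj ((horb y).1 hh)]
    · rw [coeff_inclA_of_notMem _ hy, if_neg]
      intro hh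
      obtain ⟨h, rfl⟩ := (horb y).1 hh
      exact hy ((cz Q).mul_mem ((cz Q).mul_mem h.2 g.2) ((cz Q).inv_mem h.2))
  have hTr : InTr Q Q (Q ⊔ cz Q) (inclA (ResK M) (cz Q) (redFun hM c)) := by
    refine ⟨((Q.relIndex R : ℕ) : ResK M)⁻¹ • single (g : G) (1 : ResK M),
      Subalgebra.smul_mem _ (single_mem_suppAlg g.2 _) _,
      Subalgebra.smul_mem _ (fixAlg_anti hQR hsing) _, ?_⟩
    rw [hzeq, ← relTr_relTr hQR inf_le_left (Subalgebra.smul_mem _ (fixAlg_anti hQR hsing) _),
      relTr_smul Q R, relTr_of_fixed hsing, smul_smul, inv_mul_cancel₀ hidxk, one_smul]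
  refine hS.inTr_of_not_nilpotent le_sup_left hTr fun hn => ?_
  rw [← inclA_eG, ← map_mul] at hn
  obtain ⟨n, hn⟩ := hn
  rw [← map_pow] at hn
  have hn' : IsNilpotent (redFun hM c * eG hM e) :=
    ⟨n, inclA_injective _ (hn.trans (map_zero _).symm)⟩
  have hl : resK hM ⟨_, omega_sum_mem hM θ hc hcl⟩ ≠ 0 := by
    intro h0
    apply hccθ
    have h1 := (resK_eq_zero_iff hM _).1 h0
    have h2 : (∑ᶠ x : cz Q, c x * (θ : cz Q → ℂ) x / (θ : cz Q → ℂ) 1) =
        centralChar (θ : cz Q → ℂ) g := by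
      rw [omega_sum_eq, ← Blocks.omega_classSum (Characters.irr_isClassFunction θ) g]
      congr 1
      ext y
      rw [Blocks.coeff_ofFun, Blocks.coeff_classSum]
      simp only [c, isConj_iff]
    rwa [← h2]
  have hb := isBlockIdem_eG hM he
  have h1 := nilpotent_sub hM he hθ hc hcl
  apply hb.ne_zero
  set l := resK hM ⟨_, omega_sum_mem hM θ hc hcl⟩
  have hcomm : Commute (redFun hM c * eG hM e) (l • eG hM e) := by
    refine Commute.smul_right ?_ _
    exact commute_of_supp_fix (mem_suppAlg_top _) hb.fixed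
  have h2 : IsNilpotent (l • eG hM e) := by
    have h3 := ((Commute.refl (redFun hM c * eG hM e)).sub_right hcomm).isNilpotent_sub hn' h1
    simpa using h3
  have h4 := h2.smul l⁻¹
  rw [smul_smul, inv_mul_cancel₀ hl, one_smul] at h4
  exact eq_zero_of_nilpotent_idem h4 hb.idem

end

section Stab

variable {k : Type*} [Field k] [Fintype G] [CharP k p] [hp : Fact p.Prime] {Q T : Subgroup G}
  {f : MonoidAlgebra k G}

omit [CharP k p] hp in
theorem le_normalizer_sup_cz (hT : T ≤ Subgroup.normalizer (Q : Set G)) :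
    T ≤ Subgroup.normalizer ((Q ⊔ cz Q : Subgroup G) : Set G) := by
  intro t ht x
  have h1 : (Q ⊔ cz Q).map (MulAut.conj t).toMonoidHom = Q ⊔ cz Q := by
    rw [Subgroup.map_sup, map_conj_eq_self (hT ht),
      map_conj_eq_self (normalizer_le_normalizer_cz Q (hT ht))]
  have h2 := Subgroup.mem_map_iff_mem (f := (MulAut.conj t).toMonoidHom)
    (MulAut.conj t).injective (K := Q ⊔ cz Q) (x := x)
  rw [h1] at h2
  simpa using h2.symm

omit [CharP k p] in
/-- The index of `Q C(Q)` in `T` is prime to `p` iff it contains all `p`-elements of `T`. -/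
theorem not_dvd_relIndex_iff (hQT : Q ⊔ cz Q ≤ T) (hT : T ≤ Subgroup.normalizer (Q : Set G)) :
    ¬ p ∣ (Q ⊔ cz Q).relIndex T ↔
      ∀ g ∈ T, (∃ j : ℕ, orderOf g = p ^ j) → g ∈ Q ⊔ cz Q := by
  constructor
  · intro h g hg ⟨j, hj⟩
    have hn : ((Q ⊔ cz Q).subgroupOf T).Normal :=
      (Subgroup.normal_subgroupOf_iff_le_normalizer hQT).2 (le_normalizer_sup_cz hT)
    exact mem_of_pow_eq_one hp.out ((Q ⊔ cz Q).subgroupOf T) h (x := ⟨g, hg⟩) (j := j)
      (Subtype.ext (by simpa [← hj] using pow_orderOf_eq_one g))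
  · intro h
    obtain ⟨P⟩ : Nonempty (Sylow p T) := inferInstance
    have hle : (P : Subgroup T) ≤ (Q ⊔ cz Q).subgroupOf T := fun x hx => h x x.2 (by
      obtain ⟨j, hj⟩ := (IsPGroup.iff_orderOf.1 P.2) ⟨x, hx⟩
      exact ⟨j, by rw [← hj, Subgroup.orderOf_mk]; exact Subgroup.orderOf_coe x⟩)
    exact fun hd => P.not_dvd_index (hd.trans (Subgroup.index_dvd_of_le hle))

/-- The setting of the stabiliser has defect group `Q` iff that on `Q C(Q)` has and the index is
prime to `p`. -/
theorem inTr_iff (hS : BrSetup p Q f T) :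
    InTr Q Q T f ↔ InTr Q Q (Q ⊔ cz Q) f ∧ ¬ p ∣ (Q ⊔ cz Q).relIndex T := by
  classical
  have hQT : Q ⊔ cz Q ≤ T := sup_le hS.le hS.cz_le
  have hS2 : BrSetup p Q f (Q ⊔ cz Q) :=
    ⟨hS.pgroup, hS.block, hQT.trans hS.le_norm, le_sup_right, le_sup_left,
      fixAlg_anti hQT hS.fixed⟩
  have hidx : ¬ p ∣ (Q ⊔ cz Q).relIndex T ↔ (((Q ⊔ cz Q).relIndex T : ℕ) : k) ≠ 0 := by
    rw [Ne, CharP.cast_eq_zero_iff k p]
  constructor
  · rintro ⟨a, has, haf, ha⟩
    set i : k := (((Q ⊔ cz Q).relIndex T : ℕ) : k)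
    set w := relTr k Q (Q ⊔ cz Q) a with hw
    have hwTr : InTr Q Q (Q ⊔ cz Q) w := ⟨a, has, haf, rfl⟩
    have hws := hwTr.mem_suppAlg hS2.le_norm
    have hwf : w ∈ fixAlg k (Q ⊔ cz Q) := hwTr.mem_fixAlg
    obtain ⟨c, hc⟩ := hS2.locally_fixed hws hwf
    set n := w * f - c • f with hn
    have hns : n ∈ suppAlg k (cz Q) := Subalgebra.sub_mem _
      (Subalgebra.mul_mem _ hws hS.block.supp) (Subalgebra.smul_mem _ hS.block.supp c)
    have hnf : n ∈ fixAlg k (cz Q) := fixAlg_anti le_sup_right (Subalgebra.sub_mem _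
      (Subalgebra.mul_mem _ hwf hS2.fixed) (Subalgebra.smul_mem _ hS2.fixed c))
    have hf1 : f = relTr k (Q ⊔ cz Q) T (w * f) := by
      rw [← relTr_mul_right hS.fixed, hw, relTr_relTr le_sup_left hQT haf, ha, hS.block.idem]
    have hf2 : f = (c * i) • f + relTr k (Q ⊔ cz Q) T n := by
      conv_lhs => rw [hf1, show w * f = c • f + n by rw [hn, add_sub_cancel], relTr_add, relTr_smul,
        relTr_of_fixed hS.fixed, smul_smul]
    have hnil : IsNilpotent (relTr k (Q ⊔ cz Q) T n) := by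
      rw [relTr_eq_sum]
      have hmem : ∀ t ∈ T, conjA t n ∈ suppAlg k (cz Q) ∧ conjA t n ∈ fixAlg k (cz Q) := by
        intro t ht
        have h1 := conjA_mem_suppAlg hns t
        have h2 := conjA_mem_fixAlg hnf t
        rw [map_conj_eq_self (normalizer_le_normalizer_cz Q (hS.le_norm ht))] at h1 h2
        exact ⟨h1, h2⟩
      refine Commute.isNilpotent_sum (fun q _ => ?_) fun q q' _ _ =>
        commute_of_supp_fix (hmem _ (q.out).2).1 (hmem _ (q'.out).2).2
      exact hc.map (conjHom (k := k) ((q.out : T) : G))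
    have hci : c * i = 1 := by
      by_contra hne
      have h0 : relTr k (Q ⊔ cz Q) T n = (1 - c * i) • f := by
        rw [sub_smul, one_smul]; exact eq_sub_of_add_eq' hf2.symm
      rw [h0] at hnil
      have h4 := hnil.smul (1 - c * i)⁻¹
      rw [smul_smul, inv_mul_cancel₀ (sub_ne_zero.2 (Ne.symm hne)), one_smul] at h4
      exact hS.block.ne_zero (eq_zero_of_nilpotent_idem h4 hS.block.idem)
    refine ⟨hS2.inTr_of_not_nilpotent le_sup_left hwTr fun hwn => ?_,
      hidx.2 (right_ne_zero_of_mul_eq_one hci)⟩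
    have hcomm : Commute (w * f) (c • f) :=
      (commute_of_supp_fix (Subalgebra.mul_mem _ hws hS.block.supp) hS.block.fixed).smul_right c
    have h3 := ((Commute.refl (w * f)).sub_right hcomm).isNilpotent_sub hwn hc
    have h4 : IsNilpotent (c • f) := by simpa using h3
    have h5 := h4.smul c⁻¹
    rw [smul_smul, inv_mul_cancel₀ (left_ne_zero_of_mul_eq_one hci), one_smul] at h5
    exact hS.block.ne_zero (eq_zero_of_nilpotent_idem h5 hS.block.idem)
  · rintro ⟨⟨a, has, haf, ha⟩, hd⟩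
    refine ⟨(((Q ⊔ cz Q).relIndex T : ℕ) : k)⁻¹ • a, Subalgebra.smul_mem _ has _,
      Subalgebra.smul_mem _ haf _, ?_⟩
    rw [relTr_smul, ← relTr_relTr le_sup_left hQT haf, ha, relTr_of_fixed hS.fixed, smul_smul,
      inv_mul_cancel₀ (hidx.1 hd), one_smul]

end Stab

/-- A pair is maximal in its block iff `Q` is the defect group of the stabiliser setting. -/
theorem exists_maximal_iff [M.IsMaximal] [Fintype G] [Fact p.Prime] (hM : IsPModular p M)
    {Q : Subgroup G} {e : Set (IrrCharacter (cz Q))} (hQ : IsPGroup p Q) (he : IsPBlock M e)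
    (hex : ∃ B, IsBrauerPairOf p M B Q e) :
    (∃ B, IsMaximalBrauerPair p M B Q e) ↔
      InTr Q Q (pairStab Q (eA hM (cz Q) e)) (eA hM (cz Q) e) := by
  have := charP_res hM
  set f := eA hM (cz Q) e
  set T := pairStab Q f
  have hb : IsBlockIdem (cz Q) f := isBlockIdem_eA hM he
  have hS : BrSetup p Q f T :=
    ⟨hQ, hb, fun t ht => ht.1, fun x hx => ⟨cz_le_normalizer Q hx, hb.fixed x hx⟩,
      fun x hx => ⟨Subgroup.le_normalizer hx, fixed_of_supp_cz hb.supp x hx⟩, fun t ht => ht.2⟩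
  constructor
  · rintro ⟨B, hB⟩
    obtain ⟨hP, hDef⟩ := (isMaximalBrauerPair_iff hM B Q e).1 hB
    obtain ⟨-, hBb, hO⟩ := (isBrauerPairOf_iff hM B Q e).1 hP
    obtain ⟨D, hD⟩ := hS.exists_isDefect
    have hfD : f ∈ fixAlg (ResK M) D := fixAlg_anti hD.le_T hS.fixed
    obtain ⟨h, hh, hcov⟩ := exists_block_le (hasBlocks hM) (brMap_mem_suppAlg D f)
      (brMap_mem_fixAlg (cz_le_normalizer D) (fixAlg_anti (cz_anti hD.le) hb.fixed))
      (by rw [← brMap_mul hD.pgroup hfD hfD, hb.idem]) hD.br_ne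
    have hstep : NormalSub p (Q, f) (D, h) :=
      ⟨hQ, hD.pgroup, hb, hh, hD.le, hD.le_T.trans hS.le_norm, hfD, hcov⟩
    have hbG := isBlockIdem_eG hM hBb
    have hOD : OverPair p (⊥ : Subgroup G) (eG hM B) ⊤ D h :=
      ⟨hD.pgroup, bot_le, le_top, hh, (brMap_cover_iff (Relation.ReflTransGen.single hstep)
        hbG.fixed hbG.idem).1 hO.cover⟩
    have hSB := brSetup_block (p := p) hM hBb
    have hle := hSB.card_le_defect hDef hD.pgroup le_top (hSB.brMap_ne_zero hOD)
    have hDQ : Q = D := Subgroup.eq_of_le_of_card_ge hD.le hle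
    subst hDQ
    exact hD.inTr
  · intro hTr
    obtain ⟨B, hB⟩ := hex
    refine ⟨B, (isMaximalBrauerPair_iff hM B Q e).2 ⟨hB, ?_⟩⟩
    obtain ⟨-, hBb, hO⟩ := (isBrauerPairOf_iff hM B Q e).1 hB
    refine (brSetup_block hM hBb).isDefect_of_maximal (hasBlocks hM) hO fun S h' _ hle => ?_
    rcases hle.eq_or_strict with heq | ⟨c, hc, hlt, -⟩
    · exact (congrArg Prod.fst heq).symm
    · exfalso
      have hcT : c.1 ≤ T := fun x hx => ⟨hc.le_norm hx, hc.fixed x hx⟩
      have hne : brMap (ResK M) c.1 f ≠ 0 := fun h0 => hc.block_right.ne_zero (by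
        rw [← hc.cover]; show brMap (ResK M) c.1 f * c.2 = 0; rw [h0, zero_mul])
      have hDef : IsDefect p Q f T Q :=
        ⟨hQ, le_rfl, hS.le, hTr, by rw [brMap_eq_self hb.supp]; exact hb.ne_zero⟩
      exact hlt.ne (Subgroup.eq_of_le_of_card_ge hlt.le
        (hS.card_le_defect hDef hc.pgroup_right hcT hne))

end CfsgLib.Chars17.MaxPair
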