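import Cfsg.Agent.Lib.Chars17.Constituents

/-!
# Faithful irreducible characters of prime codegree
-/

namespace CfsgLib.Chars17

open Cfsg CfsgLib.Characters

/-- A faithful irreducible character of prime codegree `p` forces a self-centralising normal
subgroup of order `p`. -/
theorem exists_normal_of_prime_codegree {G : Type*} [Group G] [Finite G] (χ : IrrCharacter G)
    {p : ℕ} (hp : p.Prime) (hcod : Nat.card G = p * charDegree (χ : G → ℂ)) :
    charDegree (χ : G → ℂ) = 1 ∨
      ∃ P : Subgroup G, P.Normal ∧ Nat.card P = p ∧ P.index = charDegree (χ : G → ℂ) ∧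
        (Nat.card P).Coprime P.index ∧ 1 < P.index ∧
        ∀ h : G, (∀ a ∈ P, h * a = a * h) → h ∈ P := by
  classical
  let _ := Fintype.ofFinite G
  haveI := Fact.mk hp
  set d := charDegree (χ : G → ℂ) with hd
  have hd0 : 0 < d := irrDegree_pos χ
  rcases eq_or_ne d 1 with h1 | h1
  · exact .inl h1
  right
  have hle : d ≤ p := by
    have h2 : d ^ 2 ≤ ∑ ψ : IrrCharacter G, charDegree (ψ : G → ℂ) ^ 2 :=
      Finset.single_le_sum (f := fun ψ : IrrCharacter G => charDegree (ψ : G → ℂ) ^ 2)
        (fun _ _ => Nat.zero_le _) (Finset.mem_univ χ)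
    rw [natSum_sq_degrees, hcod, sq] at h2
    exact Nat.le_of_mul_le_mul_right h2 hd0
  have hlt : d < p := by
    refine hle.lt_of_ne fun heq => h1 ?_
    have hcomm : IsMulCommutative (⊤ : Subgroup G) :=
      ⟨⟨fun a b => Subtype.ext ((IsPGroup.isMulCommutative_of_card_eq_prime_sq
        (p := p) (G := G) (by rw [hcod, heq, sq])).is_comm.comm (a : G) b)⟩⟩
    haveI := hcomm
    have := irrDegree_le_index_of_commutative (⊤ : Subgroup G) χ
    rw [Subgroup.index_top] at this
    omega
  have hpd : ¬ p ∣ d := fun h => absurd (Nat.le_of_dvd hd0 h) (by omega)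
  let P : Sylow p G := default
  have hcardP : Nat.card (P : Subgroup G) = p := by
    rw [P.card_eq_multiplicity, hcod, Nat.factorization_mul hp.ne_zero hd0.ne', Finsupp.add_apply,
      hp.factorization_self, Nat.factorization_eq_zero_of_not_dvd hpd, add_zero, pow_one]
  have hidx : (P : Subgroup G).index = d := by
    have := Subgroup.card_mul_index (P : Subgroup G)
    rw [hcardP, hcod] at this
    exact Nat.eq_of_mul_eq_mul_left hp.pos this
  have hnorm : (P : Subgroup G).Normal := by
    have h1' := P.card_dvd_index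
    rw [hidx] at h1'
    have h2 := card_sylow_modEq_one p G
    have h3 : Nat.card (Sylow p G) = 1 := by
      have hle' := Nat.le_of_dvd hd0 h1'
      rwa [Nat.ModEq, Nat.mod_eq_of_lt (by omega), Nat.mod_eq_of_lt hp.one_lt] at h2
    haveI : Subsingleton (Sylow p G) := (Nat.card_eq_one_iff_unique.1 h3).1
    exact P.normal_of_subsingleton
  refine ⟨P, hnorm, hcardP, hidx, by rw [hcardP, hidx]; exact hp.coprime_iff_not_dvd.2 hpd,
    by rw [hidx]; omega, fun h hh => ?_⟩
  by_contra hnot
  let C : Subgroup G := Subgroup.centralizer (insert h ((P : Subgroup G) : Set G))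
  let A : Subgroup G := C ⊓ Subgroup.centralizer (C : Set G)
  haveI : IsMulCommutative A :=
    ⟨⟨fun a b => Subtype.ext (Subgroup.mem_centralizer_iff.1 b.2.2 a a.2.1)⟩⟩
  have hcomm : IsMulCommutative (P : Subgroup G) := by
    have := isCyclic_of_prime_card hcardP
    exact ⟨⟨IsCyclic.commGroup.mul_comm⟩⟩
  have hC : ∀ a ∈ insert h ((P : Subgroup G) : Set G), a ∈ C := by
    intro a ha
    rw [Subgroup.mem_centralizer_iff]
    intro b hb
    rcases ha with rfl | ha <;> rcases hb with rfl | hb
    · rfl
    · exact (hh b hb).symm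
    · exact hh a ha
    · exact congrArg Subtype.val (hcomm.is_comm.comm ⟨b, hb⟩ ⟨a, ha⟩)
  have hA : ∀ a ∈ insert h ((P : Subgroup G) : Set G), a ∈ A := fun a ha =>
    ⟨hC a ha, Subgroup.mem_centralizer_iff.2 fun b hb =>
      (Subgroup.mem_centralizer_iff.1 hb a ha).symm⟩
  have hle2 := irrDegree_le_index_of_commutative A χ
  have hPA : (P : Subgroup G) < A := lt_of_le_of_ne (fun a ha => hA a (.inr ha))
    fun he => hnot (he ▸ hA h (.inl rfl))
  have := Subgroup.index_strictAnti hPA
  rw [hidx] at this
  omega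

end CfsgLib.Chars17
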