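import Cfsg.Agent.Lib.Chars17.IrrBasic
import Cfsg.Agent.Lib.Characters.InvariantOrbit
import Cfsg.Agent.Lib.Characters.Clifford
import Cfsg.Agent.Lib.Characters.Monomial
import Cfsg.Agent.Lib.Characters.RealOverNormal
import Cfsg.Agent.Lib.Solvable.MinNormal

/-!
# Groups whose real characters have degree prime to `p`
-/

set_option autoImplicit false

namespace CfsgLib.Chars17

open Cfsg CfsgLib.Characters CfsgLib.BrauerPerm CfsgLib.NormalRes
open scoped ComplexConjugate

universe u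

variable {G : Type u} [Group G] [Finite G]

/-- A sum invariant under a permutation of `2`-power period is congruent to the sum over the fixed
points modulo `2`. -/
theorem two_power_perm_sum {X : Type*} [Fintype X] (σ : Equiv.Perm X) {k : ℕ} (hσ : σ ^ 2 ^ k = 1)
    (f : X → ℂ) (hint : ∀ x, IsIntegral ℤ (f x)) (hf : ∀ x, f (σ x) = f x) [DecidableEq X] :
    ∃ r : ℂ, IsIntegral ℤ r ∧
      ∑ x, f x = ∑ x ∈ Finset.univ.filter (fun x => σ x = x), f x + 2 * r := by
  classical
  haveI : Fact (Nat.Prime 2) := ⟨Nat.prime_two⟩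
  have hP : IsPGroup 2 (Subgroup.zpowers σ) := by
    intro g
    obtain ⟨i, hi⟩ := Subgroup.mem_zpowers_iff.1 g.2
    refine ⟨k, Subtype.ext ?_⟩
    rw [SubmonoidClass.coe_pow, OneMemClass.coe_one, ← hi, ← zpow_natCast, ← zpow_mul, mul_comm,
      zpow_mul, zpow_natCast, hσ, one_zpow]
  let T : Subgroup (Equiv.Perm X) :=
    { carrier := {τ | ∀ x, f (τ x) = f x}
      one_mem' := fun x => rfl
      mul_mem' := fun {a b} ha hb x => (ha (b x)).trans (hb x)
      inv_mem' := fun {a} ha x => by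
        have := ha (a⁻¹ x)
        rwa [Equiv.Perm.coe_inv, Equiv.apply_symm_apply, eq_comm] at this }
  have hT : Subgroup.zpowers σ ≤ T := Subgroup.zpowers_le.2 hf
  obtain ⟨r, hr, hsum⟩ := InvariantOrbit.exists_sum_eq_fixed hP f hint (fun u x => hT u.2 x)
  refine ⟨r, hr, hsum.trans ?_⟩
  rw [Nat.cast_ofNat]
  congr 2
  ext x
  simp only [Finset.mem_filter, Finset.mem_univ, true_and]
  constructor
  · intro h; exact h ⟨σ, Subgroup.mem_zpowers σ⟩
  · intro h u
    let S : Subgroup (Equiv.Perm X) :=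
      { carrier := {τ | τ x = x}
        one_mem' := rfl
        mul_mem' := fun {a b} ha hb => by
          show a (b x) = x
          rw [hb]; exact ha
        inv_mem' := fun {a} ha => (Equiv.Perm.inv_eq_iff_eq).2 ha.symm }
    exact (Subgroup.zpowers_le (H := S)).2 h u.2

/-- A character of odd multiplicity with real values has a real constituent over an inverted
character of a normal subgroup. -/
theorem exists_real_constituent (N : Subgroup G) [N.Normal] [Fintype N] {Φ : G → ℂ}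
    (hΦ : IsCharacter G Φ) (hreal : ∀ g, conj (Φ g) = Φ g) (θ : IrrCharacter N) (a : G)
    (ha : twistIrr (MulAut.conjNormal a) θ = conjIrr θ) {m : ℕ} (hm : mult N Φ θ = m) (hodd : Odd m) :
    ∃ χ : IrrCharacter G, (∀ g, ((χ : G → ℂ) g).im = 0) ∧ mult N (χ : G → ℂ) θ ≠ 0 := by
  classical
  let _ := Fintype.ofFinite G
  obtain ⟨c, hc, hdec⟩ := Clifford.exists_mult hΦ
  by_contra hne
  push Not at hne
  have hnat : ∀ χ : IrrCharacter G, ∃ k : ℕ, mult N (χ : G → ℂ) θ = k :=
    fun χ => mult_nat N (irr_isCharacter χ) θ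
  choose k hk using hnat
  have hsum : mult N Φ θ = ∑ χ : IrrCharacter G, (c χ : ℂ) * mult N (χ : G → ℂ) θ := by
    unfold mult classInner
    simp only [hdec, Finset.sum_apply, Pi.smul_apply, smul_eq_mul, Finset.sum_mul, Finset.mul_sum]
    rw [Finset.sum_comm]
    exact Finset.sum_congr rfl fun χ _ => Finset.sum_congr rfl fun n _ => by ring
  let σ : Equiv.Perm (IrrCharacter G) :=
    Function.Involutive.toPerm conjIrr fun χ => Subtype.ext (funext fun g => by simp)
  have hσ : σ ^ 2 ^ 1 = 1 := Equiv.ext fun χ => Subtype.ext (funext fun g => by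
    rw [pow_one, sq]
    show (conjIrr (conjIrr χ) : G → ℂ) g = _
    simp)
  have hinv : ∀ χ : IrrCharacter G, (c (σ χ) : ℂ) * (k (σ χ) : ℂ) = (c χ : ℂ) * (k χ : ℂ) := by
    intro χ
    have h1 : (c (σ χ) : ℂ) = c χ := by
      rw [← hc, ← hc]
      have h2 : classInner Φ (conjIrr χ : G → ℂ) = conj (classInner Φ (χ : G → ℂ)) := by
        simp only [classInner, map_mul, map_inv₀, map_natCast, map_sum, hreal, conjIrr_apply]
      show classInner Φ (conjIrr χ : G → ℂ) = _
      rw [h2, hc, Complex.conj_natCast]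
    have h3 : (k (σ χ) : ℂ) = k χ := by
      rw [← hk, ← hk]
      have h2 : mult N (conjIrr χ : G → ℂ) θ = conj (mult N (χ : G → ℂ) (conjIrr θ)) := by
        simp only [mult, classInner, map_mul, map_inv₀, map_natCast, map_sum, conjIrr_apply,
          Complex.conj_conj]
      show mult N (conjIrr χ : G → ℂ) θ = _
      rw [h2, ← ha, mult_twist N a (irr_isClassFunction χ), hk, Complex.conj_natCast]
    rw [h1, h3]
  obtain ⟨r, hr, hpar⟩ := two_power_perm_sum σ hσ (fun χ => (c χ : ℂ) * (k χ : ℂ))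
    (fun χ => (InvariantOrbit.isIntegral_natCast_complex _).mul
      (InvariantOrbit.isIntegral_natCast_complex _)) hinv
  rw [Finset.sum_eq_zero (s := Finset.univ.filter _) (fun χ hχ => ?_), zero_add] at hpar
  · rw [hsum, Finset.sum_congr rfl fun χ _ => by rw [hk]] at hm
    rw [hm] at hpar
    haveI : Fact (Nat.Prime 2) := ⟨Nat.prime_two⟩
    have h2 : 2 ∣ m := InvariantOrbit.dvd_of_cast_eq (p := 2) hr (by rw [hpar, Nat.cast_ofNat])
    exact (Nat.not_even_iff_odd.2 hodd) (even_iff_two_dvd.2 h2)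
  · have hreal' := (conjIrr_eq_self_iff χ).1 (Finset.mem_filter.1 hχ).2
    rw [← hk, hne χ hreal', mul_zero]

/-- The permutation character on the cosets of `H`, restricted to a normal subgroup meeting `H`
trivially. -/
theorem mult_indFun_one [Fintype G] (N H : Subgroup G) [N.Normal] [Fintype N] [Fintype H]
    (hNH : N ⊓ H = ⊥) (θ : IrrCharacter N) :
    ∃ m : ℕ, Nat.card N * Nat.card H * m = Nat.card G ∧
      mult N (indFun H fun _ => (1 : ℂ)) θ = (m : ℂ) * (θ : N → ℂ) 1 := by
  classical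
  haveI : (N.subgroupOf (N ⊔ H)).Normal := inferInstance
  have hcard : Nat.card N * Nat.card H = Nat.card ↥(N ⊔ H) := by
    rw [← Nat.card_prod]
    refine Nat.card_congr (Equiv.ofBijective
      (fun x : N × H => (⟨(x.1 : G) * x.2, Subgroup.mul_mem_sup x.1.2 x.2.2⟩ : ↥(N ⊔ H)))
      ⟨fun x y hxy => ?_, ?_⟩)
    · exact Subgroup.mul_injective_of_disjoint (disjoint_iff.2 hNH) (congrArg Subtype.val hxy)
    · rintro ⟨z, hz⟩
      obtain ⟨n, hn, h, hh, rfl⟩ := Subgroup.mem_sup_of_normal_left.1 hz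
      exact ⟨(⟨n, hn⟩, ⟨h, hh⟩), rfl⟩
  obtain ⟨m, hm⟩ := (N ⊔ H).card_subgroup_dvd_card
  rw [← hcard] at hm
  refine ⟨m, hm.symm, ?_⟩
  have hval : ∀ n : N, indFun H (fun _ => (1 : ℂ)) (n : G) =
      if n = 1 then (Nat.card G : ℂ) / Nat.card H else 0 := by
    intro n
    rw [CfsgLib.Induction.indFun_apply]
    split_ifs with h
    · subst h
      simp only [OneMemClass.coe_one, mul_one, inv_mul_cancel, one_mul, mul_inv_cancel,
        CfsgLib.Induction.extendByZero_mem H _ H.one_mem, Finset.sum_const, Finset.card_univ,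
        nsmul_eq_mul, Nat.card_eq_fintype_card]
      ring
    · rw [Finset.sum_eq_zero fun x _ => ?_, mul_zero]
      refine CfsgLib.Induction.extendByZero_notMem H _ fun hx => h ?_
      have hxN := (inferInstance : N.Normal).conj_mem (n : G) n.2 x⁻¹
      rw [inv_inv] at hxN
      have h1 := Subgroup.mem_bot.1 (hNH.le ⟨hxN, hx⟩)
      apply Subtype.ext
      have h2 := congrArg (fun t => x * t * x⁻¹) h1
      simpa [mul_assoc] using h2
  unfold mult classInner
  rw [Finset.sum_eq_single (1 : N) (fun n _ hn => by dsimp only; rw [hval n, if_neg hn, zero_mul])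
    (fun h => absurd (Finset.mem_univ _) h)]
  have h1 := hval 1
  rw [if_pos rfl] at h1
  dsimp only
  rw [h1, conj_irr_one, hm]
  push_cast
  field_simp

theorem isCharacter_indFun_one [Fintype G] (H : Subgroup G) [Fintype H] :
    IsCharacter G (indFun H fun _ => (1 : ℂ)) :=
  CfsgLib.Induction.isCharacter_indFun H CfsgLib.Induction.isCharacter_const_one

theorem conj_indFun_one [Fintype G] (H : Subgroup G) [Fintype H] (g : G) :
    conj (indFun H (fun _ => (1 : ℂ)) g) = indFun H (fun _ => (1 : ℂ)) g := by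
  rw [CfsgLib.Induction.indFun_apply, map_mul, map_inv₀, map_natCast, map_sum]
  congr 1
  refine Finset.sum_congr rfl fun x _ => ?_
  by_cases h : x⁻¹ * g * x ∈ H
  · rw [CfsgLib.Induction.extendByZero_mem H _ h, map_one]
  · rw [CfsgLib.Induction.extendByZero_notMem H _ h, map_zero]

/-- A `2`-power element inverting a nontrivial element of a normal subgroup `Q` of odd order
stabilises, up to complex conjugation, a character not trivial at that element. -/
theorem exists_inverted_char (Q : Subgroup G) [Q.Normal] (hQ : Odd (Nat.card Q)) (b : G) {k : ℕ}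
    (hb : b ^ 2 ^ k = 1) (n : Q) (hn : b * n * b⁻¹ = (n : G)⁻¹) (hn1 : n ≠ 1) :
    ∃ θ : IrrCharacter Q, twistIrr (MulAut.conjNormal b) θ = conjIrr θ ∧
      (θ : Q → ℂ) n ≠ (θ : Q → ℂ) 1 := by
  classical
  let _ := Fintype.ofFinite Q
  by_contra! hne
  let F : IrrCharacter Q → IrrCharacter Q := fun θ => conjIrr (twistIrr (MulAut.conjNormal b) θ)
  have hFF : ∀ (i : ℕ) θ, F^[2 * i] θ = twistIrr (MulAut.conjNormal (b ^ (2 * i))) θ := by
    intro i θ
    induction i with
    | zero => exact (by rw [pow_zero]; exact (twist_of_mem Q Q.one_mem θ).symm)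
    | succ i ih =>
      rw [show 2 * (i + 1) = 2 * i + 1 + 1 by ring, Function.iterate_succ_apply',
        Function.iterate_succ_apply', ih]
      refine Subtype.ext (funext fun q => ?_)
      simp only [F, conjIrr_apply, twistIrr_apply, Complex.conj_conj]
      rw [pow_succ', pow_succ', map_mul, map_mul]
      rfl
  have hFper : ∀ θ, F^[2 ^ (k + 1)] θ = θ := fun θ => by
    rw [pow_succ', hFF, pow_mul', hb, one_pow]
    exact twist_of_mem Q Q.one_mem θ
  have hFinj : Function.Injective F := fun x y h => by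
    have h1 := hFper x
    have h2 := hFper y
    rw [show 2 ^ (k + 1) = (2 ^ (k + 1) - 1) + 1 by
      have := Nat.two_pow_pos (k + 1); omega, Function.iterate_succ_apply] at h1 h2
    rw [← h1, ← h2, h]
  let σ : Equiv.Perm (IrrCharacter Q) :=
    Equiv.ofBijective F (Finite.injective_iff_bijective.1 hFinj)
  have hσ : σ ^ 2 ^ (k + 1) = 1 := Equiv.ext fun θ => by
    rw [Equiv.Perm.coe_pow]
    exact hFper θ
  have hval : ∀ θ, (σ θ : Q → ℂ) n = (θ : Q → ℂ) n := fun θ => by
    show conj ((θ : Q → ℂ) ((MulAut.conjNormal b).symm n)) = _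
    rw [show (MulAut.conjNormal b).symm n = n⁻¹ from ?_, irr_apply_inv, Complex.conj_conj]
    rw [MulEquiv.symm_apply_eq]
    ext
    simp only [MulAut.conjNormal_apply, InvMemClass.coe_inv]
    rw [show b * (n : G)⁻¹ * b⁻¹ = (b * n * b⁻¹)⁻¹ by group, hn, inv_inv]
  have hdeg : ∀ θ, (σ θ : Q → ℂ) 1 = (θ : Q → ℂ) 1 := fun θ => by
    show conj ((θ : Q → ℂ) ((MulAut.conjNormal b).symm 1)) = _
    rw [map_one, conj_irr_one]
  have hfix : ∀ θ, σ θ = θ → (θ : Q → ℂ) n = (θ : Q → ℂ) 1 := by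
    intro θ hθ
    refine hne θ ?_
    have h1 := congrArg conjIrr hθ
    simp only [σ, Equiv.ofBijective_apply, F] at h1
    rw [← h1]
    exact Subtype.ext (funext fun q => by simp)
  have hint1 : ∀ θ : IrrCharacter Q, IsIntegral ℤ ((θ : Q → ℂ) 1) := fun θ =>
    isIntegral_of_isCharacter (irr_isCharacter θ) 1
  obtain ⟨r₁, hr₁, e₁⟩ := two_power_perm_sum σ hσ (fun θ => (θ : Q → ℂ) 1 * (θ : Q → ℂ) n)
    (fun θ => (hint1 θ).mul (isIntegral_of_isCharacter (irr_isCharacter θ) n))
    (fun θ => by simp only [hval, hdeg])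
  obtain ⟨r₂, hr₂, e₂⟩ := two_power_perm_sum σ hσ (fun θ => (θ : Q → ℂ) 1 * (θ : Q → ℂ) 1)
    (fun θ => (hint1 θ).mul (hint1 θ))
    (fun θ => by simp only [hdeg])
  rw [sum_degree_mul_irr, if_neg hn1] at e₁
  rw [sum_degree_mul_irr, if_pos rfl] at e₂
  rw [Finset.sum_congr rfl fun θ hθ => by rw [hfix θ (Finset.mem_filter.1 hθ).2]] at e₁
  have h : (Nat.card Q : ℂ) = 2 * (r₂ - r₁) := by linear_combination e₂ - e₁
  haveI : Fact (Nat.Prime 2) := ⟨Nat.prime_two⟩
  exact (Nat.not_even_iff_odd.2 hQ) (even_iff_two_dvd.2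
    (InvariantOrbit.dvd_of_cast_eq (p := 2) (hr₂.sub hr₁) (by rw [h, Nat.cast_ofNat])))

/-- A `2`-element not centralizing a normal subgroup has a power inverting one of its nontrivial
elements. -/
theorem exists_inverting_power (M : Subgroup G) [M.Normal] {a : G} {k : ℕ} (ha : a ^ 2 ^ k = 1)
    (hnc : ∃ m ∈ M, a * m ≠ m * a) :
    ∃ b : G, b ^ 2 ^ k = 1 ∧ ∃ n ∈ M, n ≠ 1 ∧ b * n * b⁻¹ = n⁻¹ := by
  have hex : ∃ j, ∀ m ∈ M, a ^ 2 ^ j * m = m * a ^ 2 ^ j := ⟨k, fun m _ => by simp [ha]⟩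
  classical
  obtain ⟨m₀, hm₀, hne⟩ := hnc
  have hpos : Nat.find hex ≠ 0 := fun h0 => hne (by simpa [h0] using Nat.find_spec hex m₀ hm₀)
  obtain ⟨j, hj⟩ := Nat.exists_eq_succ_of_ne_zero hpos
  obtain ⟨m, hm, hmb⟩ : ∃ m ∈ M, a ^ 2 ^ j * m ≠ m * a ^ 2 ^ j := by
    have := Nat.find_min hex (show j < Nat.find hex by omega)
    push Not at this
    exact this
  set b := a ^ 2 ^ j with hb
  have hb2 : b * b * m = m * (b * b) := by
    have h1 := Nat.find_spec hex m hm
    rw [hj, Nat.succ_eq_add_one, pow_succ, pow_mul, ← hb, sq] at h1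
    exact h1
  refine ⟨b, by rw [hb, ← pow_mul, mul_comm, pow_mul, ha, one_pow], m⁻¹ * (b * m * b⁻¹),
    mul_mem (inv_mem hm) ((inferInstance : M.Normal).conj_mem m hm b), ?_, ?_⟩
  · rw [Ne, inv_mul_eq_one]
    exact fun h => hmb (mul_inv_eq_iff_eq_mul.1 h.symm)
  · calc b * (m⁻¹ * (b * m * b⁻¹)) * b⁻¹ = (b * m * b⁻¹)⁻¹ * (b * b * m * (b * b)⁻¹) := by group
      _ = (b * m * b⁻¹)⁻¹ * m := by rw [hb2, mul_inv_cancel_right]
      _ = (m⁻¹ * (b * m * b⁻¹))⁻¹ := by group

end CfsgLib.Chars17
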