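import Cfsg.Agent.Lib.Chars17.RealDegree
import Cfsg.Agent.Lib.Characters.Ito
import Cfsg.Agent.Lib.Characters.LinearTwist

/-!
# Real characters of degree prime to `p`: normal Sylow subgroups
-/

set_option autoImplicit false

namespace CfsgLib.Chars17.RealDegree

open Cfsg CfsgLib.Characters CfsgLib.BrauerPerm CfsgLib.NormalRes

universe u

/-- The subgroup generated by the elements of `q`-power order. -/
def primeGen (q : ℕ) (G : Type*) [Group G] : Subgroup G :=
  Subgroup.closure {g : G | ∃ k : ℕ, orderOf g = q ^ k}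

/-- Real irreducible characters have degree prime to `p`. -/
def RealPPrime (p : ℕ) (G : Type*) [Group G] : Prop :=
  ∀ χ : Cfsg.IrrCharacter G, (∀ g : G, ((χ : G → ℂ) g).im = 0) →
    ¬ p ∣ Cfsg.charDegree (χ : G → ℂ)

variable {G : Type u} [Group G] [Finite G]

instance primeGen_normal (q : ℕ) : (primeGen q G).Normal :=
  ⟨fun x hx g => by
    have hle : primeGen q G ≤ (primeGen q G).comap (MulAut.conj g).toMonoidHom := by
      refine (Subgroup.closure_le _).2 fun y hy => ?_
      obtain ⟨k, hk⟩ := hy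
      exact Subgroup.subset_closure ⟨k, by
        rw [← hk]; exact orderOf_injective _ (MulAut.conj g).injective y⟩
    exact hle hx⟩

theorem sylow_le_primeGen {q : ℕ} [hq : Fact q.Prime] (S : Sylow q G) :
    (S : Subgroup G) ≤ primeGen q G := fun g hg => by
  obtain ⟨k, hk⟩ := S.2.exists_orderOf_eq_pow ⟨g, hg⟩ |> fun h => h
  exact Subgroup.subset_closure ⟨k, by rw [← hk, Subgroup.orderOf_mk]⟩

theorem not_dvd_index_primeGen (q : ℕ) [Fact q.Prime] : ¬ q ∣ (primeGen q G).index := by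
  obtain ⟨S⟩ : Nonempty (Sylow q G) := inferInstance
  exact fun h => S.not_dvd_index (h.trans (Subgroup.index_dvd_of_le (sylow_le_primeGen S)))

theorem map_primeGen_le {H : Type*} [Group H] [Finite H] (q : ℕ) [hq : Fact q.Prime] (f : G →* H) :
    (primeGen q G).map f ≤ primeGen q H := by
  rw [primeGen, MonoidHom.map_closure, Subgroup.closure_le]
  rintro - ⟨g, ⟨k, hk⟩, rfl⟩
  obtain ⟨j, -, hj⟩ := (Nat.dvd_prime_pow hq.out).1 (hk ▸ orderOf_map_dvd f g)
  exact Subgroup.subset_closure ⟨j, hj⟩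

theorem primeGen_quotient_le (q : ℕ) [hq : Fact q.Prime] (N : Subgroup G) [N.Normal] :
    primeGen q (G ⧸ N) ≤ (primeGen q G).map (QuotientGroup.mk' N) := by
  rw [primeGen, Subgroup.closure_le]
  rintro x ⟨k, hk⟩
  obtain ⟨g, rfl⟩ := QuotientGroup.mk_surjective x
  have hn : orderOf g ≠ 0 := (orderOf_pos g).ne'
  set a := (orderOf g).factorization q
  have hcop : (q ^ a).Coprime (orderOf g / q ^ a) :=
    (Nat.coprime_ordCompl hq.out hn).pow_left a
  obtain ⟨e, he1, he2⟩ := Nat.chineseRemainder hcop 1 0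
  have hka : k ≤ a := by
    refine (hq.out.pow_dvd_iff_le_factorization hn).1 ?_
    rw [← hk]
    exact orderOf_map_dvd (QuotientGroup.mk' N) g
  refine ⟨g ^ e, Subgroup.subset_closure ?_, ?_⟩
  · have h1 : (g ^ e) ^ q ^ a = 1 := by
      rw [← pow_mul, ← orderOf_dvd_iff_pow_eq_one]
      obtain ⟨t, ht⟩ := Nat.modEq_zero_iff_dvd.1 he2
      exact ⟨t, by rw [ht, mul_comm _ t, mul_assoc, mul_comm (orderOf g / q ^ a),
        Nat.ordProj_mul_ordCompl_eq_self, mul_comm]⟩
    obtain ⟨j, -, hj⟩ := (Nat.dvd_prime_pow hq.out).1 (orderOf_dvd_of_pow_eq_one h1)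
    exact ⟨j, hj⟩
  · rw [map_pow, QuotientGroup.mk'_apply]
    conv_rhs => rw [← pow_one (g : G ⧸ N)]
    rw [pow_eq_pow_iff_modEq, hk]
    exact he1.of_dvd (pow_dvd_pow q hka)

theorem realPPrime_quotient {p : ℕ} (h : RealPPrime p G) (N : Subgroup G) [N.Normal] :
    RealPPrime p (G ⧸ N) := fun η hη hd => by
  refine h (infl N η) (fun g => hη _) ?_
  simpa [Cfsg.charDegree, infl_apply] using hd

/-- A real character of a normal subgroup of odd index lies under a real character whose degree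
it divides. -/
theorem realPPrime_sub {p : ℕ} (h : RealPPrime p G) (K : Subgroup G) [K.Normal]
    (hodd : Odd K.index) : RealPPrime p K := by
  classical
  let _ := Fintype.ofFinite G
  let _ := Fintype.ofFinite K
  intro φ hφ hd
  obtain ⟨χ, hχ, hm⟩ := RealOverNormal.exists_real_over K hodd φ hφ
  refine h χ hχ ?_
  obtain ⟨m, hm'⟩ := mult_nat K (irr_isCharacter χ) φ
  have h1 := Clifford.clifford_degree (inferInstance : K.Normal) χ.2 φ.2 hm
  have h2 : classInner (fun n : K => (χ : G → ℂ) n) (φ : K → ℂ) = m := hm'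
  rw [h2, ← cast_irrDegree, ← cast_irrDegree φ] at h1
  have h3 : charDegree (χ : G → ℂ) = m * (Clifford.inertia (inferInstance : K.Normal)
      (φ : K → ℂ)).index * charDegree (φ : K → ℂ) := by exact_mod_cast h1
  rw [h3]
  exact dvd_mul_of_dvd_right hd _

/-- A group generated by `2`-elements whose real characters have degree prime to `p`, with the
subgroup generated by `p`-elements solvable, has normal Sylow `p`-subgroups. -/
theorem normal_sylow_of_twoGen : ∀ (n : ℕ) (G : Type u) [Group G] [Finite G], Nat.card G = n →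
    ∀ (p : ℕ) [Fact p.Prime], primeGen 2 G = ⊤ → Group.IsSolvable (primeGen p G) →
      RealPPrime p G → ∀ P : Sylow p G, (P : Subgroup G).Normal := by
  intro n
  induction n using Nat.strong_induction_on with
  | _ n ih =>
  intro G _ _ hn p hp htwo hsolv hreal P
  classical
  rcases subsingleton_or_nontrivial G with hs | hnt
  · rw [Subsingleton.elim (P : Subgroup G) ⊥]; infer_instance
  obtain ⟨N, hN⟩ := MinNormal.exists_isMinNormal (G := G)
  haveI := hN.1
  haveI : Fact (Nat.Prime 2) := ⟨Nat.prime_two⟩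
  -- the quotient
  have hlt : Nat.card (G ⧸ N) < n := by
    rw [← hn, ← N.card_mul_index, Subgroup.index_eq_card]
    exact lt_mul_of_one_lt_left Nat.card_pos ((Subgroup.one_lt_card_iff_ne_bot N).2 hN.2.1)
  have hPq : ((P.mapSurjective (QuotientGroup.mk'_surjective N) : Sylow p (G ⧸ N)) :
      Subgroup (G ⧸ N)).Normal := by
    refine ih _ hlt (G ⧸ N) rfl p ?_ ?_ (realPPrime_quotient hreal N) _
    · rw [eq_top_iff, ← Subgroup.map_top_of_surjective _ (QuotientGroup.mk'_surjective N), ← htwo]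
      exact map_primeGen_le 2 _
    · haveI := hsolv
      haveI : Group.IsSolvable ((primeGen p G).map (QuotientGroup.mk' N)) :=
        Group.isSolvable_of_surjective ((QuotientGroup.mk' N).subgroupMap_surjective (primeGen p G))
      exact Group.isSolvable_of_isSolvable_injective
        (Subgroup.inclusion_injective (primeGen_quotient_le (G := G) p N))
  set X := (P : Subgroup G) ⊔ N with hX
  haveI hXn : X.Normal := by
    have h1 : X = ((P : Subgroup G).map (QuotientGroup.mk' N)).comap (QuotientGroup.mk' N) := by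
      rw [Subgroup.comap_map_eq, QuotientGroup.ker_mk']
    rw [h1]
    exact hPq.comap _
  -- if `N` centralises `P`
  have hcentral : (N ≤ Subgroup.centralizer ((P : Subgroup G) : Set G)) → ¬ p ∣ Nat.card N →
      (P : Subgroup G).Normal := by
    intro hc hpN
    refine ⟨fun u hu g => ?_⟩
    obtain ⟨v, hv, m, hm, he⟩ := Subgroup.mem_sup_of_normal_right.1
      (hXn.conj_mem u (Subgroup.mem_sup_left hu) g)
    have hcomm : Commute v m := Subgroup.mem_centralizer_iff.1 (hc hm) v hv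
    obtain ⟨i, hi⟩ := P.2 ⟨u, hu⟩
    obtain ⟨j, hj⟩ := P.2 ⟨v, hv⟩
    simp only [Subtype.ext_iff, SubmonoidClass.coe_pow, OneMemClass.coe_one] at hi hj
    have h1 : (v * m) ^ p ^ (i + j) = 1 := by
      rw [he, conj_pow, pow_add, pow_mul, hi, one_pow, mul_one, mul_inv_cancel]
    rw [hcomm.mul_pow, pow_add p i j, mul_comm (p ^ i), pow_mul v, hj, one_pow, one_mul,
      ← orderOf_dvd_iff_pow_eq_one, ← pow_add] at h1
    have hm1 : m = 1 := orderOf_eq_one_iff.1 (Nat.eq_one_of_dvd_coprimes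
      ((hp.out.coprime_iff_not_dvd.2 hpN).pow_left _) h1 (N.orderOf_dvd_natCard hm))
    rw [← he, hm1, mul_one]
    exact hv
  set L := primeGen p G with hL
  have hPL : (P : Subgroup G) ≤ L := sylow_le_primeGen P
  rcases hN.inf_eq_bot_or_le (K := L) inferInstance with hNL | hNL
  · refine hcentral ?_ fun hd => ?_
    · rw [← Subgroup.commutator_eq_bot_iff_le_centralizer, eq_bot_iff]
      calc ⁅N, (P : Subgroup G)⁆ ≤ ⁅N, L⁆ := Subgroup.commutator_mono le_rfl hPL
        _ ≤ N ⊓ L := Subgroup.commutator_le_inf _ _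
        _ = ⊥ := hNL
    · obtain ⟨⟨x, hx⟩, hxo⟩ := exists_prime_orderOf_dvd_card' p hd
      rw [Subgroup.orderOf_mk] at hxo
      have : x = 1 := Subgroup.mem_bot.1 (hNL ▸ (⟨hx, Subgroup.subset_closure ⟨1, by
        rw [hxo, pow_one]⟩⟩ : x ∈ N ⊓ L))
      rw [this, orderOf_one] at hxo
      exact hp.out.ne_one hxo.symm
  -- `N` is elementary abelian
  haveI := hsolv
  haveI : Group.IsSolvable N := Group.isSolvable_of_isSolvable_injective (Subgroup.inclusion_injective hNL)
  have hab : IsMulCommutative N := by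
    have hle : ⁅N, N⁆ ≤ N := Subgroup.commutator_le_left _ _
    rcases hN.2.2 ⁅N, N⁆ inferInstance hle with h0 | h0
    · refine ⟨⟨fun a b => Subtype.ext ?_⟩⟩
      exact (Subgroup.mem_centralizer_iff.1
        ((Subgroup.commutator_eq_bot_iff_le_centralizer.1 h0) a.2) b b.2).symm
    · exfalso
      haveI : Nontrivial N := (Subgroup.nontrivial_iff_ne_bot N).2 hN.2.1
      refine (IsSolvable.commutator_lt_top_of_nontrivial N).ne ?_
      apply Subgroup.map_injective N.subtype_injective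
      rw [Subgroup.map_subtype_commutator, h0, ← MonoidHom.range_eq_map, Subgroup.range_subtype]
  obtain ⟨q, hq, hel, hqN, r, hr0, hqr⟩ := hN.exists_prime_elementaryAbelian hab
  haveI := Fact.mk hq
  by_cases hqp : q = p
  · subst hqp
    obtain ⟨P', hP'⟩ := hqN.exists_le_sylow
    obtain ⟨g, hg⟩ := MulAction.exists_smul_eq G P' P
    have hNP : N ≤ (P : Subgroup G) := fun x hx => by
      rw [← hg, Sylow.coe_subgroup_smul, Subgroup.mem_pointwise_smul_iff_inv_smul_mem]
      exact hP' (by simpa using hN.1.conj_mem x hx g⁻¹)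
    have : X = P := sup_eq_left.2 hNP
    rwa [this] at hXn
  have hpN : ¬ p ∣ Nat.card N := fun hd =>
    hqp (((Nat.prime_dvd_prime_iff_eq hp.out hq).1 (hp.out.dvd_of_dvd_pow (hqr ▸ hd))).symm)
  have hNP : N ⊓ (P : Subgroup G) = ⊥ := by
    refine disjoint_iff.1 (Subgroup.disjoint_of_coprime_natCard ?_)
    rw [Sylow.card_eq_multiplicity]
    exact ((hp.out.coprime_iff_not_dvd.2 hpN).pow_left _).symm
  set H := Subgroup.normalizer ((P : Subgroup G) : Set G) with hH
  have hHN : H ⊔ N = ⊤ := by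
    have h1 := Sylow.normalizer_sup_eq_top' (N := X) P le_sup_left
    rw [eq_top_iff, ← h1, sup_le_iff]
    exact ⟨le_sup_left, sup_le (Subgroup.le_normalizer.trans le_sup_left) le_sup_right⟩
  have hcomm : ∀ a ∈ N, ∀ b ∈ N, a * b = b * a := fun a ha b hb =>
    congrArg Subtype.val (hab.is_comm.comm ⟨a, ha⟩ ⟨b, hb⟩)
  have hNH : ∀ x ∈ N, x ∈ H → x ∈ Subgroup.centralizer ((P : Subgroup G) : Set G) := by
    intro x hx hxH
    rw [Subgroup.mem_centralizer_iff]
    intro v hv
    have h1 : x * v * x⁻¹ * v⁻¹ = 1 := Subgroup.mem_bot.1 (hNP ▸ (⟨by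
      rw [show x * v * x⁻¹ * v⁻¹ = x * (v * x⁻¹ * v⁻¹) by group]
      exact mul_mem hx (hN.1.conj_mem _ (inv_mem hx) v),
      (P : Subgroup G).mul_mem ((Subgroup.mem_normalizer_iff.1 hxH v).1 hv)
        ((P : Subgroup G).inv_mem hv)⟩ :
        x * v * x⁻¹ * v⁻¹ ∈ N ⊓ (P : Subgroup G)))
    rw [mul_inv_eq_one, mul_inv_eq_iff_eq_mul] at h1
    exact h1.symm
  set C := N ⊓ Subgroup.centralizer ((P : Subgroup G) : Set G) with hC
  haveI hCn : C.Normal := by
    rw [← Subgroup.normalizer_eq_top_iff, eq_top_iff, ← hHN, sup_le_iff]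
    constructor
    · intro g hg
      rw [Subgroup.mem_normalizer_iff]
      have key : ∀ g ∈ H, ∀ x ∈ C, g * x * g⁻¹ ∈ C := by
        intro g hg x hx
        refine ⟨hN.1.conj_mem x hx.1 g, Subgroup.mem_centralizer_iff.2 fun v hv => ?_⟩
        have h1 := Subgroup.mem_centralizer_iff.1 hx.2 (g⁻¹ * v * g) (by
          have h2 := (Subgroup.mem_normalizer_iff.1 (inv_mem hg) v).1 hv
          rw [inv_inv] at h2
          exact h2)
        calc v * (g * x * g⁻¹) = g * (g⁻¹ * v * g * x) * g⁻¹ := by group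
          _ = g * x * g⁻¹ * v := by rw [h1]; group
      intro x
      refine ⟨key g hg x, fun hx => ?_⟩
      have := key _ (inv_mem hg) _ hx
      simpa [mul_assoc] using this
    · intro g hg
      rw [Subgroup.mem_normalizer_iff]
      intro x
      constructor
      · intro hx
        rwa [hcomm g hg x hx.1, mul_inv_cancel_right]
      · intro hx
        have hxN : x ∈ N := by simpa [mul_assoc] using hN.1.conj_mem _ hx.1 g⁻¹
        rwa [hcomm g hg x hxN, mul_inv_cancel_right] at hx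
  rcases hN.2.2 C hCn inf_le_left with hC0 | hC0
  swap
  · exact hcentral (hC0 ▸ inf_le_right) hpN
  -- the complement
  exfalso
  have hNH' : N ⊓ H = ⊥ := le_bot_iff.1 fun x hx => hC0 ▸ (⟨hx.1, hNH x hx.1 hx.2⟩ : x ∈ C)
  let _ := Fintype.ofFinite G
  let _ := Fintype.ofFinite N
  let _ := Fintype.ofFinite H
  obtain ⟨m, hm, hmult⟩ : ∃ m : ℕ, Nat.card N * Nat.card H * m = Nat.card G ∧
      ∀ θ : IrrCharacter N, mult N (indFun H fun _ => (1 : ℂ)) θ = (m : ℂ) * (θ : N → ℂ) 1 := by
    obtain ⟨m, hm, -⟩ := mult_indFun_one N H hNH' (principalIrr N)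
    refine ⟨m, hm, fun θ => ?_⟩
    obtain ⟨m', hm', h⟩ := mult_indFun_one N H hNH' θ
    rw [h, Nat.eq_of_mul_eq_mul_left (Nat.mul_pos Nat.card_pos Nat.card_pos) (hm'.trans hm.symm)]
  have hm1 : m = 1 := by
    have hcompl : Subgroup.IsComplement' N H :=
      Subgroup.isComplement'_of_disjoint_and_mul_eq_univ (disjoint_iff.2 hNH') (by
        rw [← Subgroup.normal_mul, sup_comm, hHN, Subgroup.coe_top])
    have := hcompl.card_mul_card
    rw [← hm] at this
    exact (Nat.eq_of_mul_eq_mul_left (Nat.mul_pos Nat.card_pos Nat.card_pos)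
      (by rw [mul_one]; exact this)).symm
  haveI := hab
  obtain ⟨θ, a, ha, hθ⟩ : ∃ (θ : IrrCharacter N) (a : G),
      twistIrr (MulAut.conjNormal a) θ = conjIrr θ ∧ ∃ x : N, (θ : N → ℂ) x ≠ (θ : N → ℂ) 1 := by
    obtain ⟨⟨x₀, hx₀⟩, hx₀1⟩ := (Subgroup.ne_bot_iff_exists_ne_one).1 hN.2.1
    by_cases hq2 : q = 2
    · obtain ⟨θ, hθ⟩ : ∃ θ : IrrCharacter N, (θ : N → ℂ) ⟨x₀, hx₀⟩ ≠ (θ : N → ℂ) 1 := by
        by_contra! hcon
        exact hx₀1 (eq_one_of_forall_irr hcon)
      refine ⟨θ, 1, ?_, _, hθ⟩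
      rw [twist_of_mem N N.one_mem]
      refine Subtype.ext (funext fun k => ?_)
      have hk : k⁻¹ = k := inv_eq_of_mul_eq_one_right (Subtype.ext (by
        rw [← sq]; simpa [hq2] using hel.2 k k.2))
      rw [conjIrr_apply, ← irr_apply_inv, hk]
    · obtain ⟨a, ⟨k, hk⟩, hmv⟩ : ∃ a : G, (∃ k, orderOf a = 2 ^ k) ∧ ∃ x ∈ N, a * x ≠ x * a := by
        by_contra! hcon
        have hc : N ≤ Subgroup.centralizer ((P : Subgroup G) : Set G) := by
          intro x hx
          refine Subgroup.mem_centralizer_iff.2 fun v _ => ?_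
          have h1 : primeGen 2 G ≤ Subgroup.centralizer (N : Set G) :=
            (Subgroup.closure_le _).2 fun a ha => Subgroup.mem_centralizer_iff.2 fun y hy =>
              (hcon a ha y hy).symm
          exact (Subgroup.mem_centralizer_iff.1 (h1 (htwo ▸ Subgroup.mem_top v)) x hx).symm
        exact hN.2.1 ((inf_eq_left.2 hc).symm.trans hC0)
      obtain ⟨b, hb, x, hx, hx1, hbx⟩ := exists_inverting_power N
        (by rw [← hk, pow_orderOf_eq_one]) hmv
      have hodd : Odd (Nat.card N) := hqr ▸ (hq.odd_of_ne_two hq2).pow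
      obtain ⟨θ, hθ1, hθ2⟩ := exists_inverted_char N hodd b hb ⟨x, hx⟩ hbx
        (fun h => hx1 (congrArg Subtype.val h))
      exact ⟨θ, b, hθ1, _, hθ2⟩
  obtain ⟨χ, hχ, hχθ⟩ := exists_real_constituent N (isCharacter_indFun_one H) (conj_indFun_one H)
    θ a ha (m := 1) (by rw [hmult, hm1, CfsgLib.CharIto.degree_one_of_comm θ.2]; simp) odd_one
  obtain ⟨η, hη, hηfix⟩ := InvariantOrbit.exists_fixed_constituent (N := N) P.2 χ
    (d := charDegree (χ : G → ℂ)) (cast_irrDegree χ).symm (hreal χ hχ)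
  have hη1 := InvariantOrbit.eq_one_of_fixed P.2 hC0 η hηfix
  obtain ⟨g, hg⟩ := exists_conj_of_constituents N χ hη hχθ
  obtain ⟨x, hx⟩ := hθ
  apply hx
  rw [← hg, twistIrr_apply, twistIrr_apply, hη1]

/-- The version for the subgroup generated by the `2`-elements. -/
theorem normal_sylow {p : ℕ} [Fact p.Prime] (hsolv : Group.IsSolvable (primeGen p G))
    (hreal : RealPPrime p G) (Q : Sylow p (primeGen 2 G)) :
    (Q : Subgroup (primeGen 2 G)).Normal := by
  haveI : Fact (Nat.Prime 2) := ⟨Nat.prime_two⟩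
  refine normal_sylow_of_twoGen _ (primeGen 2 G) rfl p ?_ ?_
    (realPPrime_sub hreal _ (Nat.not_even_iff_odd.1 fun h =>
      not_dvd_index_primeGen (G := G) 2 (even_iff_two_dvd.1 h))) Q
  · apply Subgroup.map_injective (primeGen 2 G).subtype_injective
    rw [← MonoidHom.range_eq_map, Subgroup.range_subtype]
    refine le_antisymm (Subgroup.map_subtype_le _) ((Subgroup.closure_le _).2 fun g hg => ?_)
    obtain ⟨k, hk⟩ := hg
    have hgK : g ∈ primeGen 2 G := Subgroup.subset_closure ⟨k, hk⟩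
    exact ⟨⟨g, hgK⟩, Subgroup.subset_closure ⟨k, (Subgroup.orderOf_mk g hgK).trans hk⟩, rfl⟩
  · haveI := hsolv
    let f : primeGen p (primeGen 2 G) →* primeGen p G :=
      ((primeGen 2 G).subtype.comp (primeGen p (primeGen 2 G)).subtype).codRestrict _
        fun x => map_primeGen_le p (primeGen 2 G).subtype ⟨x, x.2, rfl⟩
    refine Group.isSolvable_of_isSolvable_injective (f := f) fun a b h => Subtype.ext (Subtype.ext ?_)
    exact congrArg (fun x : primeGen p G => (x : G)) h

end CfsgLib.Chars17.RealDegree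

namespace CfsgLib.Chars17.RealDegree

open Cfsg CfsgLib.Characters CfsgLib.BrauerPerm CfsgLib.NormalRes

variable {G : Type*} [Group G] [Finite G]

/-- A character of degree prime to `p` has every normal subgroup inside the derived group of a
Sylow `p`-subgroup in its kernel. -/
theorem le_irrKer_of_le_derived {p : ℕ} [hp : Fact p.Prime] (χ : IrrCharacter G)
    (hd : ¬ p ∣ charDegree (χ : G → ℂ)) (P : Sylow p G) (M : Subgroup G) [M.Normal]
    (hMP : M ≤ ⁅(P : Subgroup G), (P : Subgroup G)⁆) : M ≤ irrKer χ := by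
  classical
  let _ := Fintype.ofFinite G
  let _ := Fintype.ofFinite (P : Subgroup G)
  let _ := Fintype.ofFinite M
  obtain ⟨c, hc, hdec⟩ := Clifford.exists_mult (isCharacter_res (P : Subgroup G) (irr_isCharacter χ))
  -- a linear constituent
  obtain ⟨lam, hlam, hlam1⟩ : ∃ lam : IrrCharacter (P : Subgroup G),
      c lam ≠ 0 ∧ charDegree (lam : ↥(P : Subgroup G) → ℂ) = 1 := by
    by_contra! hcon
    have h1 := congrFun hdec 1
    simp only [Finset.sum_apply, Pi.smul_apply, smul_eq_mul, OneMemClass.coe_one,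
      ← cast_irrDegree] at h1
    norm_cast at h1
    refine hd ?_
    rw [h1]
    refine Finset.dvd_sum fun ψ _ => ?_
    by_cases h0 : c ψ = 0
    · simp [h0]
    · refine dvd_mul_of_dvd_right ?_ _
      have h2 := irrDegree_dvd_card ψ
      rw [Sylow.card_eq_multiplicity] at h2
      obtain ⟨j, -, hj⟩ := (Nat.dvd_prime_pow hp.out).1 h2
      rcases Nat.eq_zero_or_pos j with rfl | hj0
      · exact absurd (by simpa using hj) (hcon ψ h0)
      · exact hj ▸ dvd_pow_self p hj0.ne'
  obtain ⟨f, hf⟩ := LinearTwist.exists_hom_of_charDegree_one (irr_isCharacter lam) hlam1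
  have hMPsub : M ≤ (P : Subgroup G) :=
    hMP.trans ((Subgroup.commutator_le_self (P : Subgroup G)))
  have hkill : ∀ x : M, (lam : ↥(P : Subgroup G) → ℂ) ⟨x, hMPsub x.2⟩ = 1 := by
    intro x
    have hle : ⁅(P : Subgroup G), (P : Subgroup G)⁆ ≤ f.ker.map (P : Subgroup G).subtype := by
      rw [Subgroup.commutator_le]
      intro a ha b hb
      refine ⟨(⟨a, ha⟩ : ↥(P : Subgroup G)) * ⟨b, hb⟩ * ⟨a, ha⟩⁻¹ * ⟨b, hb⟩⁻¹, ?_, rfl⟩
      rw [SetLike.mem_coe, MonoidHom.mem_ker, map_mul, map_mul, map_mul, map_inv, map_inv,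
        mul_right_comm (f _) (f _) (f _)⁻¹, mul_inv_cancel, one_mul, mul_inv_cancel]
    obtain ⟨y, hy, hyx⟩ := hle (hMP x.2)
    have : y = ⟨x, hMPsub x.2⟩ := Subtype.ext hyx
    rw [hf, ← this]
    dsimp only
    rw [MonoidHom.mem_ker.1 hy, Units.val_one]
  by_contra hker
  have hsum := sum_coset_eq_zero (χ := χ) (N := M) hker 1
  simp only [one_mul] at hsum
  have hval : ∀ x : M, (χ : G → ℂ) x =
      ∑ ψ : IrrCharacter (P : Subgroup G), (c ψ : ℂ) * (ψ : ↥(P : Subgroup G) → ℂ) ⟨x, hMPsub x.2⟩ := by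
    intro x
    have := congrFun hdec ⟨x, hMPsub x.2⟩
    simpa [Finset.sum_apply] using this
  simp only [hval] at hsum
  rw [Finset.sum_comm] at hsum
  simp only [← Finset.mul_sum] at hsum
  have hnat : ∀ ψ : IrrCharacter (P : Subgroup G), ∃ k : ℕ,
      ∑ x : M, (ψ : ↥(P : Subgroup G) → ℂ) ⟨x, hMPsub x.2⟩ = (Nat.card M : ℂ) * k := by
    intro ψ
    have hres : IsCharacter M (fun x : M => (ψ : ↥(P : Subgroup G) → ℂ) ⟨x, hMPsub x.2⟩) := by
      obtain ⟨n, ρ, hρ⟩ := irr_isCharacter ψ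
      exact ⟨n, ρ.comp (Subgroup.inclusion hMPsub), by rw [← hρ]; rfl⟩
    obtain ⟨k, hk⟩ := classInner_char_nat hres (isCharacter_one (G := M))
    refine ⟨k, ?_⟩
    rw [classInner] at hk
    simp only [Pi.one_apply, map_one, mul_one] at hk
    exact (inv_mul_eq_iff_eq_mul₀ (Nat.cast_ne_zero.2 Nat.card_pos.ne')).1 hk
  choose k hk using hnat
  simp only [hk] at hsum
  have hkl : k lam = 1 := by
    have h1 := hk lam
    simp only [hkill, Finset.sum_const, Finset.card_univ, nsmul_eq_mul, mul_one,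
      ← Nat.card_eq_fintype_card] at h1
    exact_mod_cast (mul_eq_left₀ (Nat.cast_ne_zero.2 (Nat.card_pos (α := M)).ne')).1 h1.symm
  have h2 : ∑ ψ : IrrCharacter (P : Subgroup G), c ψ * (Nat.card M * k ψ) = 0 := by
    exact_mod_cast hsum
  have h3 := Finset.sum_eq_zero_iff.1 h2 lam (Finset.mem_univ _)
  rw [hkl, mul_one, mul_eq_zero] at h3
  exact h3.elim hlam Nat.card_pos.ne'

/-- `K` centralizes normal subgroups of `G` inside `K ∩ P'`. -/
theorem le_centralizer_of_le_derived {p : ℕ} [hp : Fact p.Prime] (hp2 : p ≠ 2)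
    (hsolv : Group.IsSolvable (primeGen p G)) (hreal : RealPPrime p G) (P : Sylow p G)
    (M : Subgroup G) [M.Normal] (hMK : M ≤ primeGen 2 G)
    (hMP : M ≤ ⁅(P : Subgroup G), (P : Subgroup G)⁆) :
    primeGen 2 G ≤ Subgroup.centralizer (M : Set G) := by
  classical
  refine (Subgroup.closure_le _).2 fun a ha => ?_
  obtain ⟨k, hk⟩ := ha
  have haK : a ∈ primeGen 2 G := Subgroup.subset_closure ⟨k, hk⟩
  rw [SetLike.mem_coe, Subgroup.mem_centralizer_iff]
  by_contra! hne
  obtain ⟨m₀, hm₀, hne⟩ := hne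
  let K := primeGen 2 G
  let MK : Subgroup K := M.subgroupOf K
  let _ := Fintype.ofFinite G
  let _ := Fintype.ofFinite K
  obtain ⟨b, hb, n, hn, hn1, hbn⟩ := exists_inverting_power MK
    (a := (⟨a, haK⟩ : K)) (k := k) (Subtype.ext (by simp [← hk, pow_orderOf_eq_one]))
    ⟨⟨m₀, hMK hm₀⟩, hm₀, fun h => hne (congrArg Subtype.val h).symm⟩
  obtain ⟨Q⟩ : Nonempty (Sylow p K) := inferInstance
  haveI hQn : (Q : Subgroup K).Normal := normal_sylow hsolv hreal Q
  let _ := Fintype.ofFinite (Q : Subgroup K)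
  have hMKp : IsPGroup p MK := by
    have hMp : IsPGroup p M := P.2.to_le (hMP.trans (Subgroup.commutator_le_self (P : Subgroup G)))
    exact hMp.of_equiv (Subgroup.subgroupOfEquivOfLe hMK).symm
  have hMQ : MK ≤ (Q : Subgroup K) := fun x hx => by
    obtain ⟨Q', hQ'⟩ := hMKp.exists_le_sylow
    obtain ⟨g, hg⟩ := MulAction.exists_smul_eq K Q' Q
    rw [← hg, Sylow.coe_subgroup_smul, Subgroup.mem_pointwise_smul_iff_inv_smul_mem]
    exact hQ' (by simpa using (inferInstance : MK.Normal).conj_mem x hx g⁻¹)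
  have hQodd : Odd (Nat.card (Q : Subgroup K)) := by
    rw [Sylow.card_eq_multiplicity]
    exact (hp.out.odd_of_ne_two hp2).pow
  obtain ⟨θ, hθ, hθn⟩ := exists_inverted_char (Q : Subgroup K) hQodd b hb ⟨n, hMQ hn⟩ hbn
    (fun h => hn1 (congrArg Subtype.val h))
  haveI : Fact (Nat.Prime 2) := ⟨Nat.prime_two⟩
  obtain ⟨S⟩ : Nonempty (Sylow 2 K) := inferInstance
  let _ := Fintype.ofFinite (S : Subgroup K)
  have hQS : (Q : Subgroup K) ⊓ (S : Subgroup K) = ⊥ :=
    disjoint_iff.1 (IsPGroup.disjoint_of_ne p 2 hp2 _ _ Q.2 S.2)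
  obtain ⟨m, hm, hmult⟩ := mult_indFun_one (Q : Subgroup K) (S : Subgroup K) hQS θ
  have hmodd : Odd m := by
    rw [← Nat.not_even_iff_odd, even_iff_two_dvd]
    rintro ⟨t, rfl⟩
    refine (Nat.pow_succ_factorization_not_dvd (n := Nat.card K) Nat.card_pos.ne' Nat.prime_two) ?_
    rw [pow_succ, ← Sylow.card_eq_multiplicity (p := 2) S]
    exact ⟨Nat.card (Q : Subgroup K) * t, by rw [← hm]; ring⟩
  obtain ⟨χ, hχ, hχθ⟩ := exists_real_constituent (Q : Subgroup K)
    (isCharacter_indFun_one (S : Subgroup K)) (conj_indFun_one (S : Subgroup K)) θ b hθ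
    (m := m * charDegree (θ : ↥(Q : Subgroup K) → ℂ))
    (by rw [hmult, Nat.cast_mul, cast_irrDegree])
    (hmodd.mul (hQodd.of_dvd_nat (irrDegree_dvd_card θ)))
  obtain ⟨ψ, hψ, hψχ⟩ := RealOverNormal.exists_real_over K
    (Nat.not_even_iff_odd.1 fun h => not_dvd_index_primeGen (G := G) 2 (even_iff_two_dvd.1 h)) χ hχ
  have hker := le_irrKer_of_le_derived ψ (hreal ψ hψ) P M hMP hn
  apply hθn
  refine CfsgLib.CharMonomial.constituent_eq_degree
    (isCharacter_res (Q : Subgroup K) (irr_isCharacter χ)) hχθ ?_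
  exact CfsgLib.CharMonomial.constituent_eq_degree
    (isCharacter_res K (irr_isCharacter ψ)) hψχ hker

end CfsgLib.Chars17.RealDegree
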