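import Cfsg.Agent.Lib.Chars17.Constituents
import Cfsg.Agent.Lib.Chars17.IrrBasic
import Cfsg.Agent.Lib.Chars17.TwoClassSylow
import Cfsg.Agent.Classical.SLBasic
import Cfsg.Prelude.Def_DegreeGraph
import Cfsg.Agent.Lib.RegUnip.SLn
import Mathlib.Algebra.CharP.Two

/-!
# The character degrees of SL(2, q) for even q
-/

namespace CfsgLib.Chars17.SLTwoEven

open Cfsg Matrix
open CfsgLib.Characters
open scoped ComplexConjugate

variable {F : Type*} [Field F]

/-- The special linear group of degree two. -/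
abbrev SL (F : Type*) [Field F] := Matrix.SpecialLinearGroup (Fin 2) F

/-- The upper unitriangular element. -/
def uni (x : F) : SL F := ⟨!![1, x; 0, 1], by simp [Matrix.det_fin_two]⟩

@[simp] theorem uni_val (x : F) : (uni x : Matrix (Fin 2) (Fin 2) F) = !![1, x; 0, 1] := rfl

/-- The diagonal element. -/
def dia (s : Fˣ) : SL F := ⟨!![(s : F), 0; 0, ((s⁻¹ : Fˣ) : F)], by simp [Matrix.det_fin_two]⟩

@[simp] theorem dia_val (s : Fˣ) :
    (dia s : Matrix (Fin 2) (Fin 2) F) = !![(s : F), 0; 0, ((s⁻¹ : Fˣ) : F)] := rfl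

/-- The antidiagonal element in characteristic two. -/
def swp [CharP F 2] : SL F := ⟨!![0, 1; 1, 0], by simp [Matrix.det_fin_two, CharTwo.neg_eq]⟩

@[simp] theorem swp_val [CharP F 2] :
    ((swp : SL F) : Matrix (Fin 2) (Fin 2) F) = !![0, 1; 1, 0] := rfl

/-- The companion element. -/
def com (t : F) : SL F := ⟨!![0, -1; 1, t], by simp [Matrix.det_fin_two]⟩

@[simp] theorem com_val (t : F) : (com t : Matrix (Fin 2) (Fin 2) F) = !![0, -1; 1, t] := rfl

/-- The upper unitriangular elements, as a homomorphism. -/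
def uniHom (F : Type*) [Field F] : Multiplicative F →* SL F where
  toFun x := uni x.toAdd
  map_one' := by
    apply Subtype.ext
    ext i j
    fin_cases i <;> fin_cases j <;> simp
  map_mul' x y := by
    apply Subtype.ext
    ext i j
    fin_cases i <;> fin_cases j <;> simp [Matrix.mul_apply, Fin.sum_univ_two, add_comm]

@[simp] theorem uniHom_apply (x : Multiplicative F) : uniHom F x = uni x.toAdd := rfl

theorem uniHom_injective : Function.Injective (uniHom F) := by
  intro x y h
  have h2 := congrArg (fun g : SL F => g.1 0 1) h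
  simpa using h2

/-- The upper triangular subgroup. -/
def borel (F : Type*) [Field F] : Subgroup (SL F) where
  carrier := {g | g.1 1 0 = 0}
  one_mem' := by simp
  mul_mem' {a b} (ha : a.1 1 0 = 0) (hb : b.1 1 0 = 0) := by
    simp [Matrix.mul_apply, Fin.sum_univ_two, ha, hb]
  inv_mem' {a} (ha : a.1 1 0 = 0) := by
    simp [Matrix.SpecialLinearGroup.coe_inv, Matrix.adjugate_fin_two, ha]

theorem mem_borel {g : SL F} : g ∈ borel F ↔ g.1 1 0 = 0 := Iff.rfl

theorem diag_mul_eq (g : borel F) : (g : SL F).1 0 0 * (g : SL F).1 1 1 = 1 := by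
  have h := (g : SL F).2
  rw [Matrix.det_fin_two, mem_borel.1 g.2, mul_zero, sub_zero] at h
  exact h

/-- The diagonal entry of an upper triangular element. -/
def diagHom (F : Type*) [Field F] : borel F →* Fˣ where
  toFun g := Units.mkOfMulEqOne _ _ (diag_mul_eq g)
  map_one' := Units.ext (by simp)
  map_mul' a b := Units.ext (by
    simp [Matrix.mul_apply, Fin.sum_univ_two, mem_borel.1 b.2])

theorem diagHom_val (g : borel F) : ((diagHom F g : Fˣ) : F) = (g : SL F).1 0 0 := rfl

theorem mem_ker_diagHom {g : borel F} :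
    g ∈ (diagHom F).ker ↔ (g : SL F).1 0 0 = 1 := by
  rw [MonoidHom.mem_ker, Units.ext_iff, diagHom_val, Units.val_one]

theorem eq_uni_of_mem_ker {g : borel F} (h : g ∈ (diagHom F).ker) :
    (g : SL F) = uni ((g : SL F).1 0 1) := by
  have h0 := mem_ker_diagHom.1 h
  have h1 := diag_mul_eq g
  rw [h0, one_mul] at h1
  apply Subtype.ext
  ext i j
  fin_cases i <;> fin_cases j <;> simp [h0, h1, mem_borel.1 g.2]

/-- The kernel of the diagonal map is the additive group. -/
def kerEquiv (F : Type*) [Field F] : (diagHom F).ker ≃ F where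
  toFun g := ((g : borel F) : SL F).1 0 1
  invFun x := ⟨⟨uni x, by simp [mem_borel]⟩, mem_ker_diagHom.2 (by simp)⟩
  left_inv g := Subtype.ext (Subtype.ext (eq_uni_of_mem_ker g.2).symm)
  right_inv x := by simp

variable [Fintype F]

theorem card_borel : Nat.card (borel F) = Fintype.card F * (Fintype.card F - 1) := by
  classical
  have hs : Function.Surjective (diagHom F) := fun s =>
    ⟨⟨dia s, by simp [mem_borel]⟩,
      Units.ext (by simp [diagHom_val])⟩
  rw [← Subgroup.card_mul_index (diagHom F).ker, Subgroup.index_ker,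
    MonoidHom.range_eq_top.2 hs, Subgroup.card_top, Nat.card_congr (kerEquiv F),
    Nat.card_eq_fintype_card, Nat.card_eq_fintype_card, Fintype.card_units]

theorem card_sl :
    Nat.card (Matrix.SpecialLinearGroup (Fin 2) F) =
      (Fintype.card F + 1) * (Fintype.card F * (Fintype.card F - 1)) := by
  have h := Cfsg.Agent.Classical.card_sl_mul (F := F) 2 (by norm_num)
  obtain ⟨b, hb⟩ : ∃ b, Fintype.card F = b + 2 :=
    ⟨Fintype.card F - 2, by have := Fintype.one_lt_card (α := F); omega⟩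
  rw [hb] at h ⊢
  rw [Fin.prod_univ_two] at h
  simp only [Fin.val_zero, Fin.val_one, pow_zero, pow_one, show b + 2 - 1 = b + 1 from rfl] at h ⊢
  have e1 : (b + 2) ^ 2 - 1 = (b + 1) * (b + 3) := by
    rw [Nat.sub_eq_iff_eq_add (Nat.one_le_pow _ _ (by omega))]; ring
  have e2 : (b + 2) ^ 2 - (b + 2) = (b + 2) * (b + 1) := by
    rw [Nat.sub_eq_iff_eq_add (Nat.le_self_pow two_ne_zero _)]; ring
  rw [e1, e2] at h
  apply Nat.eq_of_mul_eq_mul_left (Nat.succ_pos b)
  show (b + 1) * _ = (b + 1) * _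
  rw [h]; ring

theorem index_borel : (borel F).index = Fintype.card F + 1 := by
  have h : Nat.card (borel F) * (borel F).index =
      (Fintype.card F + 1) * (Fintype.card F * (Fintype.card F - 1)) :=
    (Subgroup.card_mul_index (borel F)).trans card_sl
  rw [card_borel, mul_comm (Fintype.card F + 1)] at h
  refine Nat.eq_of_mul_eq_mul_left ?_ h
  exact Nat.mul_pos Fintype.card_pos (Nat.sub_pos_of_lt Fintype.one_lt_card)

theorem card_succ_le_conjClasses [Nonempty F] :
    Fintype.card F + 1 ≤ Nat.card (ConjClasses (SL F)) := by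
  classical
  let w : Option F → ConjClasses (SL F) := fun o => o.elim (ConjClasses.mk 1) fun t =>
    ConjClasses.mk (com t)
  have htr : ∀ {A B : SL F}, IsConj A B → A.1.trace = B.1.trace := by
    intro A B h
    obtain ⟨c, rfl⟩ := isConj_iff.1 h
    have hd := c.2
    rw [Matrix.det_fin_two] at hd
    simp [Matrix.trace_fin_two, Matrix.SpecialLinearGroup.coe_inv, Matrix.adjugate_fin_two,
      Matrix.mul_apply, Fin.sum_univ_two]
    linear_combination -((A.1 0 0 + A.1 1 1) * hd)
  have hne : ∀ t : F, ConjClasses.mk (1 : SL F) ≠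
      ConjClasses.mk (com t) := by
    intro t h
    rw [ConjClasses.mk_eq_mk_iff_isConj, isConj_one_right] at h
    have := congrArg (fun g : SL F => g.1 1 0) h
    simp at this
  have hw : Function.Injective w := by
    rintro (_ | s) (_ | t) h
    · rfl
    · exact absurd h (hne t)
    · exact absurd h.symm (hne s)
    · have h2 := htr (ConjClasses.mk_eq_mk_iff_isConj.1 h)
      simp [Matrix.trace_fin_two] at h2
      rw [h2]
  have := Nat.card_le_card_of_injective w hw
  simpa [Nat.card_eq_fintype_card] using this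

variable [CharP F 2]

theorem centralizer_uni_one :
    Subgroup.centralizer ({uni (1 : F)} : Set (SL F)) = (uniHom F).range := by
  ext g
  rw [Subgroup.mem_centralizer_iff]
  constructor
  · intro h
    have h1 := congrArg Subtype.val (h _ rfl)
    have e00 := congrFun (congrFun h1 0) 0
    have e01 := congrFun (congrFun h1 0) 1
    simp [Matrix.mul_apply, Fin.sum_univ_two] at e00 e01
    have hd := g.2
    rw [Matrix.det_fin_two, e00] at hd
    have h11 : g.1 0 0 = g.1 1 1 := by linear_combination -e01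
    rw [mul_zero, sub_zero, ← h11] at hd
    have h00 : g.1 0 0 = 1 := by
      have h2 : (g.1 0 0 - 1) ^ 2 = 0 := by
        linear_combination hd + (1 - g.1 0 0) * (CharTwo.two_eq_zero (R := F))
      exact sub_eq_zero.1 (pow_eq_zero_iff two_ne_zero |>.1 h2)
    refine ⟨Multiplicative.ofAdd (g.1 0 1), Subtype.ext (Matrix.ext fun i j => ?_)⟩
    fin_cases i <;> fin_cases j <;> simp [e00, h00, ← h11]
  · rintro ⟨x, rfl⟩ y rfl
    exact ((Commute.all (Multiplicative.ofAdd (1 : F)) x).map (uniHom F)).eq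

theorem card_centralizer_uni_one :
    Nat.card (Subgroup.centralizer ({uni (1 : F)} : Set (SL F))) = Fintype.card F := by
  rw [centralizer_uni_one, Nat.card_congr (MonoidHom.ofInjective uniHom_injective).toEquiv.symm,
    Nat.card_eq_fintype_card]
  exact Fintype.card_multiplicative F

theorem isConj_uni {x : F} (hx : x ≠ 0) : IsConj (uni 1) (uni x) := by
  obtain ⟨s, hs⟩ : ∃ s : F, s ^ 2 = x :=
    ⟨_, (frobeniusEquiv F 2).apply_symm_apply x⟩
  have hs0 : s ≠ 0 := fun h => hx (by rw [← hs, h]; simp)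
  refine isConj_iff.2 ⟨dia (Units.mk0 s hs0),
    Subtype.ext (Matrix.ext fun i j => ?_)⟩
  fin_cases i <;> fin_cases j <;>
    simp [Matrix.SpecialLinearGroup.coe_inv, Matrix.adjugate_fin_two, Matrix.mul_apply,
      Fin.sum_univ_two, hs0, ← hs, sq]

theorem irr_uni (χ : IrrCharacter (SL F)) {x : F} (hx : x ≠ 0) :
    (χ : SL F → ℂ) (uni x) = (χ : SL F → ℂ) (uni 1) :=
  (classFunction_eq_of_isConj (irr_isClassFunction χ) (isConj_uni hx)).symm

theorem uni_zero' : uni (0 : F) = 1 := by
  apply Subtype.ext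
  ext i j
  fin_cases i <;> fin_cases j <;> simp

theorem sum_uni (χ : IrrCharacter (SL F)) (w : F → ℂ) (hw : ∑ x, w x = 0) :
    ∑ x, (χ : SL F → ℂ) (uni x) * w x =
      ((χ : SL F → ℂ) 1 - (χ : SL F → ℂ) (uni 1)) * w 0 := by
  classical
  have h : ∀ x, (χ : SL F → ℂ) (uni x) * w x = (χ : SL F → ℂ) (uni 1) * w x +
      if x = 0 then ((χ : SL F → ℂ) 1 - (χ : SL F → ℂ) (uni 1)) * w 0 else 0 := by
    intro x
    by_cases hx : x = 0
    · subst hx; rw [if_pos rfl, uni_zero']; ring
    · rw [if_neg hx, add_zero, irr_uni χ hx]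
  rw [Finset.sum_congr rfl fun x _ => h x, Finset.sum_add_distrib, ← Finset.mul_sum, hw,
    mul_zero, zero_add, Finset.sum_ite_eq' Finset.univ (0 : F), if_pos (Finset.mem_univ _)]

theorem sum_uni_one (χ : IrrCharacter (SL F)) :
    ∑ x : F, (χ : SL F → ℂ) (uni x) =
      (χ : SL F → ℂ) 1 + ((Fintype.card F : ℂ) - 1) * (χ : SL F → ℂ) (uni 1) := by
  classical
  rw [← Finset.add_sum_erase _ _ (Finset.mem_univ (0 : F)), uni_zero',
    Finset.sum_congr rfl fun x hx => irr_uni χ (Finset.ne_of_mem_erase hx), Finset.sum_const,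
    Finset.card_erase_of_mem (Finset.mem_univ _), Finset.card_univ, nsmul_eq_mul,
    Nat.cast_sub Fintype.card_pos, Nat.cast_one]

/-- The restriction to the unitriangular group. -/
theorem exists_ab (χ : IrrCharacter (SL F)) : ∃ a b : ℕ,
    (χ : SL F → ℂ) 1 = a + b * ((Fintype.card F : ℂ) - 1) ∧
      (χ : SL F → ℂ) (uni 1) = a - b := by
  classical
  let A := Multiplicative F
  obtain ⟨n, ρ, hρ⟩ := irr_isCharacter χ
  have hres : IsCharacter A (fun x => (χ : SL F → ℂ) (uniHom F x)) :=
    ⟨n, ρ.comp (uniHom F), by funext x; rw [← hρ]; rfl⟩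
  obtain ⟨a, ha⟩ := classInner_char_nat hres (isCharacter_one (G := A))
  obtain ⟨l, hl⟩ := exists_nontrivial_irr (G := A)
  obtain ⟨b, hb⟩ := classInner_char_nat hres (irr_isCharacter l)
  have hq : (Fintype.card F : ℂ) ≠ 0 := Nat.cast_ne_zero.2 Fintype.card_ne_zero
  have hcard : (Nat.card A : ℂ) = Fintype.card F := by
    rw [Nat.card_eq_fintype_card, Fintype.card_multiplicative]
  have hl0 : ∑ x : A, conj ((l : A → ℂ) x) = 0 := by
    have h := classInner_irr_ne (isIrrCharacter_one (G := A)) l.2 fun h => hl (Subtype.ext h.symm)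
    rw [classInner, mul_eq_zero] at h
    simpa using h.resolve_left (inv_ne_zero (Nat.cast_ne_zero.2 Nat.card_pos.ne'))
  have hl1 : (l : A → ℂ) 1 = 1 := by
    have : IsMulCommutative A := ⟨⟨mul_comm⟩⟩
    have h := irrDegree_le_index_of_commutative (⊤ : Subgroup A) l
    rw [Subgroup.index_top] at h
    rw [← cast_irrDegree, show charDegree (l : A → ℂ) = 1 from
      le_antisymm h (irrDegree_pos l), Nat.cast_one]
  rw [classInner, hcard, inv_mul_eq_iff_eq_mul₀ hq] at ha hb
  have hsa : ∑ x : A, (χ : SL F → ℂ) (uniHom F x) * conj ((1 : ℂ)) =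
      (χ : SL F → ℂ) 1 + ((Fintype.card F : ℂ) - 1) * (χ : SL F → ℂ) (uni 1) := by
    rw [← sum_uni_one χ]
    simp only [map_one, mul_one]
    exact Fintype.sum_equiv Multiplicative.toAdd _ _ fun x => rfl
  have hsb : ∑ x : A, (χ : SL F → ℂ) (uniHom F x) * conj ((l : A → ℂ) x) =
      (χ : SL F → ℂ) 1 - (χ : SL F → ℂ) (uni 1) := by
    have h := sum_uni χ (fun x => conj ((l : A → ℂ) (Multiplicative.ofAdd x)))
      (by rw [← hl0]; exact Fintype.sum_equiv Multiplicative.ofAdd _ _ fun x => rfl)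
    rw [ofAdd_zero, hl1, map_one, mul_one] at h
    rw [← h]
    exact Fintype.sum_equiv Multiplicative.toAdd _ _ fun x => rfl
  simp only [Pi.one_apply] at ha
  rw [hsa] at ha
  rw [hsb] at hb
  refine ⟨a, b, mul_left_cancel₀ hq ?_, mul_left_cancel₀ hq ?_⟩
  · linear_combination ha + ((Fintype.card F : ℂ) - 1) * hb
  · linear_combination ha - hb

/-- A character with fixed points on the unitriangular group has degree at most `q + 1`. -/
theorem degree_le (χ : IrrCharacter (SL F))
    (h : ∑ x : F, (χ : SL F → ℂ) (uni x) ≠ 0) :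
    charDegree (χ : SL F → ℂ) ≤ Fintype.card F + 1 := by
  classical
  let _ : Fintype (borel F) := Fintype.ofFinite _
  let _ : Fintype (diagHom F).ker := Fintype.ofFinite _
  obtain ⟨m, hφ, hm, -⟩ := exists_decomp (isCharacter_res (borel F) (irr_isCharacter χ))
  obtain ⟨θ, hθ, hθs⟩ : ∃ θ : IrrCharacter (borel F), m θ ≠ 0 ∧
      ∑ x : (diagHom F).ker, (θ : borel F → ℂ) x ≠ 0 := by
    by_contra! hc
    apply h
    rw [← Fintype.sum_equiv (kerEquiv F) (fun g => (χ : SL F → ℂ) ((g : borel F) : SL F)) _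
      (fun g => by rw [eq_uni_of_mem_ker g.2]; rfl)]
    simp only [fun g : borel F => congrFun hφ g, Finset.sum_apply, Pi.smul_apply]
    rw [Finset.sum_comm]
    refine Finset.sum_eq_zero fun θ _ => ?_
    by_cases h0 : m θ = 0
    · simp [h0]
    · rw [← Finset.smul_sum, hc θ h0, smul_zero]
  have hker : (diagHom F).ker ≤ irrKer θ := by
    by_contra hle
    exact hθs (by simpa using sum_coset_eq_zero hle 1)
  obtain ⟨η, hη⟩ := exists_infl_eq (diagHom F).ker hker
  have hdeg : charDegree (θ : borel F → ℂ) ≤ 1 := by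
    have hcomm : IsMulCommutative (borel F ⧸ (diagHom F).ker) := ⟨⟨fun a b =>
      (QuotientGroup.kerLift_injective (diagHom F)) (by rw [map_mul, map_mul, mul_comm])⟩⟩
    have h1 := irrDegree_le_index_of_commutative (⊤ : Subgroup (borel F ⧸ (diagHom F).ker)) η
    rw [Subgroup.index_top] at h1
    rw [← hη]
    refine le_of_eq_of_le ?_ h1
    simp only [charDegree, infl_apply, QuotientGroup.mk_one]
  have hne : classInner (indFun (borel F) (θ : borel F → ℂ)) (χ : SL F → ℂ) ≠ 0 := by
    rw [CfsgLib.Induction.classInner_indFun (borel F) _ (irr_isClassFunction χ),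
      classInner_conj_symm, hm, map_natCast, Nat.cast_ne_zero]
    exact hθ
  have hle := irrDegree_le_of_classInner_ne
    (CfsgLib.Induction.isCharacter_indFun (borel F) (irr_isCharacter θ)) χ hne
  rw [charDegree_indFun (borel F) (irr_isCharacter θ), index_borel] at hle
  exact hle.trans ((Nat.mul_le_mul_left _ hdeg).trans (mul_one _).le)

theorem eq_one_of_uni (χ : IrrCharacter (SL F))
    (h : (χ : SL F → ℂ) (uni 1) = (χ : SL F → ℂ) 1) : (χ : SL F → ℂ) = fun _ => 1 := by
  classical
  rw [← irrKer_eq_top_iff]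
  refine CfsgLib.RegUnip.eq_top_of_transvection_mem _ fun i j hij c => ?_
  have hu : ∀ x : F, uni x ∈ irrKer χ := fun x => by
    by_cases hx : x = 0
    · rw [hx, uni_zero']; exact one_mem _
    · rw [mem_irrKer, irr_uni χ hx, h]
  fin_cases i <;> fin_cases j
  · exact absurd rfl hij
  · convert hu c using 1
    apply Subtype.ext
    ext a b
    fin_cases a <;> fin_cases b <;> simp [Matrix.SpecialLinearGroup.transvection_coe, Matrix.transvection]
  · convert (irrKer_normal χ).conj_mem _ (hu c) swp using 1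
    apply Subtype.ext
    ext a b
    fin_cases a <;> fin_cases b <;>
      simp [Matrix.SpecialLinearGroup.transvection_coe, Matrix.transvection, Matrix.SpecialLinearGroup.coe_inv,
        Matrix.adjugate_fin_two, Matrix.mul_apply, Fin.sum_univ_two, CharTwo.neg_eq]
  · exact absurd rfl hij

/-- The irreducible character degrees of `SL(2, q)` for even `q`. -/
theorem degrees (h4 : 4 ≤ Fintype.card F) :
    charDegrees (SL F) =
      {1, Fintype.card F - 1, Fintype.card F, Fintype.card F + 1} := by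
  classical
  set q := Fintype.card F with hq
  choose a b hab hab' using exists_ab (F := F)
  have hconj : ∀ χ : IrrCharacter (SL F), conj ((χ : SL F → ℂ) (uni 1)) = (χ : SL F → ℂ) (uni 1) :=
    fun χ => by rw [hab' χ, map_sub, map_natCast, map_natCast]
  have hne1 : ¬ IsConj (uni (1 : F)) 1 := fun h => by
    have h2 := congrArg (fun g : SL F => g.1 0 1) (isConj_one_left.1 h)
    simp at h2
  have e2 := column_orth (uni (1 : F)) 1
  have e3 := column_orth (uni (1 : F)) (uni 1)
  rw [if_neg hne1] at e2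
  rw [if_pos (IsConj.refl _), card_centralizer_uni_one] at e3
  simp only [conj_irr_one] at e2
  simp only [hconj] at e3
  have e1 := sum_sq_degrees (G := SL F)
  rw [card_sl, Nat.cast_mul, Nat.cast_mul, Nat.cast_sub (by omega),
    ← hq, Nat.cast_add, Nat.cast_one] at e1
  simp only [hab, hab', sq] at e1 e2 e3
  have Sb : ∑ χ, ((b χ : ℂ) * b χ) = q := by
    have hq0 : (q : ℂ) * q ≠ 0 := mul_ne_zero (by rw [Nat.cast_ne_zero]; omega)
      (by rw [Nat.cast_ne_zero]; omega)
    refine mul_left_cancel₀ hq0 ?_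
    rw [Finset.mul_sum]
    trans ∑ χ : IrrCharacter (SL F),
      (((a χ : ℂ) + b χ * ((q : ℂ) - 1)) * ((a χ : ℂ) + b χ * ((q : ℂ) - 1)) -
      2 * (((a χ : ℂ) - b χ) * ((a χ : ℂ) + b χ * ((q : ℂ) - 1))) +
      ((a χ : ℂ) - b χ) * ((a χ : ℂ) - b χ))
    · exact Finset.sum_congr rfl fun χ _ => by ring
    · rw [Finset.sum_add_distrib, Finset.sum_sub_distrib, ← Finset.mul_sum, e1, e2, e3]
      ring
  have Sa : ∑ χ, ((a χ : ℂ) * a χ) = 2 * (q : ℂ) - 2 := by
    have hq0 : (q : ℂ) * q ≠ 0 := mul_ne_zero (by rw [Nat.cast_ne_zero]; omega)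
      (by rw [Nat.cast_ne_zero]; omega)
    refine mul_left_cancel₀ hq0 ?_
    rw [Finset.mul_sum]
    trans ∑ χ : IrrCharacter (SL F),
      (((a χ : ℂ) + b χ * ((q : ℂ) - 1)) * ((a χ : ℂ) + b χ * ((q : ℂ) - 1)) +
      (2 * ((q : ℂ) - 1)) * (((a χ : ℂ) - b χ) * ((a χ : ℂ) + b χ * ((q : ℂ) - 1))) +
      (((q : ℂ) - 1) * ((q : ℂ) - 1)) * (((a χ : ℂ) - b χ) * ((a χ : ℂ) - b χ)))
    · exact Finset.sum_congr rfl fun χ _ => by ring
    · rw [Finset.sum_add_distrib, Finset.sum_add_distrib, ← Finset.mul_sum, ← Finset.mul_sum,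
        e1, e2, e3]
      ring
  set one : IrrCharacter (SL F) := principalIrr (SL F) with hone
  set S := Finset.univ.erase one with hS
  have hb0 : b one = 0 ∧ a one = 1 := by
    have h1 := hab one
    have h2 := hab' one
    simp only [hone, principalIrr_apply] at h1 h2
    have hqc : (q : ℂ) ≠ 0 := by rw [Nat.cast_ne_zero]; omega
    have hb : (b one : ℂ) = 0 := mul_left_cancel₀ hqc (by linear_combination h2 - h1)
    have ha : (a one : ℂ) = 1 := by linear_combination -h2 + hb
    exact ⟨by exact_mod_cast hb, by exact_mod_cast ha⟩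
  have hdeg : ∀ χ : IrrCharacter (SL F), charDegree (χ : SL F → ℂ) = a χ + b χ * (q - 1) := by
    intro χ
    have h := cast_irrDegree χ
    rw [hab χ] at h
    have : ((charDegree (χ : SL F → ℂ) : ℕ) : ℂ) = ((a χ + b χ * (q - 1) : ℕ) : ℂ) := by
      rw [h, Nat.cast_add, Nat.cast_mul, Nat.cast_sub (by omega), Nat.cast_one]
    exact_mod_cast this
  have hbpos : ∀ χ ∈ S, 1 ≤ b χ := by
    intro χ hχ
    by_contra hlt
    have hbz : b χ = 0 := by omega
    have := eq_one_of_uni χ (by rw [hab χ, hab' χ, hbz]; simp)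
    exact (Finset.ne_of_mem_erase hχ) (Subtype.ext this)
  have Sb' : ∑ χ ∈ S, b χ * b χ = q := by
    have h : ∑ χ, b χ * b χ = q := by exact_mod_cast Sb
    rwa [← Finset.add_sum_erase _ _ (Finset.mem_univ one), hb0.1, zero_mul, zero_add] at h
  have Sa' : ∑ χ ∈ S, a χ * a χ + 3 = 2 * q := by
    have h : ∑ χ, a χ * a χ + 2 = 2 * q := by
      have : ((∑ χ, a χ * a χ + 2 : ℕ) : ℂ) = ((2 * q : ℕ) : ℂ) := by
        push_cast
        linear_combination Sa
      exact_mod_cast this
    rw [← Finset.add_sum_erase _ _ (Finset.mem_univ one), hb0.2, ← hS] at h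
    omega
  have hScard : q ≤ S.card := by
    rw [hS, Finset.card_erase_of_mem (Finset.mem_univ _), Finset.card_univ,
      ← Nat.card_eq_fintype_card, card_irr_eq_card_conjClasses]
    have := card_succ_le_conjClasses (F := F)
    omega
  have hb1 : ∀ χ ∈ S, b χ = 1 := by
    intro χ hχ
    by_contra hne
    have h2 : 2 ≤ b χ := by have := hbpos χ hχ; omega
    have h3 : ∑ ψ ∈ S, 1 < ∑ ψ ∈ S, b ψ * b ψ :=
      Finset.sum_lt_sum (fun ψ hψ => Nat.mul_pos (hbpos ψ hψ) (hbpos ψ hψ))
        ⟨χ, hχ, lt_of_lt_of_le (by norm_num : 1 < 2 * 2) (Nat.mul_le_mul h2 h2)⟩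
    rw [Sb', ← Finset.card_eq_sum_ones] at h3
    omega
  have hScard' : S.card = q := by
    rw [Finset.card_eq_sum_ones, ← Sb']
    exact Finset.sum_congr rfl fun χ hχ => by rw [hb1 χ hχ]
  have Sa1 : ∑ χ ∈ S, a χ + 1 = q := by
    have h : (∑ χ ∈ S, ((a χ : ℂ) - b χ) * ((a χ : ℂ) - b χ)) + 1 = q := by
      rw [← e3, ← Finset.add_sum_erase _ _ (Finset.mem_univ one), hb0.1, hb0.2]
      simp [hS, add_comm]
    have h2 : (∑ χ ∈ S, ((a χ : ℂ) - b χ) * ((a χ : ℂ) - b χ)) =
        ((∑ χ ∈ S, a χ * a χ : ℕ) : ℂ) - 2 * ((∑ χ ∈ S, a χ : ℕ) : ℂ) + (S.card : ℂ) := by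
      rw [Nat.cast_sum, Nat.cast_sum, Finset.mul_sum, Finset.card_eq_sum_ones, Nat.cast_sum,
        ← Finset.sum_sub_distrib, ← Finset.sum_add_distrib]
      exact Finset.sum_congr rfl fun χ hχ => by rw [hb1 χ hχ]; push_cast; ring
    rw [h2, hScard'] at h
    have h3 : ((∑ χ ∈ S, a χ * a χ + q + 1 : ℕ) : ℂ) =
        ((q + 2 * ∑ χ ∈ S, a χ : ℕ) : ℂ) := by
      push_cast at h ⊢
      linear_combination h
    have h4 : ∑ χ ∈ S, a χ * a χ + q + 1 = q + 2 * ∑ χ ∈ S, a χ := by exact_mod_cast h3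
    omega
  have ha2 : ∀ χ ∈ S, a χ ≤ 2 := by
    intro χ hχ
    by_cases hz : a χ = 0
    · omega
    have hle := degree_le χ (by
      rw [sum_uni_one χ, hab χ, hab' χ, hb1 χ hχ]
      have hqc : (q : ℂ) ≠ 0 := by rw [Nat.cast_ne_zero]; omega
      intro h0
      apply hz
      have : (a χ : ℂ) = 0 := mul_left_cancel₀ hqc (by push_cast at h0; linear_combination h0)
      exact_mod_cast this)
    rw [hdeg χ, hb1 χ hχ] at hle
    omega
  have hex : ∀ i ≤ 2, ∃ χ ∈ S, a χ = i := by
    intro i hi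
    by_contra! hcon
    interval_cases i
    · have : ∑ χ ∈ S, 1 ≤ ∑ χ ∈ S, a χ :=
        Finset.sum_le_sum fun χ hχ => Nat.one_le_iff_ne_zero.2 (hcon χ hχ)
      rw [← Finset.card_eq_sum_ones] at this
      omega
    · have : ∑ χ ∈ S, a χ * a χ = ∑ χ ∈ S, 2 * a χ := Finset.sum_congr rfl fun χ hχ => by
        have := ha2 χ hχ
        have := hcon χ hχ
        interval_cases h : a χ <;> simp_all
      rw [← Finset.mul_sum] at this
      omega
    · have : ∑ χ ∈ S, a χ * a χ = ∑ χ ∈ S, a χ := Finset.sum_congr rfl fun χ hχ => by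
        have := ha2 χ hχ
        have := hcon χ hχ
        interval_cases h : a χ <;> simp_all
      omega
  ext d
  simp only [charDegrees, Set.mem_ofPred_eq, Set.mem_insert_iff, Set.mem_singleton_iff]
  constructor
  · rintro ⟨χ, rfl⟩
    rw [hdeg χ]
    by_cases hχ : χ = one
    · subst hχ; rw [hb0.1, hb0.2]; left; simp
    · have hχS : χ ∈ S := Finset.mem_erase.2 ⟨hχ, Finset.mem_univ _⟩
      have := ha2 χ hχS
      rw [hb1 χ hχS]
      omega
  · rintro (rfl | rfl | rfl | rfl)
    · exact ⟨one, by rw [hdeg, hb0.1, hb0.2]; simp⟩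
    · obtain ⟨χ, hχ, h⟩ := hex 0 (by omega)
      exact ⟨χ, by rw [hdeg, hb1 χ hχ, h]; omega⟩
    · obtain ⟨χ, hχ, h⟩ := hex 1 (by omega)
      exact ⟨χ, by rw [hdeg, hb1 χ hχ, h]; omega⟩
    · obtain ⟨χ, hχ, h⟩ := hex 2 (by omega)
      exact ⟨χ, by rw [hdeg, hb1 χ hχ, h]; omega⟩

/-- Isomorphic groups have the same degrees. -/
theorem charDegrees_congr {A B : Type*} [Group A] [Group B] [Finite A] [Finite B] (e : A ≃* B) :
    charDegrees A = charDegrees B := by
  ext d
  constructor
  · rintro ⟨χ, rfl⟩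
    exact ⟨⟨fun x => (χ : A → ℂ) (e.symm x), isIrrCharacter_comp_mulEquiv e.symm χ.2⟩,
      by simp [charDegree]⟩
  · rintro ⟨χ, rfl⟩
    exact ⟨⟨fun x => (χ : B → ℂ) (e x), isIrrCharacter_comp_mulEquiv e χ.2⟩,
      by simp [charDegree]⟩

end CfsgLib.Chars17.SLTwoEven
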