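import Cfsg.Agent.Lib.Chars17.IrrBasic
import Cfsg.Prelude.Def_Transfer

/-!
# Irreducible characters that are nonzero on exactly two conjugacy classes
-/

namespace CfsgLib.Chars17

open Cfsg CfsgLib.Characters
open scoped ComplexConjugate

variable {G : Type*} [Group G] [Finite G]

/-- `χ` is nonzero exactly on the class of `1` and on the class of `c ≠ 1`, and is not
principal. -/
structure TwoClass (χ : IrrCharacter G) (c : G) : Prop where
  ne_one : c ≠ 1
  apply_ne : (χ : G → ℂ) c ≠ 0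
  support : ∀ g, (χ : G → ℂ) g ≠ 0 → g = 1 ∨ IsConj c g
  nonprincipal : χ ≠ principalIrr G

theorem exists_twoClass (hG : 2 < Nat.card G) (χ : IrrCharacter G)
    (h : Nat.card {C : ConjClasses G // ∃ g ∈ C.carrier, (χ : G → ℂ) g ≠ 0} = 2) :
    ∃ c : G, TwoClass χ c := by
  obtain ⟨A, B, hAB, huniv⟩ := Nat.card_eq_two_iff.1 h
  let one : {C : ConjClasses G // ∃ g ∈ C.carrier, (χ : G → ℂ) g ≠ 0} :=
    ⟨ConjClasses.mk 1, 1, ConjClasses.mem_carrier_mk, irr_one_ne_zero χ⟩
  obtain ⟨D, hD, hall⟩ : ∃ D, D ≠ one ∧ ∀ E, E = one ∨ E = D := by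
    have h1 : one = A ∨ one = B := by simpa using (Set.eq_univ_iff_forall.1 huniv one)
    rcases h1 with h1 | h1
    · exact ⟨B, h1 ▸ hAB.symm, fun E => by simpa [h1] using Set.eq_univ_iff_forall.1 huniv E⟩
    · exact ⟨A, h1 ▸ hAB, fun E => by
        simpa [h1, or_comm] using Set.eq_univ_iff_forall.1 huniv E⟩
  obtain ⟨c, hc, hcne⟩ := D.2
  have hDc : D.1 = ConjClasses.mk c := (ConjClasses.mem_carrier_iff_mk_eq.1 hc).symm
  have hsupp : ∀ g, (χ : G → ℂ) g ≠ 0 → g = 1 ∨ IsConj c g := by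
    intro g hg
    rcases hall ⟨ConjClasses.mk g, g, ConjClasses.mem_carrier_mk, hg⟩ with h | h
    · exact .inl (isConj_one_left.1 (ConjClasses.mk_eq_mk_iff_isConj.1 (congrArg Subtype.val h)))
    · exact .inr (ConjClasses.mk_eq_mk_iff_isConj.1
        ((congrArg Subtype.val h).trans hDc)).symm
  have hc1 : c ≠ 1 := by
    rintro rfl
    exact hD (Subtype.ext hDc)
  refine ⟨c, hc1, hcne, hsupp, ?_⟩
  rintro rfl
  classical
  have := Fintype.ofFinite G
  have hk : Nat.card {x : G // IsConj c x} + 1 = Nat.card G := by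
    rw [Nat.card_eq_fintype_card, Nat.card_eq_fintype_card, Fintype.card_subtype,
      show (Finset.univ.filter fun x : G => IsConj c x) = Finset.univ.erase (1 : G) from ?_]
    · rw [Finset.card_erase_of_mem (Finset.mem_univ _), Finset.card_univ,
        Nat.sub_add_cancel Fintype.card_pos]
    · ext x
      simp only [Finset.mem_filter, Finset.mem_univ, true_and, Finset.mem_erase, and_true]
      exact ⟨fun hx hx1 => hc1 (isConj_one_left.1 (hx1 ▸ hx)),
        fun hx => (hsupp x (by simp)).resolve_left hx⟩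
  have hdvd : Nat.card {x : G // IsConj c x} ∣ Nat.card G :=
    ⟨_, (card_isConj_mul_card_centralizer c).symm⟩
  rw [← hk] at hdvd
  have := Nat.le_of_dvd one_pos ((Nat.dvd_add_right dvd_rfl).1 hdvd)
  omega

namespace TwoClass

variable {χ : IrrCharacter G} {c : G}

theorem apply_of_isConj {g : G} (h : IsConj c g) : (χ : G → ℂ) g = (χ : G → ℂ) c :=
  (classFunction_eq_of_isConj (irr_isClassFunction χ) h).symm

theorem sum_eq (H : TwoClass χ c) [Fintype G] (f : G → ℂ) (hf : ∀ g, IsConj c g → f g = f c) :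
    ∑ g : G, (χ : G → ℂ) g * f g =
      (χ : G → ℂ) 1 * f 1 + (Nat.card {x : G // IsConj c x} : ℂ) * ((χ : G → ℂ) c * f c) := by
  classical
  have hsub : insert (1 : G) (Finset.univ.filter (IsConj c)) ⊆ Finset.univ := Finset.subset_univ _
  rw [← Finset.sum_subset hsub, Finset.sum_insert]
  · rw [Finset.sum_congr rfl (g := fun _ => (χ : G → ℂ) c * f c), Finset.sum_const, nsmul_eq_mul,
      Nat.card_eq_fintype_card, Fintype.card_subtype]
    intro x hx
    rw [Finset.mem_filter] at hx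
    rw [apply_of_isConj hx.2, hf x hx.2]
  · intro h
    exact H.ne_one (isConj_one_left.1 (Finset.mem_filter.1 h).2)
  · intro x _ hx
    by_cases h : (χ : G → ℂ) x = 0
    · rw [h, zero_mul]
    · rcases H.support x h with rfl | h' <;> simp_all

theorem apply_one_add (H : TwoClass χ c) :
    (χ : G → ℂ) 1 + (Nat.card {x : G // IsConj c x} : ℂ) * (χ : G → ℂ) c = 0 := by
  let _ := Fintype.ofFinite G
  have h1 := H.sum_eq (fun _ => 1) fun _ _ => rfl
  have h0 := classInner_irr_ne χ.2 (principalIrr G).2 fun h => H.nonprincipal (Subtype.ext h)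
  rw [classInner] at h0
  simp only [principalIrr_apply, map_one, mul_one, mul_eq_zero, inv_eq_zero, Nat.cast_eq_zero,
    Nat.card_pos.ne', false_or] at h0 h1
  rw [← h1, h0]

theorem other_eq (H : TwoClass χ c) {ψ : IrrCharacter G} (hψ : ψ ≠ χ) :
    (ψ : G → ℂ) c = (ψ : G → ℂ) 1 := by
  let _ := Fintype.ofFinite G
  have h1 := H.sum_eq (fun g => conj ((ψ : G → ℂ) g)) fun g hg => by
    rw [classFunction_eq_of_isConj (irr_isClassFunction ψ) hg]
  have h0 := classInner_irr_ne χ.2 ψ.2 fun h => hψ (Subtype.ext h.symm)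
  rw [classInner] at h0
  simp only [mul_eq_zero, inv_eq_zero, Nat.cast_eq_zero, Nat.card_pos.ne', false_or] at h0
  rw [h1, conj_irr_one] at h0
  have h2 : (χ : G → ℂ) 1 * ((ψ : G → ℂ) 1 - conj ((ψ : G → ℂ) c)) = 0 := by
    linear_combination h0 - conj ((ψ : G → ℂ) c) * H.apply_one_add
  have h3 := congrArg conj (sub_eq_zero.1 ((mul_eq_zero.1 h2).resolve_left (irr_one_ne_zero χ)))
  rw [conj_irr_one, Complex.conj_conj] at h3
  exact h3.symm

theorem eq_one_of_apply_eq (H : TwoClass χ c) {g : G} (hg : (χ : G → ℂ) g = (χ : G → ℂ) 1) :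
    g = 1 := by
  rcases H.support g (hg ▸ irr_one_ne_zero χ) with h | h
  · exact h
  · exfalso
    rw [apply_of_isConj h] at hg
    have := H.apply_one_add
    rw [hg, ← one_add_mul, mul_eq_zero] at this
    rcases this with h | h
    · norm_cast at h
      omega
    · exact irr_one_ne_zero χ h

/-- The support of `χ` is a normal subgroup. -/
def supp (_H : TwoClass χ c) : Subgroup G := ⨅ ψ ∈ {ψ : IrrCharacter G | ψ ≠ χ}, irrKer ψ

theorem mem_supp_iff (H : TwoClass χ c) {g : G} : g ∈ H.supp ↔ (χ : G → ℂ) g ≠ 0 := by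
  rw [supp]
  simp only [Subgroup.mem_iInf, Set.mem_ofPred_eq, mem_irrKer]
  constructor
  · intro hg h0
    have hne : g ≠ 1 := fun h => irr_one_ne_zero χ (h ▸ h0)
    classical
    let _ := Fintype.ofFinite G
    have hz := sum_degree_mul_irr g
    rw [if_neg hne] at hz
    have hterm : ∀ ψ : IrrCharacter G, (ψ : G → ℂ) 1 * (ψ : G → ℂ) g =
        ((if ψ = χ then 0 else charDegree (ψ : G → ℂ) ^ 2 : ℕ) : ℂ) := by
      intro ψ
      split_ifs with h
      · simp [h, h0]
      · rw [hg ψ h, ← cast_irrDegree]; push_cast; ring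
    rw [Finset.sum_congr rfl fun ψ _ => hterm ψ, ← Nat.cast_sum, Nat.cast_eq_zero,
      Finset.sum_eq_zero_iff] at hz
    have := hz (principalIrr G) (Finset.mem_univ _)
    rw [if_neg (Ne.symm H.nonprincipal)] at this
    exact (irrDegree_pos (principalIrr G)).ne' (pow_eq_zero_iff two_ne_zero |>.1 this)
  · intro hg ψ hψ
    rcases H.support g hg with rfl | h
    · rfl
    · rw [← classFunction_eq_of_isConj (irr_isClassFunction ψ) h, H.other_eq hψ]

theorem eq_supp (H : TwoClass χ c) {N : Subgroup G} (hN : ∀ g, g ∈ N ↔ (χ : G → ℂ) g ≠ 0) :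
    N = H.supp := by
  ext g
  rw [hN, H.mem_supp_iff]

theorem mem_supp_iff_isConj (H : TwoClass χ c) {g : G} :
    g ∈ H.supp ↔ g = 1 ∨ IsConj c g := by
  rw [H.mem_supp_iff]
  refine ⟨H.support g, ?_⟩
  rintro (rfl | h)
  · exact irr_one_ne_zero χ
  · rw [apply_of_isConj h]; exact H.apply_ne

theorem self_mem_supp (H : TwoClass χ c) : c ∈ H.supp := H.mem_supp_iff.2 H.apply_ne

theorem supp_ne_bot (H : TwoClass χ c) : H.supp ≠ ⊥ := fun h =>
  H.ne_one (Subgroup.mem_bot.1 (h ▸ H.self_mem_supp))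

instance supp_normal (H : TwoClass χ c) : H.supp.Normal :=
  ⟨fun g hg x => by
    rw [H.mem_supp_iff] at hg ⊢
    rwa [irr_isClassFunction χ g x]⟩

theorem exists_conj (H : TwoClass χ c) {x y : G} (hx : x ∈ H.supp) (hy : y ∈ H.supp) (hx1 : x ≠ 1)
    (hy1 : y ≠ 1) : ∃ g : G, g * x * g⁻¹ = y :=
  isConj_iff.1 (((H.mem_supp_iff_isConj.1 hx).resolve_left hx1).symm.trans
    ((H.mem_supp_iff_isConj.1 hy).resolve_left hy1))

theorem supp_le_normal (H : TwoClass χ c) {K : Subgroup G} (hK : K.Normal) (hK1 : K ≠ ⊥) :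
    H.supp ≤ K := by
  classical
  let _ := Fintype.ofFinite G
  haveI := hK
  have hker : ¬ K ≤ irrKer χ := fun h => hK1 ((Subgroup.eq_bot_iff_forall K).2 fun x hx =>
    H.eq_one_of_apply_eq (h hx))
  have hs := sum_coset_eq_zero hker 1
  simp only [one_mul] at hs
  obtain ⟨x, hx, hxne⟩ : ∃ x : K, x ≠ 1 ∧ (χ : G → ℂ) (x : G) ≠ 0 := by
    by_contra! hcon
    rw [Finset.sum_eq_single (1 : K) (fun x _ hx => hcon x hx)
      (fun h => absurd (Finset.mem_univ _) h)] at hs
    exact irr_one_ne_zero χ hs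
  intro g hg
  by_cases hg1 : g = 1
  · exact hg1 ▸ K.one_mem
  obtain ⟨a, rfl⟩ := H.exists_conj (H.mem_supp_iff.2 hxne) hg (by simpa using hx) hg1
  exact hK.conj_mem _ x.2 a

theorem supp_elementaryAbelian (H : TwoClass χ c) :
    ∃ p : ℕ, p.Prime ∧ IsPGroup p H.supp ∧ IsElementaryAbelian p H.supp := by
  obtain ⟨p, hp, hpdvd⟩ := Nat.exists_prime_and_dvd (n := Nat.card H.supp) fun h =>
    H.supp_ne_bot (Subgroup.card_eq_one.1 h)
  haveI := Fact.mk hp
  obtain ⟨a, ha⟩ := exists_prime_orderOf_dvd_card' p hpdvd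
  have hexp : ∀ x ∈ H.supp, x ^ p = 1 := by
    intro x hx
    by_cases hx1 : x = 1
    · simp [hx1]
    have ha1 : (a : G) ≠ 1 := by
      intro h
      rw [OneMemClass.coe_eq_one] at h
      rw [h, orderOf_one] at ha
      exact hp.ne_one ha.symm
    obtain ⟨g, rfl⟩ := H.exists_conj a.2 hx ha1 hx1
    rw [conj_pow, ← SubmonoidClass.coe_pow, ← ha, pow_orderOf_eq_one]
    simp
  have hP : IsPGroup p H.supp := fun x => ⟨1, Subtype.ext (by simpa using hexp x x.2)⟩
  refine ⟨p, hp, hP, ?_, hexp⟩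
  haveI : Nontrivial H.supp := (Subgroup.nontrivial_iff_ne_bot _).2 H.supp_ne_bot
  haveI := hP.center_nontrivial
  have hne : (Subgroup.center H.supp).map H.supp.subtype ≠ ⊥ := by
    rw [Ne, Subgroup.map_eq_bot_iff_of_injective _ H.supp.subtype_injective]
    exact (Subgroup.nontrivial_iff_ne_bot _).1 inferInstance
  have hle := H.supp_le_normal (K := (Subgroup.center H.supp).map H.supp.subtype) inferInstance hne
  refine ⟨⟨fun a b => ?_⟩⟩
  obtain ⟨z, hz, hza⟩ := hle a.2
  rw [← Subtype.ext hza]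
  exact (Subgroup.mem_center_iff.1 hz b).symm

theorem card_supp (H : TwoClass χ c) :
    Nat.card H.supp = Nat.card {x : G // IsConj c x} + 1 := by
  classical
  let _ := Fintype.ofFinite G
  rw [Nat.card_eq_fintype_card, Nat.card_eq_fintype_card, Fintype.card_subtype,
    Fintype.card_subtype,
    show (Finset.univ.filter fun g : G => g ∈ H.supp) =
      insert (1 : G) (Finset.univ.filter (IsConj c)) from ?_,
    Finset.card_insert_of_notMem]
  · intro h
    exact H.ne_one (isConj_one_left.1 (Finset.mem_filter.1 h).2)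
  · ext x
    simp only [Finset.mem_filter, Finset.mem_univ, true_and, Finset.mem_insert,
      H.mem_supp_iff_isConj]

theorem exists_params (H : TwoClass χ c) :
    ∃ e : ℕ, 0 < e ∧ charDegree (χ : G → ℂ) = e * Nat.card {x : G // IsConj c x} ∧
      Nat.card G = e ^ 2 * Nat.card {x : G // IsConj c x} *
        (Nat.card {x : G // IsConj c x} + 1) := by
  let _ := Fintype.ofFinite G
  haveI : Nonempty {x : G // IsConj c x} := ⟨⟨c, IsConj.refl c⟩⟩
  set k := Nat.card {x : G // IsConj c x} with hk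
  have hk0 : k ≠ 0 := Nat.card_pos.ne'
  have hkc : (k : ℂ) ≠ 0 := Nat.cast_ne_zero.2 hk0
  have h1 := H.apply_one_add
  rw [← hk, ← cast_irrDegree] at h1
  have hcv : (χ : G → ℂ) c = -((charDegree (χ : G → ℂ) : ℂ) / k) := by
    field_simp
    linear_combination h1
  obtain ⟨e, he⟩ : k ∣ charDegree (χ : G → ℂ) := by
    refine CfsgLib.CharScalar.dvd_of_isIntegral_div hk0 ?_
    obtain ⟨n, ρ, -, hρ⟩ := χ.2
    have hint := CfsgLib.CharScalar.isIntegral_character ρ c
    rw [hρ, hcv] at hint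
    simpa using hint.neg
  refine ⟨e, Nat.pos_of_ne_zero fun h => ?_, by rw [he, mul_comm], ?_⟩
  · exact (irrDegree_pos χ).ne' (by rw [he, h, mul_zero])
  have hs := H.sum_eq (fun g => conj ((χ : G → ℂ) g)) fun g hg => by rw [apply_of_isConj hg]
  have h2 := classInner_irr_self χ.2
  rw [classInner, hs, inv_mul_eq_one₀ (Nat.cast_ne_zero.2 Nat.card_pos.ne'), conj_irr_one, hcv,
    ← cast_irrDegree, he, ← hk] at h2
  push_cast at h2
  rw [mul_div_assoc] at h2
  simp only [map_neg, map_mul, map_div₀, map_natCast] at h2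
  field_simp at h2
  exact_mod_cast (show (Nat.card G : ℂ) = (e : ℂ) ^ 2 * k * (k + 1) by linear_combination h2)

end TwoClass

end CfsgLib.Chars17
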