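import Cfsg.Agent.Lib.Chars17.IrrBasic
import Cfsg.Agent.Lib.Chars17.PGroupGalois
import Cfsg.Agent.Lib.Characters.Clifford
import Cfsg.Agent.Lib.Characters.NormalRes
import Cfsg.Agent.Lib.Characters.Ito
import Cfsg.Agent.Lib.Characters.Scalar
import Cfsg.Agent.Lib.Solvable.CoprimeGeneration
import Cfsg.Agent.Lib.PCore.PSolvable
import Cfsg.Agent.Lib.Blocks.DualHallHigman

/-!
# Solvable groups whose vanishing `p`-singular elements have one order
-/

set_option autoImplicit false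

namespace CfsgLib.Chars17.Vanishing

open Cfsg CfsgLib.Characters

universe u

/-- Some irreducible character is zero at `g`. -/
def Vanishes {G : Type*} [Group G] (g : G) : Prop :=
  ∃ χ : IrrCharacter G, (χ : G → ℂ) g = 0

/-- What survives in the quotient by the `p`-core of the hypothesis on vanishing elements. -/
structure VHyp (p : ℕ) (G : Type*) [Group G] : Prop where
  pow : ∀ y : G, Vanishes y → p ∣ orderOf y → Vanishes (y ^ p) → ¬ p ∣ orderOf (y ^ p)
  mixed : ∀ y u : G, (∃ i, y ^ p ^ i = 1) → y ≠ 1 → Vanishes y → Commute y u → u ≠ 1 →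
    (∃ m, ¬ p ∣ m ∧ u ^ m = 1) → ¬ Vanishes (y * u)

/-- An abelian group of exponent `p` acting on an abelian group without elements of order `p` has
an element with stabiliser equal to the kernel. -/
theorem exists_regular {p : ℕ} {S V : Type*} [Group S] [Finite S] [CommGroup V]
    [MulDistribMulAction S V] (hcomm : ∀ a b : S, a * b = b * a) (hexp : ∀ s : S, s ^ p = 1)
    (hV : ∀ v : V, v ^ p = 1 → v = 1) : ∃ v : V, ∀ s : S, s • v = v → ∀ w : V, s • w = w := by
  classical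
  have hne : ∃ n, ∃ v : V, Nat.card (MulAction.stabilizer S v) = n := ⟨_, 1, rfl⟩
  obtain ⟨v, hv⟩ := Nat.find_spec hne
  refine ⟨v, fun s hs => ?_⟩
  by_contra! hmove
  obtain ⟨w, hw⟩ := hmove
  have step : ∀ u x : V, s • u = u * x → s • x = x → x = 1 := by
    intro u x hu hx
    have key : ∀ n : ℕ, s ^ n • u = u * x ^ n := by
      intro n
      induction n with
      | zero => simp
      | succ n ih => rw [pow_succ', mul_smul, ih, smul_mul', smul_pow', hu, hx, pow_succ', mul_assoc]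
    have := key p
    rw [hexp, one_smul, eq_comm, mul_eq_left] at this
    exact hV x this
  set d := w⁻¹ * s • w with hd
  have hd1 : s • d ≠ d := fun h => hw (by
    have := step w d (by rw [hd, mul_inv_cancel_left]) h
    rwa [hd, inv_mul_eq_one, eq_comm] at this)
  have hlt : MulAction.stabilizer S (v * d) < MulAction.stabilizer S v := by
    refine lt_of_le_of_ne (fun t ht => ?_) fun heq => ?_
    · rw [MulAction.mem_stabilizer_iff] at ht ⊢
      set x := t • v * v⁻¹ with hx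
      have hst : ∀ y : V, s • t • y = t • s • y := fun y => by rw [← mul_smul, hcomm, mul_smul]
      have hsx : s • x = x := by rw [hx, smul_mul', smul_inv', hst, hs]
      have h1 : x = d * (t • d)⁻¹ := by
        rw [smul_mul'] at ht
        rw [hx, eq_mul_inv_iff_mul_eq, mul_right_comm, ht, mul_comm v d, mul_inv_cancel_right]
      have h2 : s • (w * (t • w)⁻¹) = (w * (t • w)⁻¹)⁻¹⁻¹ * (x⁻¹)⁻¹ := by
        rw [inv_inv, inv_inv, smul_mul', smul_inv', hst, h1,
          show s • w = w * d by rw [hd, mul_inv_cancel_left], smul_mul', mul_inv]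
        exact mul_mul_mul_comm _ _ _ _
      rw [inv_inv, inv_inv] at h2
      have h3 : x = 1 := step _ x h2 hsx
      rwa [hx, mul_inv_eq_one] at h3
    · have h1 : s ∈ MulAction.stabilizer S (v * d) := heq ▸ hs
      rw [MulAction.mem_stabilizer_iff, smul_mul', hs, mul_left_cancel_iff] at h1
      exact hd1 h1
  have hfin := Nat.find_min' hne ⟨v * d, rfl⟩
  rw [← hv] at hfin
  exact hlt.ne (Subgroup.eq_of_le_of_card_ge hlt.le hfin)

variable {G : Type u} [Group G] [Finite G]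

/-- The characters of an abelian section, as homomorphisms. -/
def sectionDual (L L0 : Subgroup G) : Subgroup (L →* ℂˣ) where
  carrier := {f | ∀ x : L, (x : G) ∈ L0 → f x = 1}
  one_mem' := fun _ _ => rfl
  mul_mem' := fun {f g} hf hg x hx => by rw [MonoidHom.mul_apply, hf x hx, hg x hx, one_mul]
  inv_mem' := fun {f} hf x hx => by rw [MonoidHom.inv_apply, hf x hx, inv_one]

/-- The action by conjugation on the dual of a section. -/
@[reducible] noncomputable def dualAction (L L0 : Subgroup G) [L.Normal] [L0.Normal] :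
    MulDistribMulAction G (sectionDual L L0) where
  smul g f := ⟨(f : L →* ℂˣ).comp (MulAut.conjNormal g⁻¹).toMonoidHom, fun x hx => f.2 _ (by
    show ((MulAut.conjNormal g⁻¹ x : L) : G) ∈ L0
    rw [MulAut.conjNormal_apply]
    exact (inferInstance : L0.Normal).conj_mem _ hx g⁻¹)⟩
  one_smul f := Subtype.ext (MonoidHom.ext fun x => by
    show (f : L →* ℂˣ) (MulAut.conjNormal (1 : G)⁻¹ x) = (f : L →* ℂˣ) x
    rw [inv_one, map_one]; rfl)
  mul_smul a b f := Subtype.ext (MonoidHom.ext fun x => by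
    show (f : L →* ℂˣ) (MulAut.conjNormal (a * b)⁻¹ x) =
      (f : L →* ℂˣ) (MulAut.conjNormal b⁻¹ (MulAut.conjNormal a⁻¹ x))
    rw [mul_inv_rev, map_mul]; rfl)
  smul_mul g f f' := rfl
  smul_one g := rfl

/-- Elements having a power outside the kernel of the action on an abelian section vanish. -/
theorem exists_kernel_vanishes {p : ℕ} [hp : Fact p.Prime] [Group.IsSolvable G] (U St : Subgroup G)
    [U.Normal] (hU : ¬ p ∣ Nat.card U) (hcomm : ∀ a ∈ St, ∀ b ∈ St, a * b = b * a)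
    (hexp : ∀ a ∈ St, a ^ p = 1) [hS : (St ⊔ U).Normal]
    (hfaith : ∃ s ∈ St, ∃ u ∈ U, s * u ≠ u * s) :
    ∃ St0 : Subgroup G, St0 ≤ St ∧ ¬ St ≤ St0 ∧
      ∀ s ∈ St, s ∉ St0 → ∀ (y : G) (k : ℕ), y ^ k = s → Vanishes y := by
  classical
  let _ := Fintype.ofFinite G
  obtain ⟨L, hL⟩ := ({L : Subgroup G | L.Normal ∧ L ≤ U ∧
    ∀ s ∈ St, ∀ u ∈ U, s * u * s⁻¹ * u⁻¹ ∈ L}).toFinite.exists_minimal
    ⟨U, inferInstance, le_rfl, fun s _ u hu =>
      mul_mem ((inferInstance : U.Normal).conj_mem u hu s) (inv_mem hu)⟩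
  obtain ⟨hLn, hLU, hLc⟩ := hL.prop
  haveI := hLn
  have hL0lt : ¬ L ≤ ⁅L, L⁆ := by
    intro hle
    obtain ⟨s, hs, u, hu, hne⟩ := hfaith
    have hbot : L = ⊥ := by
      by_contra h0
      haveI : Nontrivial L := (Subgroup.nontrivial_iff_ne_bot L).2 h0
      refine (Group.IsSolvable.commutator_lt_top_of_nontrivial L).ne ?_
      apply Subgroup.map_injective L.subtype_injective
      rw [Subgroup.map_subtype_commutator, ← MonoidHom.range_eq_map, Subgroup.range_subtype]
      exact le_antisymm (Subgroup.commutator_le_left _ _) hle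
    have h1 := hLc s hs u hu
    rw [hbot, Subgroup.mem_bot, mul_inv_eq_one, mul_inv_eq_iff_eq_mul] at h1
    exact hne h1
  set L0 := ⁅L, L⁆ with hL0
  have hL0L : L0 ≤ L := Subgroup.commutator_le_left _ _
  letI := dualAction L L0
  let St0 : Subgroup G :=
    { carrier := {s | s ∈ St ∧ ∀ f : sectionDual L L0, s • f = f}
      one_mem' := ⟨one_mem _, fun f => one_smul G f⟩
      mul_mem' := fun {a b} ha hb => ⟨mul_mem ha.1 hb.1, fun f => by rw [mul_smul, hb.2, ha.2]⟩
      inv_mem' := fun {a} ha => ⟨inv_mem ha.1, fun f => inv_smul_eq_iff.2 (ha.2 f).symm⟩ }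
  have hsmul : ∀ (g : G) (f : sectionDual L L0) (x : L),
      ((g • f : sectionDual L L0) : L →* ℂˣ) x = (f : L →* ℂˣ) (MulAut.conjNormal g⁻¹ x) :=
    fun _ _ _ => rfl
  -- elements of `L` act trivially
  have hLtriv : ∀ l ∈ L, ∀ f : sectionDual L L0, l • f = f := by
    intro l hl f
    refine Subtype.ext (MonoidHom.ext fun x => ?_)
    rw [hsmul, show MulAut.conjNormal l⁻¹ x = (⟨l, hl⟩ : L)⁻¹ * x * ⟨l, hl⟩ from
      Subtype.ext (by simp), map_mul, map_mul, map_inv, mul_right_comm, inv_mul_cancel, one_mul]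
  refine ⟨St0, fun s hs => hs.1, fun hle => ?_, ?_⟩
  · -- the section is not centralised
    apply hL0lt
    refine hL.le_of_le ⟨inferInstance, hL0L.trans hLU, fun s hs u hu => ?_⟩ hL0L
    have hd := hLc s hs u hu
    set d := s * u * s⁻¹ * u⁻¹ with hdd
    have hfix : s * d * s⁻¹ * d⁻¹ ∈ L0 := by
      set x : L := ⟨s * d * s⁻¹ * d⁻¹, mul_mem (hLn.conj_mem d hd s) (inv_mem hd)⟩
      by_contra hx
      let N : Subgroup L := L0.subgroupOf L
      haveI : IsMulCommutative (L ⧸ N) := ⟨⟨fun a b => by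
        induction a using QuotientGroup.induction_on with | H a => ?_
        induction b using QuotientGroup.induction_on with | H b => ?_
        rw [← QuotientGroup.mk_mul, ← QuotientGroup.mk_mul, QuotientGroup.eq, Subgroup.mem_subgroupOf]
        have := Subgroup.commutator_mem_commutator (H₁ := L) (H₂ := L) (inv_mem b.2) (inv_mem a.2)
        simpa [commutatorElement_def, mul_assoc] using this⟩⟩
      obtain ⟨θ, hθ⟩ : ∃ θ : IrrCharacter (L ⧸ N),
          (θ : L ⧸ N → ℂ) (x : L ⧸ N) ≠ (θ : L ⧸ N → ℂ) 1 := by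
        by_contra! hcon
        exact hx ((QuotientGroup.eq_one_iff x).1 (eq_one_of_forall_irr hcon))
      obtain ⟨φ, hφ⟩ := CfsgLib.LinearExt.exists_unitsHom (irr_isCharacter θ)
        (CfsgLib.CharIto.degree_one_of_comm θ.2)
      let f : sectionDual L L0 := ⟨φ.comp (QuotientGroup.mk' N), fun y hy => by
        show φ (y : L ⧸ N) = 1
        rw [(QuotientGroup.eq_one_iff y).2 hy, map_one]⟩
      have h1 := congrArg (fun F : sectionDual L L0 => (F : L →* ℂˣ) ⟨d, hd⟩)
        ((hle (inv_mem hs)).2 f)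
      simp only [hsmul, inv_inv] at h1
      apply hθ
      rw [hφ]
      show ((φ (x : L ⧸ N) : ℂˣ) : ℂ) = ((φ 1 : ℂˣ) : ℂ)
      have hxe : x = MulAut.conjNormal s ⟨d, hd⟩ * (⟨d, hd⟩ : L)⁻¹ :=
        Subtype.ext (by simp [x])
      have h2 : (f : L →* ℂˣ) x = 1 := by
        rw [hxe, map_mul, map_inv, h1, mul_inv_cancel]
      rw [map_one, show φ (x : L ⧸ N) = 1 from h2]
    -- coprime trick
    let π := QuotientGroup.mk' L0
    have hsd : π s * π d * (π s)⁻¹ = π d := by
      rw [← map_inv, ← map_mul, ← map_mul, ← mul_inv_eq_one, ← map_inv, ← map_mul]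
      exact (QuotientGroup.eq_one_iff _).2 hfix
    have key : ∀ n : ℕ, π s ^ n * π u * (π s ^ n)⁻¹ = π d ^ n * π u := by
      intro n
      induction n with
      | zero => simp
      | succ n ih =>
        calc π s ^ (n + 1) * π u * (π s ^ (n + 1))⁻¹
            = π s * (π s ^ n * π u * (π s ^ n)⁻¹) * (π s)⁻¹ := by rw [pow_succ']; group
          _ = (π s * π d * (π s)⁻¹) ^ n * (π s * π u * (π s)⁻¹) := by rw [ih, conj_pow]; group
          _ = π d ^ (n + 1) * π u := by
            rw [hsd, show π s * π u * (π s)⁻¹ = π d * π u by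
              rw [← map_inv, ← map_mul, ← map_mul, ← map_mul, hdd, inv_mul_cancel_right], pow_succ]
            group
    have hp1 := key p
    rw [← map_pow, hexp s hs, map_one, inv_one, one_mul, mul_one, eq_comm, mul_eq_right,
      ← map_pow] at hp1
    have hd0 : d ^ Nat.card U = 1 :=
      orderOf_dvd_iff_pow_eq_one.1 (U.orderOf_dvd_natCard (hLU hd))
    have h1 : π d = 1 := orderOf_eq_one_iff.1 (Nat.eq_one_of_dvd_coprimes
      (hp.out.coprime_iff_not_dvd.2 hU)
      (orderOf_dvd_of_pow_eq_one (by rw [← map_pow]; exact hp1))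
      (orderOf_dvd_of_pow_eq_one (by rw [← map_pow, hd0, map_one])))
    exact (QuotientGroup.eq_one_iff d).1 h1
  intro s₀ hs₀ hs₀n y k hyk
  -- a regular character
  have hV : ∀ f : sectionDual L L0, f ^ p = 1 → f = 1 := by
    intro f hf
    refine Subtype.ext (MonoidHom.ext fun x => ?_)
    have h1 : (f : L →* ℂˣ) x ^ p = 1 := by
      have := congrArg (fun F : sectionDual L L0 => (F : L →* ℂˣ) x) hf
      simpa using this
    have h2 : (f : L →* ℂˣ) x ^ Nat.card U = 1 := by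
      rw [← map_pow, show x ^ Nat.card U = 1 from Subtype.ext (by
        simpa using orderOf_dvd_iff_pow_eq_one.1 (U.orderOf_dvd_natCard (hLU x.2))), map_one]
    exact orderOf_eq_one_iff.1 (Nat.eq_one_of_dvd_coprimes (hp.out.coprime_iff_not_dvd.2 hU)
      (orderOf_dvd_of_pow_eq_one h1) (orderOf_dvd_of_pow_eq_one h2))
  obtain ⟨f, hf⟩ := exists_regular (p := p) (S := St) (V := sectionDual L L0)
    (fun a b => Subtype.ext (hcomm a a.2 b b.2)) (fun a => Subtype.ext (by simpa using hexp a a.2)) hV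
  let _ := Fintype.ofFinite L
  let lam : IrrCharacter L := ⟨fun x => (((f : L →* ℂˣ) x : ℂˣ) : ℂ), isIrrCharacter_of_hom _⟩
  obtain ⟨χ, hχ⟩ := CfsgLib.NormalRes.exists_mult_ne_zero_of_irr (G := G) L lam
  set T := Clifford.inertia hLn (lam : L → ℂ) with hT
  let _ := Fintype.ofFinite T
  obtain ⟨ψ, -, hind, -⟩ := Clifford.correspondence hLn lam.2 T hT
    (Clifford.le_inertia hLn (irr_isClassFunction lam)) χ.2 hχ
  refine ⟨χ, ?_⟩
  rw [← hind]
  refine CfsgLib.Induction.indFun_eq_zero_of_forall T fun x hx => ?_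
  -- `w` fixes `f`
  set w := x⁻¹ * s₀ * x with hw
  have hwT : w ∈ T := by
    have := pow_mem hx k
    rwa [show (x⁻¹ * y * x) ^ k = w by
      rw [hw, ← hyk]; simpa using conj_pow (a := x⁻¹) (b := y) (i := k)] at this
  have hwf : w • f = f := by
    have hmem := Clifford.mem_inertia.1 hwT
    have hwi : w⁻¹ • f = f := Subtype.ext (MonoidHom.ext fun z => Units.ext (by
      rw [hsmul]
      have h1 := hmem z
      simp only [inv_inv]
      exact Eq.trans (congrArg (fun t : L => (lam : L → ℂ) t) (Subtype.ext (by simp))) h1))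
    exact (inv_smul_eq_iff.1 hwi).symm
  have hwS : w ∈ St ⊔ U := by
    simpa using hS.conj_mem s₀ (Subgroup.mem_sup_left hs₀) x⁻¹
  obtain ⟨s, hs, u, hu, hsu⟩ := Subgroup.mem_sup_of_normal_right.1 hwS
  let ψG : G →* MulAut (sectionDual L L0) := MulDistribMulAction.toMulAut G _
  have hψ : ∀ (g : G) (v : sectionDual L L0), ψG g v = g • v := fun _ _ => rfl
  have hcm : Commute (ψG s) (ψG u) := by
    have h1 : ψG (s * u * s⁻¹ * u⁻¹) = 1 :=
      MulEquiv.ext fun v => hLtriv _ (hLc s hs u hu) v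
    rwa [map_mul, map_mul, map_mul, map_inv, map_inv, mul_inv_eq_one, mul_inv_eq_iff_eq_mul] at h1
  set m := Nat.card U with hm
  have hum : u ^ m = 1 := orderOf_dvd_iff_pow_eq_one.1 (U.orderOf_dvd_natCard hu)
  have hwm : ψG w ^ m = ψG (s ^ m) := by
    rw [← hsu, map_mul, hcm.mul_pow, ← map_pow, ← map_pow, hum, map_one, mul_one]
  have hsmf : s ^ m • f = f := by
    rw [← hψ, ← hwm, ← map_pow, hψ]
    exact MulAction.mem_stabilizer_iff.1 (pow_mem (MulAction.mem_stabilizer_iff.2 hwf) m)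
  obtain ⟨e, -, he⟩ := Nat.exists_mul_mod_eq_one_of_coprime
    ((hp.out.coprime_iff_not_dvd.2 hU).symm) hp.out.one_lt
  have hs1 : s = (s ^ m) ^ e := by
    rw [← pow_mul, ← pow_mod_orderOf]
    conv_lhs => rw [← pow_one s]
    rw [pow_eq_pow_iff_modEq]
    have hd : orderOf s ∣ p := orderOf_dvd_of_pow_eq_one (hexp s hs)
    exact ((Nat.mod_modEq _ _).trans
      ((show m * e ≡ 1 [MOD p] by rw [Nat.ModEq, hm, he, Nat.one_mod_eq_one.2 hp.out.ne_one]).of_dvd
        hd)).symm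
  have hsf : s • f = f := by
    rw [hs1]
    exact MulAction.mem_stabilizer_iff.1 (pow_mem (MulAction.mem_stabilizer_iff.2 hsmf) e)
  have hψs : ψG s = 1 := MulEquiv.ext fun v => hf ⟨s, hs⟩ hsf v
  have hψw : ψG w = 1 := by
    have h1 : ψG w = ψG u := by rw [← hsu, map_mul, hψs, one_mul]
    refine orderOf_eq_one_iff.1 (Nat.eq_one_of_dvd_coprimes (hp.out.coprime_iff_not_dvd.2 hU)
      (orderOf_dvd_of_pow_eq_one ?_) (orderOf_dvd_of_pow_eq_one ?_))
    · rw [← map_pow, hw]
      have : (x⁻¹ * s₀ * x) ^ p = 1 := by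
        have h2 := conj_pow (a := x⁻¹) (b := s₀) (i := p)
        rw [inv_inv] at h2
        rw [h2, hexp s₀ hs₀, mul_one, inv_mul_cancel]
      rw [this, map_one]
    · rw [h1, ← map_pow, hum, map_one]
  have hψ0 : ψG s₀ = 1 := by
    rw [show s₀ = x * w * x⁻¹ by rw [hw]; group, map_mul, map_mul, hψw, mul_one, map_inv,
      mul_inv_cancel]
  exact hs₀n ⟨hs₀, fun v => by rw [← hψ, hψ0]; rfl⟩

variable {p : ℕ} [hp : Fact p.Prime]

/-- No pair of commuting elements of order `p` with all elements outside one line acting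
fixed-point-freely. -/
theorem no_pair [Group.IsSolvable G] {U : Subgroup G} [U.Normal] (hU : ¬ p ∣ Nat.card U)
    (hCU : Subgroup.centralizer (U : Set G) ≤ U) {a c : G} (ha : a ^ p = 1) (hc : c ^ p = 1)
    (hac : a * c = c * a) (hcn : c ∉ Subgroup.zpowers a) (hane : a ≠ 1)
    (hb : ∀ b ∈ Subgroup.closure {a, c}, b ∉ Subgroup.zpowers a →
      ∀ u ∈ U, b * u = u * b → u = 1) : False := by
  have hnorm : ∀ g : G, g ∈ Subgroup.normalizer (U : Set G) := fun g => by
    rw [Subgroup.normalizer_eq_top_iff.2 inferInstance]; trivial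
  have hle : U ≤ U ⊓ Subgroup.centralizer {a} := by
    refine CoprimeGeneration.le_of_pair ha hc hac hcn hane _ U inferInstance
      (hp.out.coprime_iff_not_dvd.2 hU) (hnorm a) (hnorm c) fun b hbc hb1 x hx => ?_
    have hxb := Subgroup.mem_centralizer_singleton_iff.1 hx.2
    by_cases hba : b ∈ Subgroup.zpowers a
    · refine ⟨hx.1, Subgroup.mem_centralizer_singleton_iff.2 ?_⟩
      obtain ⟨i, hi⟩ := Subgroup.mem_zpowers_iff.1 hba
      have hao : orderOf a = p := orderOf_eq_prime ha hane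
      have hbp : orderOf b = p := orderOf_eq_prime (by
        rw [← hi, ← zpow_natCast, ← zpow_mul, mul_comm, zpow_mul, zpow_natCast, ha, one_zpow]) hb1
      have hza : a ∈ Subgroup.zpowers b := by
        rw [Subgroup.eq_of_le_of_card_ge (Subgroup.zpowers_le.2 hba)
          (by rw [Nat.card_zpowers, Nat.card_zpowers, hao, hbp])]
        exact Subgroup.mem_zpowers a
      obtain ⟨j, rfl⟩ := Subgroup.mem_zpowers_iff.1 hza
      exact ((show Commute x b from hxb).zpow_right j).eq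
    · rw [hb b hbc hba x hx.1 hxb.symm]
      exact ⟨one_mem _, one_mem _⟩
  have haU : a ∈ U := hCU (Subgroup.mem_centralizer_iff.2 fun u hu =>
    Subgroup.mem_centralizer_singleton_iff.1 (hle hu).2)
  exact hane (orderOf_eq_one_iff.1 (Nat.eq_one_of_dvd_coprimes (hp.out.coprime_iff_not_dvd.2 hU)
    (orderOf_dvd_of_pow_eq_one ha) (U.orderOf_dvd_natCard haU)))

/-- Vanishing elements of the quotient lift. -/
theorem vanishes_of_quotient (U : Subgroup G) [U.Normal] {y : G}
    (h : Vanishes (y : G ⧸ U)) : Vanishes y := by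
  obtain ⟨η, hη⟩ := h
  exact ⟨infl U η, hη⟩

/-- An element of a normal `p`-subgroup with a nontrivial central commutator vanishes. -/
theorem vanishes_of_commutator (W : Subgroup G) [W.Normal] (Z : Subgroup G) [Z.Normal]
    (hZW : Z ≤ W) (hZp : (Nat.card Z).Prime) (hcent : ∀ z ∈ Z, ∀ w ∈ W, z * w = w * z) {x w : G}
    (hx : x ∈ W) (hw : w ∈ W) (hc : x * w * x⁻¹ * w⁻¹ ∈ Z) (hne : x * w ≠ w * x) : Vanishes x := by
  classical
  let _ := Fintype.ofFinite G
  let _ := Fintype.ofFinite W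
  set c := x * w * x⁻¹ * w⁻¹ with hcdef
  have hc1 : c ≠ 1 := fun h => hne (by rwa [hcdef, mul_inv_eq_one, mul_inv_eq_iff_eq_mul] at h)
  obtain ⟨χ, hχ⟩ : ∃ χ : IrrCharacter G, (χ : G → ℂ) c ≠ (χ : G → ℂ) 1 := by
    by_contra! hcon
    exact hc1 (eq_one_of_forall_irr hcon)
  refine ⟨χ, ?_⟩
  rw [show (χ : G → ℂ) x = (χ : G → ℂ) ((⟨x, hx⟩ : W) : G) from rfl,
    NormalRes.res_eq_sum W (irr_isClassFunction χ)]
  refine Finset.sum_eq_zero fun θ _ => ?_
  by_cases hm : NormalRes.mult W (χ : G → ℂ) θ = 0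
  · rw [hm, zero_mul]
  refine mul_eq_zero_of_right _ ?_
  let cW : W := ⟨c, hZW hc⟩
  have hθc : (θ : W → ℂ) cW ≠ (θ : W → ℂ) 1 := by
    intro hθc
    apply hχ
    have hall : ∀ z : W, (z : G) ∈ Z → z ∈ irrKer θ := by
      intro z hz
      have h1 : Subgroup.zpowers c = Z := Subgroup.eq_of_le_of_card_ge (Subgroup.zpowers_le.2 hc) (by
        rw [Nat.card_zpowers]
        rcases hZp.eq_one_or_self_of_dvd _ (Z.orderOf_dvd_natCard hc) with h | h
        · exact absurd (orderOf_eq_one_iff.1 h) hc1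
        · rw [h])
      obtain ⟨i, hi⟩ := Subgroup.mem_zpowers_iff.1 (h1 ▸ hz)
      rw [show z = cW ^ i from Subtype.ext (by simpa [cW] using hi.symm)]
      exact zpow_mem (mem_irrKer.2 hθc) i
    have hη : ∀ η : IrrCharacter W, NormalRes.mult W (χ : G → ℂ) η ≠ 0 →
        (η : W → ℂ) cW = (η : W → ℂ) 1 := by
      intro η hη
      obtain ⟨g, rfl⟩ := NormalRes.exists_conj_of_constituents W χ hm hη
      rw [BrauerPerm.twistIrr_apply, BrauerPerm.twistIrr_apply, map_one]
      refine mem_irrKer.1 (hall _ ?_)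
      rw [MulAut.conjNormal_symm_apply]
      simpa [cW] using (inferInstance : Z.Normal).conj_mem c hc g⁻¹
    have h1 := NormalRes.res_eq_sum W (irr_isClassFunction χ) cW
    have h2 := NormalRes.res_eq_sum W (irr_isClassFunction χ) 1
    simp only [OneMemClass.coe_one] at h2
    show (χ : G → ℂ) ((cW : W) : G) = _
    rw [h1, h2]
    refine Finset.sum_congr rfl fun η _ => ?_
    by_cases h0 : NormalRes.mult W (χ : G → ℂ) η = 0
    · rw [h0, zero_mul, zero_mul]
    · rw [hη η h0]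
  obtain ⟨n, ρ, hρ, hθ⟩ := θ.2
  haveI := hρ
  obtain ⟨ω, hω⟩ := CfsgLib.CharScalar.center_scalar (ρ := ρ) (z := cW)
    (Subgroup.mem_center_iff.2 fun b => Subtype.ext (hcent c hc b b.2).symm)
  have hmul : ∀ b : W, (θ : W → ℂ) (cW * b) = ω * (θ : W → ℂ) b := fun b => by
    rw [← hθ]
    simp only [Representation.character, map_mul, hω, smul_mul_assoc, one_mul, map_smul,
      smul_eq_mul]
  have h1 : (θ : W → ℂ) ⟨x, hx⟩ = ω * (θ : W → ℂ) ⟨x, hx⟩ := by
    conv_rhs => rw [← irr_isClassFunction θ ⟨x, hx⟩ ⟨w, hw⟩]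
    rw [← hmul]
    exact congrArg _ (Subtype.ext (by simp [cW, hcdef, mul_assoc]))
  have hω1 : ω ≠ 1 := fun h => hθc (by
    have := hmul 1
    rwa [mul_one, h, one_mul] at this)
  by_contra h0
  exact hω1 (mul_eq_right₀ h0 |>.1 h1.symm)

omit hp in
theorem pow_eq_one_of_mem_zpowers {a b : G} {n : ℕ} (h : b ∈ Subgroup.zpowers a) (ha : a ^ n = 1) :
    b ^ n = 1 := by
  obtain ⟨i, rfl⟩ := Subgroup.mem_zpowers_iff.1 h
  rw [← zpow_natCast, ← zpow_mul, mul_comm, zpow_mul, zpow_natCast, ha, one_zpow]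

/-- The Sylow `p`-subgroup is cyclic. -/
theorem isCyclic_sylow [Group.IsSolvable G] (h : VHyp p G) (hcore : Cfsg.pCore p G = ⊥)
    (P : Sylow p G) : IsCyclic (P : Subgroup G) := by
  classical
  set U := Cfsg.pPrimeCore p G with hUdef
  haveI hUn : U.Normal := Cfsg.pPrimeCore_normal p G
  have hU : ¬ p ∣ Nat.card U := CfsgLib.PCore.not_dvd_card_pPrimeCore
  have hCU : Subgroup.centralizer (U : Set G) ≤ U :=
    CfsgLib.DualHallHigman.centralizer_pPrimeCore_le CfsgLib.PCore.isPSolvable_of_isSolvable hcore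
  let π := QuotientGroup.mk' U
  haveI : Group.IsSolvable (G ⧸ U) :=
    Group.isSolvable_of_surjective (QuotientGroup.mk'_surjective U)
  have hQ0 : Cfsg.pPrimeCore p (G ⧸ U) = ⊥ := CfsgLib.PCore.pPrimeCore_quotient_pPrimeCore
  set W := Cfsg.pCore p (G ⧸ U) with hWdef
  haveI hWn : W.Normal := Cfsg.pCore_normal p _
  have hWp : IsPGroup p W := CfsgLib.PCore.pCore_isPGroup
  have hPU : ∀ x ∈ (P : Subgroup G), x ∈ U → x = 1 := fun x hx hxU => by
    obtain ⟨i, hi⟩ := P.2 ⟨x, hx⟩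
    exact orderOf_eq_one_iff.1 (Nat.eq_one_of_dvd_coprimes
      ((hp.out.coprime_iff_not_dvd.2 hU).pow_left i)
      (orderOf_dvd_of_pow_eq_one (by simpa using congrArg Subtype.val hi)) (U.orderOf_dvd_natCard hxU))
  have hinj : ∀ x ∈ (P : Subgroup G), ∀ y ∈ (P : Subgroup G), π x = π y → x = y := by
    intro x hx y hy hxy
    rw [← inv_mul_eq_one]
    exact hPU _ (mul_mem (inv_mem hx) hy) (QuotientGroup.eq.1 hxy)
  let Pq : Sylow p (G ⧸ U) := P.mapSurjective (QuotientGroup.mk'_surjective U)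
  have hPq : (Pq : Subgroup (G ⧸ U)) = (P : Subgroup G).map π := rfl
  have hWP : ∀ q ∈ W, ∃ x ∈ (P : Subgroup G), π x = q := fun q hq => by
    have := CfsgLib.PCore.pCore_le_sylow Pq hq
    rwa [hPq] at this
  -- the elementary central part of `W`
  let S : Subgroup (G ⧸ U) :=
    { carrier := {q | q ∈ W ∧ q ^ p = 1 ∧ ∀ w ∈ W, q * w = w * q}
      one_mem' := ⟨one_mem W, one_pow _, fun w _ => by rw [one_mul, mul_one]⟩
      mul_mem' := fun {a b} ha hb => ⟨mul_mem ha.1 hb.1, by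
          rw [(show Commute a b from ha.2.2 b hb.1).mul_pow, ha.2.1, hb.2.1, one_mul],
        fun w hw => by rw [mul_assoc, hb.2.2 w hw, ← mul_assoc, ha.2.2 w hw, mul_assoc]⟩
      inv_mem' := fun {a} ha => ⟨inv_mem ha.1, by rw [inv_pow, ha.2.1, inv_one],
        fun w hw => ((show Commute a w from ha.2.2 w hw).inv_left).eq⟩ }
  haveI hSn : S.Normal := ⟨fun q hq g => ⟨hWn.conj_mem q hq.1 g, by
      rw [conj_pow, hq.2.1, mul_one, mul_inv_cancel],
    fun w hw => by
      have h1 := hq.2.2 _ (by simpa using hWn.conj_mem w hw g⁻¹ : g⁻¹ * w * g ∈ W)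
      calc g * q * g⁻¹ * w = g * (q * (g⁻¹ * w * g)) * g⁻¹ := by group
        _ = w * (g * q * g⁻¹) := by rw [h1]; group⟩⟩
  by_cases hW1 : W = ⊥
  · -- `G ⧸ U` is trivial
    rcases subsingleton_or_nontrivial (G ⧸ U) with hs | hnt
    · haveI : Subsingleton (P : Subgroup G) := ⟨fun x y => Subtype.ext
        (hinj x x.2 y y.2 (Subsingleton.elim _ _))⟩
      exact isCyclic_of_subsingleton
    · rcases CfsgLib.PCore.pCore_ne_bot_or_pPrimeCore_ne_bot (p := p) (G := G ⧸ U)
        CfsgLib.PCore.isPSolvable_of_isSolvable with h0 | h0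
      · exact absurd hW1 h0
      · exact absurd hQ0 h0
  have hSne : S ≠ ⊥ := by
    haveI : Nontrivial W := (Subgroup.nontrivial_iff_ne_bot W).2 hW1
    haveI := hWp.center_nontrivial
    obtain ⟨⟨z, hz⟩, hz1⟩ := exists_ne (1 : Subgroup.center W)
    obtain ⟨k, hk⟩ := hWp z
    have hzc : (z : G ⧸ U) ≠ 1 := fun h0 => hz1 (Subtype.ext (Subtype.ext h0))
    have hex : ∃ j, (z : G ⧸ U) ^ p ^ j = 1 := ⟨k, by simpa using congrArg Subtype.val hk⟩
    have h0 : Nat.find hex ≠ 0 := fun h0 => hzc (by simpa [h0] using Nat.find_spec hex)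
    obtain ⟨j, hj⟩ := Nat.exists_eq_succ_of_ne_zero h0
    intro hbot
    refine Nat.find_min hex (show j < Nat.find hex by omega) (Subgroup.mem_bot.1
      (hbot ▸ (?_ : (z : G ⧸ U) ^ p ^ j ∈ S)))
    refine ⟨pow_mem z.2 _, ?_, fun w hw => ?_⟩
    · have := Nat.find_spec hex
      rwa [hj, pow_succ, pow_mul] at this
    · exact ((show Commute (z : G ⧸ U) w from congrArg Subtype.val
        (Subgroup.mem_center_iff.1 hz ⟨w, hw⟩).symm).pow_left _).eq
  -- its preimage in `P`
  set St := (P : Subgroup G) ⊓ S.comap π with hSt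
  have hStc : ∀ a ∈ St, ∀ b ∈ St, a * b = b * a := fun a ha b hb =>
    hinj _ (mul_mem ha.1 hb.1) _ (mul_mem hb.1 ha.1) (by
      rw [map_mul, map_mul]; exact ha.2.2.2 _ hb.2.1)
  have hStp : ∀ a ∈ St, a ^ p = 1 := fun a ha =>
    hinj _ (pow_mem ha.1 p) _ (one_mem _) (by rw [map_pow, map_one]; exact ha.2.2.1)
  have hStS : ∀ q ∈ S, ∃ s ∈ St, π s = q := fun q hq => by
    obtain ⟨x, hx, rfl⟩ := hWP q hq.1
    exact ⟨x, ⟨hx, hq⟩, rfl⟩
  haveI hStU : (St ⊔ U).Normal := by
    have he : St ⊔ U = S.comap π := by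
      refine le_antisymm (sup_le inf_le_right fun x hx => ?_) fun x hx => ?_
      · show π x ∈ S
        rw [show π x = 1 from (QuotientGroup.eq_one_iff x).2 hx]
        exact one_mem S
      · obtain ⟨s, hs, hse⟩ := hStS _ hx
        rw [← mul_inv_cancel_left s x]
        exact mul_mem (Subgroup.mem_sup_left hs) (Subgroup.mem_sup_right (QuotientGroup.eq.1 hse))
    rw [he]
    exact hSn.comap π
  obtain ⟨s₁, hs₁, hs₁1⟩ : ∃ s ∈ St, s ≠ 1 := by
    obtain ⟨⟨q, hq⟩, hq1⟩ := Subgroup.ne_bot_iff_exists_ne_one.1 hSne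
    obtain ⟨s, hs, rfl⟩ := hStS q hq
    exact ⟨s, hs, fun h0 => hq1 (Subtype.ext (by simp [h0]))⟩
  have hfaith : ∃ s ∈ St, ∃ u ∈ U, s * u ≠ u * s := by
    by_contra! hcon
    exact hs₁1 (hPU s₁ hs₁.1
      (hCU (Subgroup.mem_centralizer_iff.2 fun u hu => (hcon s₁ hs₁ u hu).symm)))
  obtain ⟨St0, hSt0, hSt0', hvan⟩ := exists_kernel_vanishes U St hU hStc hStp hfaith
  have hUpow : ∀ u ∈ U, ∃ m, ¬ p ∣ m ∧ u ^ m = 1 := fun u hu =>
    ⟨_, hU, orderOf_dvd_iff_pow_eq_one.1 (U.orderOf_dvd_natCard hu)⟩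
  have hfpf : ∀ s ∈ St, s ∉ St0 → ∀ u ∈ U, s * u = u * s → u = 1 := by
    intro s hs hs0 u hu hsu
    by_contra hu1
    refine h.mixed s u ⟨1, by rw [pow_one]; exact hStp s hs⟩ (fun h0 => hs0 (h0 ▸ one_mem _))
      (hvan s hs hs0 s 1 (pow_one s)) hsu hu1 (hUpow u hu) ?_
    obtain ⟨k, hk1, hk2⟩ := Nat.chineseRemainder (hp.out.coprime_iff_not_dvd.2 hU) 1 0
    refine hvan s hs hs0 _ k ?_
    rw [(show Commute s u from hsu).mul_pow,
      orderOf_dvd_iff_pow_eq_one.1 ((U.orderOf_dvd_natCard hu).trans (Nat.modEq_zero_iff_dvd.1 hk2)),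
      mul_one]
    conv_rhs => rw [← pow_one s]
    rw [pow_eq_pow_iff_modEq]
    exact hk1.of_dvd (orderOf_dvd_of_pow_eq_one (hStp s hs))
  have hzp : ∀ a ∈ St, ∀ b ∈ Subgroup.zpowers a, b ∈ St :=
    fun a ha b hb => Subgroup.zpowers_le.2 ha hb
  have hStSt0 : ∀ s ∈ St0, s = 1 := by
    intro a ha
    by_contra ha1
    obtain ⟨c, hc, hc0⟩ := SetLike.not_le_iff_exists.1 hSt0'
    have hca : c ∉ Subgroup.zpowers a := fun hh => hc0 (Subgroup.zpowers_le.2 ha hh)
    have hao : orderOf a = p := orderOf_eq_prime (hStp a (hSt0 ha)) ha1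
    have hac : Commute a c := hStc a (hSt0 ha) c hc
    refine no_pair hU hCU (hStp a (hSt0 ha)) (hStp c hc) hac.eq hca ha1
      fun b hb hba => hfpf b ?_ ?_
    · exact (Subgroup.closure_le St).2 (by rintro x (rfl | rfl); exacts [hSt0 ha, hc]) hb
    · intro hb0
      obtain ⟨i, j, hij⟩ : ∃ i j : ℤ, a ^ i * c ^ j = b := by
        let T : Subgroup G :=
          { carrier := {x | ∃ i j : ℤ, a ^ i * c ^ j = x}
            one_mem' := ⟨0, 0, by simp⟩
            mul_mem' := by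
              rintro x y ⟨i, j, rfl⟩ ⟨i', j', rfl⟩
              exact ⟨i + i', j + j', by
                rw [zpow_add, zpow_add, (hac.zpow_zpow i' j).mul_mul_mul_comm]⟩
            inv_mem' := by
              rintro x ⟨i, j, rfl⟩
              exact ⟨-i, -j, by rw [mul_inv_rev, zpow_neg, zpow_neg,
                ((hac.zpow_zpow i j).inv_inv).eq]⟩ }
        exact (Subgroup.closure_le T).2 (by
          rintro x (rfl | rfl)
          exacts [⟨1, 0, by simp⟩, ⟨0, 1, by simp⟩]) hb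
      have hcj : c ^ j ∈ St0 := by
        rw [show c ^ j = (a ^ i)⁻¹ * b by rw [← hij, inv_mul_cancel_left]]
        exact mul_mem (inv_mem (zpow_mem ha i)) hb0
      have hj : c ^ j = 1 := by
        by_contra hj1
        apply hc0
        have hco : orderOf c = p := orderOf_eq_prime (hStp c hc) (fun h0 => hc0 (h0 ▸ one_mem _))
        have hjo : orderOf (c ^ j) = p := orderOf_eq_prime
          (pow_eq_one_of_mem_zpowers (Subgroup.zpow_mem_zpowers c j) (hStp c hc)) hj1
        have hcc : c ∈ Subgroup.zpowers (c ^ j) := by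
          rw [Subgroup.eq_of_le_of_card_ge (Subgroup.zpowers_le.2 (Subgroup.zpow_mem_zpowers c j))
            (by rw [Nat.card_zpowers, Nat.card_zpowers, hco, hjo])]
          exact Subgroup.mem_zpowers c
        exact Subgroup.zpowers_le.2 hcj hcc
      apply hba
      rw [← hij, hj, mul_one]
      exact Subgroup.zpow_mem_zpowers a i
  have hfpf' : ∀ s ∈ St, s ≠ 1 → ∀ u ∈ U, s * u = u * s → u = 1 :=
    fun s hs hs1 => hfpf s hs fun h0 => hs1 (hStSt0 s h0)
  have hStcyc : St = Subgroup.zpowers s₁ := by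
    refine le_antisymm (fun c hc => ?_) (Subgroup.zpowers_le.2 hs₁)
    by_contra hca
    exact no_pair hU hCU (hStp s₁ hs₁) (hStp c hc) (hStc s₁ hs₁ c hc) hca hs₁1 fun b hb hba =>
      hfpf' b ((Subgroup.closure_le St).2 (by rintro x (rfl | rfl); exacts [hs₁, hc]) hb)
        fun h0 => hba (h0 ▸ one_mem _)
  have hord : ∀ y ∈ (P : Subgroup G), y ≠ 1 → p ∣ orderOf y := fun y hy hy1 => by
    obtain ⟨i, hi⟩ := P.2 ⟨y, hy⟩
    obtain ⟨j, -, hj⟩ := (Nat.dvd_prime_pow hp.out).1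
      (orderOf_dvd_of_pow_eq_one (x := y) (n := p ^ i) (by simpa using congrArg Subtype.val hi))
    rcases Nat.eq_zero_or_pos j with rfl | hj0
    · exact absurd (orderOf_eq_one_iff.1 (by simpa using hj)) hy1
    · exact hj ▸ dvd_pow_self p hj0.ne'
  have hno : ∀ y ∈ (P : Subgroup G), Vanishes y → y ^ p ∈ St → y ^ p = 1 := by
    intro y hy hvy hyp
    by_contra hne
    exact h.pow y hvy (hord y hy fun h0 => hne (by rw [h0, one_pow]))
      (hvan _ hyp (fun h0 => hne (hStSt0 _ h0)) _ 1 (pow_one _)) (hord _ (pow_mem hy p) hne)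
  -- the centre of `W` is `S`
  have hZS : ∀ q ∈ W, (∀ w ∈ W, q * w = w * q) → q ∈ S := by
    intro q hq hqc
    obtain ⟨y, hy, rfl⟩ := hWP q hq
    by_contra hqS
    have hex : ∃ j, (π y) ^ p ^ j ∈ S := by
      obtain ⟨i, hi⟩ := P.2 ⟨y, hy⟩
      exact ⟨i, by
        rw [← map_pow, show y ^ p ^ i = 1 by simpa using congrArg Subtype.val hi, map_one]
        exact one_mem S⟩
    have h0 : Nat.find hex ≠ 0 := fun h0 => hqS (by simpa [h0] using Nat.find_spec hex)
    obtain ⟨j, hj⟩ := Nat.exists_eq_succ_of_ne_zero h0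
    have hjS := Nat.find_min hex (show j < Nat.find hex by omega)
    have hspec := Nat.find_spec hex
    rw [hj, Nat.succ_eq_add_one, pow_succ, pow_mul] at hspec
    set z := y ^ p ^ j with hz
    rw [← map_pow, ← hz] at hjS hspec
    have hzP : z ∈ (P : Subgroup G) := pow_mem hy _
    have hzpSt : z ^ p ∈ St := ⟨pow_mem hzP p, by
      show π (z ^ p) ∈ S
      rw [map_pow]; exact hspec⟩
    have hne : z ^ p ≠ 1 := fun h0 => hjS ⟨by rw [hz, map_pow]; exact pow_mem hq _,
      by rw [← map_pow, h0, map_one],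
      fun w hw => by
        rw [hz, map_pow]
        exact ((show Commute (π y) w from hqc w hw).pow_left _).eq⟩
    exact hne (hno z hzP (hvan _ hzpSt (fun h0 => hne (hStSt0 _ h0)) z p rfl) hzpSt)
  haveI hScard : Fact (Nat.card S = p) := ⟨by
    have : S = (Subgroup.zpowers s₁).map π := by
      refine le_antisymm (fun q hq => ?_) ?_
      · obtain ⟨s, hs, rfl⟩ := hStS q hq
        exact Subgroup.mem_map_of_mem _ (hStcyc ▸ hs)
      · rw [Subgroup.map_le_iff_le_comap, ← hStcyc]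
        exact inf_le_right
    rw [this, MonoidHom.map_zpowers, Nat.card_zpowers]
    refine orderOf_eq_prime ?_ fun h0 => hs₁1 (hinj _ hs₁.1 _ (one_mem _) (h0.trans (map_one π).symm))
    rw [← map_pow, hStp s₁ hs₁, map_one]⟩
  by_cases habel : ∀ a ∈ W, ∀ b ∈ W, a * b = b * a
  · -- `W` has order `p` and is the image of `P`
    have hWS : W ≤ S := fun q hq => hZS q hq (habel q hq)
    have hCW : Subgroup.centralizer (W : Set (G ⧸ U)) ≤ W :=
      CfsgLib.PCore.centralizer_pCore_le CfsgLib.PCore.isPSolvable_of_isSolvable hQ0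
    have hWle : W ≤ (Pq : Subgroup (G ⧸ U)) := CfsgLib.PCore.pCore_le_sylow Pq
    have hPW : (Pq : Subgroup (G ⧸ U)) ≤ S := by
      intro x hx
      refine hWS (hCW (Subgroup.mem_centralizer_iff.2 fun w hw => ?_))
      haveI : (W.subgroupOf (Pq : Subgroup (G ⧸ U))).Normal := inferInstance
      have hcard : Nat.card (W.subgroupOf (Pq : Subgroup (G ⧸ U))) = p := by
        rw [Nat.card_congr (Subgroup.subgroupOfEquivOfLe hWle).toEquiv]
        have h1 : Nat.card W ∣ p := (Subgroup.card_dvd_of_le hWS).trans (dvd_of_eq hScard.out)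
        rcases (Nat.dvd_prime hp.out).1 h1 with h2 | h2
        · exact absurd (Subgroup.card_eq_one.1 h2) hW1
        · exact h2
      have := CfsgLib.Chars17.PGalois.le_center_of_card_eq (p := p) Pq.2 _ hcard
        (show (⟨w, hWle hw⟩ : (Pq : Subgroup (G ⧸ U))) ∈ W.subgroupOf _ from hw)
      exact congrArg Subtype.val (Subgroup.mem_center_iff.1 this ⟨x, hx⟩).symm
    have hPS : (P : Subgroup G) ≤ St := fun x hx => ⟨hx, hPW (by
      rw [hPq]; exact Subgroup.mem_map_of_mem _ hx)⟩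
    rw [le_antisymm (hPS.trans hStcyc.le) (hStcyc ▸ inf_le_left)]
    exact inferInstance
  exfalso
  push Not at habel
  -- an element of the second centre
  let W1 := Subgroup.center W
  obtain ⟨a, ha, b, hb, hab⟩ := habel
  have htop : W1 ≠ ⊤ := fun h0 => hab (congrArg Subtype.val
    (Subgroup.mem_center_iff.1 (h0 ▸ Subgroup.mem_top (⟨b, hb⟩ : W)) ⟨a, ha⟩))
  haveI : Nontrivial (W ⧸ W1) := QuotientGroup.nontrivial_iff.2 htop
  haveI := (hWp.to_quotient W1).center_nontrivial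
  obtain ⟨⟨x', hx'⟩, hx'1⟩ := exists_ne (1 : Subgroup.center (W ⧸ W1))
  obtain ⟨⟨q, hq⟩, rfl⟩ := QuotientGroup.mk_surjective x'
  have hqnc : ¬ ∀ w ∈ W, q * w = w * q := fun h0 => hx'1 (Subtype.ext
    ((QuotientGroup.eq_one_iff _).2 (Subgroup.mem_center_iff.2 fun w =>
      Subtype.ext (h0 w w.2).symm)))
  have hqcomm : ∀ w ∈ W, q * w * q⁻¹ * w⁻¹ ∈ S := by
    intro w hw
    have h1 := Subgroup.mem_center_iff.1 hx' ((⟨w, hw⟩ : W) : W ⧸ W1)
    have h2 : (⟨q, hq⟩ * ⟨w, hw⟩ * ⟨q, hq⟩⁻¹ * ⟨w, hw⟩⁻¹ : W) ∈ W1 := by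
      rw [← QuotientGroup.eq_one_iff]
      simp only [QuotientGroup.mk_mul, QuotientGroup.mk_inv]
      rw [← h1]
      group
    refine hZS _ (mul_mem (mul_mem (mul_mem hq hw) (inv_mem hq)) (inv_mem hw)) fun v hv => ?_
    exact congrArg Subtype.val (Subgroup.mem_center_iff.1 h2 ⟨v, hv⟩).symm
  have hcW : ∀ z ∈ S, ∀ w ∈ W, z * w = w * z := fun z hz => hz.2.2
  -- every such element vanishes
  have hvanq : ∀ r ∈ W, (∀ w ∈ W, r * w * r⁻¹ * w⁻¹ ∈ S) → r ∉ S → Vanishes r := by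
    intro r hr hrc hrS
    obtain ⟨w, hw, hne⟩ : ∃ w ∈ W, r * w ≠ w * r := by
      by_contra! hcon
      exact hrS (hZS r hr hcon)
    exact vanishes_of_commutator W S (fun z hz => hz.1) (hScard.out.symm ▸ hp.out) hcW hr hw
      (hrc w hw) hne
  have hqS : q ∉ S := fun h0 => hqnc h0.2.2
  obtain ⟨y, hy, rfl⟩ := hWP q hq
  have hyvan : Vanishes y := vanishes_of_quotient U (hvanq _ hq hqcomm hqS)
  have hypS : π y ^ p ∈ S := by
    refine hZS _ (pow_mem hq p) fun w hw => ?_
    set d := π y * w * (π y)⁻¹ * w⁻¹ with hd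
    have hdS := hqcomm w hw
    rw [← hd] at hdS
    have h1 : π y * w * (π y)⁻¹ = d * w := by rw [hd, inv_mul_cancel_right]
    have key : ∀ n : ℕ, π y ^ n * w * (π y ^ n)⁻¹ = d ^ n * w := by
      intro n
      induction n with
      | zero => simp
      | succ n ih =>
        calc π y ^ (n + 1) * w * (π y ^ (n + 1))⁻¹
            = π y * (π y ^ n * w * (π y ^ n)⁻¹) * (π y)⁻¹ := by rw [pow_succ']; group
          _ = (π y * d * (π y)⁻¹) ^ n * (π y * w * (π y)⁻¹) := by rw [ih, conj_pow]; group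
          _ = d ^ (n + 1) * w := by
            rw [← hdS.2.2 _ hq, mul_inv_cancel_right, h1, pow_succ]; group
    have := key p
    rwa [hdS.2.1, one_mul, mul_inv_eq_iff_eq_mul] at this
  have hyp1 : y ^ p = 1 := hno y hy hyvan ⟨pow_mem hy p, by
    show π (y ^ p) ∈ S
    rw [map_pow]; exact hypS⟩
  have hy1 : y ∉ Subgroup.zpowers s₁ := fun h0 => hqS (hzp s₁ hs₁ y h0).2
  have hcy : Commute s₁ y :=
    hinj _ (mul_mem hs₁.1 hy) _ (mul_mem hy hs₁.1) (by
      rw [map_mul, map_mul]; exact hcW _ hs₁.2 _ hq)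
  refine no_pair hU hCU (hStp s₁ hs₁) hyp1 hcy.eq hy1 hs₁1 fun b hb hbz u hu hbu => ?_
  let T : Subgroup (G ⧸ U) :=
    { carrier := {r | r ∈ W ∧ ∀ w ∈ W, r * w * r⁻¹ * w⁻¹ ∈ S}
      one_mem' := ⟨one_mem W, fun w _ => by simpa using one_mem S⟩
      mul_mem' := fun {a b} ha hb => ⟨mul_mem ha.1 hb.1, fun w hw => by
        rw [show a * b * w * (a * b)⁻¹ * w⁻¹ =
          a * (b * w * b⁻¹ * w⁻¹) * a⁻¹ * (a * w * a⁻¹ * w⁻¹) by group]
        exact mul_mem (hSn.conj_mem _ (hb.2 w hw) a) (ha.2 w hw)⟩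
      inv_mem' := fun {a} ha => ⟨inv_mem ha.1, fun w hw => by
        rw [show a⁻¹ * w * a⁻¹⁻¹ * w⁻¹ = a⁻¹ * (a * w * a⁻¹ * w⁻¹)⁻¹ * a⁻¹⁻¹ by group]
        exact hSn.conj_mem _ (inv_mem (ha.2 w hw)) a⁻¹⟩ }
  have hbT : π b ∈ T ∧ b ∈ (P : Subgroup G) := by
    have hle : Subgroup.closure {s₁, y} ≤ T.comap π ⊓ (P : Subgroup G) := by
      rw [Subgroup.closure_le]
      rintro x (rfl | rfl)
      · refine ⟨⟨hs₁.2.1, fun w hw => ?_⟩, hs₁.1⟩
        rw [hs₁.2.2.2 w hw, mul_inv_cancel_right, mul_inv_cancel]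
        exact one_mem S
      · exact ⟨⟨hq, hqcomm⟩, hy⟩
    exact hle hb
  have hbS : π b ∉ S := fun h0 => hbz (hStcyc ▸ (⟨hbT.2, h0⟩ : b ∈ St))
  have hvb : Vanishes (π b) := hvanq _ hbT.1.1 hbT.1.2 hbS
  by_contra hu1
  refine h.mixed b u ?_ (fun h0 => hbz (h0 ▸ one_mem _)) (vanishes_of_quotient U hvb) hbu hu1
    (hUpow u hu) (vanishes_of_quotient U ?_)
  · obtain ⟨i, hi⟩ := P.2 ⟨b, hbT.2⟩
    exact ⟨i, by simpa using congrArg Subtype.val hi⟩
  · rw [QuotientGroup.mk_mul, (QuotientGroup.eq_one_iff u).2 hu, mul_one]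
    exact hvb

end CfsgLib.Chars17.Vanishing
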